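import Cfsg.Agent.Lib.H38.FamilyControl

/-!
# Isolation of central elements from the centric local subgroups
-/

set_option autoImplicit false

namespace H5.Centric

open Subgroup hiding mem_normalizer_iff'
open H38.Basic H38.Alperin H38.FamilyControl

universe u

variable {G : Type u} [Group G]

/-- Conjugation by `g` on `A` is realized by an element commuting with `t`. -/
def Rel (t : G) (A : Set G) (g : G) : Prop :=
  ∃ h, h * t = t * h ∧ ∀ a ∈ A, h * a * h⁻¹ = g * a * g⁻¹

theorem isFusionRel (t : G) : IsFusionRel (Rel t) where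
  trans := by
    rintro A g h ⟨u, hu, hu'⟩ ⟨v, hv, hv'⟩
    refine ⟨v * u, ?_, fun a ha => ?_⟩
    · rw [mul_assoc, hu, ← mul_assoc, hv, mul_assoc]
    · have h1 := hv' _ (mem_cj (g := g) ha)
      calc v * u * a * (v * u)⁻¹ = v * (u * a * u⁻¹) * v⁻¹ := by group
        _ = v * (g * a * g⁻¹) * v⁻¹ := by rw [hu' a ha]
        _ = h * (g * a * g⁻¹) * h⁻¹ := h1
        _ = h * g * a * (h * g)⁻¹ := by group
  symm := by
    rintro A g ⟨u, hu, hu'⟩
    refine ⟨u⁻¹, ?_, ?_⟩
    · rw [inv_mul_eq_iff_eq_mul, ← mul_assoc, hu, mul_assoc, mul_inv_cancel, mul_one]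
    · rintro _ ⟨a, ha, rfl⟩
      simp only
      rw [← hu' a ha]
      have h1 := hu' a ha
      calc u⁻¹ * (u * a * u⁻¹) * u⁻¹⁻¹ = a := by group
        _ = g⁻¹ * (g * a * g⁻¹) * g⁻¹⁻¹ := by group
        _ = g⁻¹ * (u * a * u⁻¹) * g⁻¹⁻¹ := by rw [h1]
  mono := by
    rintro A B g hAB ⟨u, hu, hu'⟩
    exact ⟨u, hu, fun a ha => hu' a (hAB ha)⟩

variable [Finite G] {p : ℕ} [Fact p.Prime]

/-- A central element of a Sylow subgroup which is centralized by the normalizers of its fully
normalized centric subgroups containing it controls fusion. -/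
theorem rel_of_centric (S : Sylow p G) {t : G} (htS : t ∈ (S : Subgroup G))
    (htc : ∀ s ∈ (S : Subgroup G), s * t = t * s)
    (hloc : ∀ U : Subgroup G, U ≤ S → t ∈ U →
      IsSyl p ((S : Subgroup G) ⊓ Subgroup.normalizer (U : Set G)) (Subgroup.normalizer (U : Set G)) →
      (S : Subgroup G) ⊓ Subgroup.centralizer (U : Set G) ≤ U →
      ∀ n ∈ Subgroup.normalizer (U : Set G), n * t = t * n) :
    ∀ Q : Subgroup G, Q ≤ S → ∀ x : G, Q.map (MulAut.conj x).toMonoidHom ≤ (S : Subgroup G) →
      Rel t (Q : Set G) x := by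
  have key : ∀ d m : ℕ, Nat.card (S : Subgroup G) < d + m → ∀ Q : Subgroup G, Q ≤ (S : Subgroup G) →
      m ≤ Nat.card Q → ∀ x : G, Q.map (MulAut.conj x).toMonoidHom ≤ (S : Subgroup G) →
      Rel t (Q : Set G) x := by
    intro d
    induction d with
    | zero =>
      intro m hm Q hQ h
      have := Subgroup.card_le_of_le hQ
      omega
    | succ d ih =>
      intro m hm Q hQ hmQ x hx
      refine alperin_abs S (isFusionRel t) m ?_ ?_ Q hQ hmQ x hx
      · intro y hy
        refine ⟨y, ?_, fun a _ => rfl⟩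
        refine hloc S le_rfl htS ?_ inf_le_left y hy
        rw [inf_eq_left.2 Subgroup.le_normalizer]
        exact (isSyl_sylow S).of_le Subgroup.le_normalizer le_top
      · intro Q₁ hQ₁ hm1
        obtain ⟨h, h1, h2, -⟩ := exists_fullyNormalized S hQ₁.le
        refine ⟨_, ⟨h, rfl⟩, h2, fun y hy => ?_⟩
        have hcardU : m ≤ Nat.card (Q₁.map (MulAut.conj h).toMonoidHom) := by rwa [card_conj]
        generalize Q₁.map (MulAut.conj h).toMonoidHom = U at h1 h2 hy hcardU ⊢
        by_cases hD : (S : Subgroup G) ⊓ Subgroup.centralizer (U : Set G) ≤ U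
        · have htU : t ∈ U := hD ⟨htS, Subgroup.mem_centralizer_iff.2 fun u hu => htc u (h1 hu)⟩
          exact ⟨y, hloc U h1 htU h2 hD y hy, fun a _ => rfl⟩
        · set D := (S : Subgroup G) ⊓ Subgroup.centralizer (U : Set G) with hDdef
          have hcn : Subgroup.centralizer (U : Set G) ≤ Subgroup.normalizer (U : Set G) :=
            Subgroup.centralizer_le_normalizer _
          have hnn : Subgroup.normalizer (U : Set G) ≤
              Subgroup.normalizer ((Subgroup.centralizer (U : Set G) : Subgroup G) : Set G) := by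
            intro g hg
            rw [mem_normalizer_iff', conj_centralizer']
            rw [mem_normalizer_iff'.1 hg]
          have hDsyl : IsSyl p D (Subgroup.centralizer (U : Set G)) := by
            have h3 := h2.inf_normal hcn hnn
            have h4 : (S : Subgroup G) ⊓ Subgroup.normalizer (U : Set G) ⊓
                Subgroup.centralizer (U : Set G) = D := by
              rw [inf_assoc, inf_eq_right.2 hcn]
            rwa [h4] at h3
          have hDsyl' : IsSyl p (D.map (MulAut.conj y).toMonoidHom)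
              (Subgroup.centralizer (U : Set G)) := by
            have h3 := hDsyl.conj y
            rwa [conj_centralizer', mem_normalizer_iff'.1 hy] at h3
          obtain ⟨g, hg, hgD⟩ := hDsyl'.exists_conj_eq hDsyl
          rw [conj_conj] at hgD
          have hgU : U.map (MulAut.conj (g * y)).toMonoidHom = U := by
            rw [← conj_conj, mem_normalizer_iff'.1 hy]
            exact mem_normalizer_iff'.1 (hcn hg)
          have hlt : U < U ⊔ D := lt_of_le_of_ne le_sup_left fun heq => hD (by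
            rw [heq]; exact le_sup_right)
          have hle : U ⊔ D ≤ (S : Subgroup G) := sup_le h1 inf_le_left
          have hcard := card_lt_of_lt hlt
          obtain ⟨k, hk, hk'⟩ := ih (m + 1) (by omega) (U ⊔ D) hle (by omega) (g * y) (by
            rw [Subgroup.map_sup, hgU, hgD]; exact hle)
          refine ⟨k, hk, fun a ha => ?_⟩
          have h5 := hk' a (show a ∈ U ⊔ D from (le_sup_left : U ≤ U ⊔ D) ha)
          rw [h5]
          have h6 : y * a * y⁻¹ ∈ U := (Subgroup.mem_normalizer_iff.1 hy a).1 ha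
          have h7 := Subgroup.mem_centralizer_iff.1 hg _ h6
          calc g * y * a * (g * y)⁻¹ = g * (y * a * y⁻¹) * g⁻¹ := by group
            _ = (y * a * y⁻¹) * g * g⁻¹ := by rw [← h7]
            _ = y * a * y⁻¹ := by group
  intro Q hQ
  exact key (Nat.card (S : Subgroup G) + 1) 0 (by omega) Q hQ (Nat.zero_le _)

theorem isolated_of_centric (S : Sylow p G) {t : G} (htS : t ∈ (S : Subgroup G))
    (htc : ∀ s ∈ (S : Subgroup G), s * t = t * s)
    (hloc : ∀ U : Subgroup G, U ≤ S → t ∈ U →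
      IsSyl p ((S : Subgroup G) ⊓ Subgroup.normalizer (U : Set G)) (Subgroup.normalizer (U : Set G)) →
      (S : Subgroup G) ⊓ Subgroup.centralizer (U : Set G) ≤ U →
      ∀ n ∈ Subgroup.normalizer (U : Set G), n * t = t * n)
    (g : G) (hg : g * t * g⁻¹ ∈ (S : Subgroup G)) : g * t * g⁻¹ = t := by
  obtain ⟨h, h1, h2⟩ := rel_of_centric S htS htc hloc (Subgroup.zpowers t)
    (by rw [Subgroup.zpowers_le]; exact htS) g (by
      rw [MonoidHom.map_zpowers, Subgroup.zpowers_le]
      exact hg)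
  rw [← h2 t (Subgroup.mem_zpowers t), h1]
  group

/-- Version relative to a normal subgroup `N` with `G = N⟨t⟩`. -/
theorem isolated_of_normal (S : Sylow p G) {t : G} (htS : t ∈ (S : Subgroup G))
    (htc : ∀ s ∈ (S : Subgroup G), s * t = t * s) (N : Subgroup G) [hN : N.Normal]
    (hNt : ∀ g : G, ∃ n ∈ N, ∃ i : ℤ, g = n * t ^ i)
    (hloc : ∀ Q : Subgroup G, Q ≤ (S : Subgroup G) ⊓ N →
      IsSyl p (Q ⊓ Subgroup.centralizer (Q : Set G)) (Subgroup.centralizer (Q : Set G) ⊓ N) →
      ∀ n ∈ N, n ∈ Subgroup.normalizer (Q : Set G) →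
        ∃ O : Subgroup G, ¬ p ∣ Nat.card O ∧ t * n * t⁻¹ * n⁻¹ ∈ O)
    (g : G) (hg : g * t * g⁻¹ ∈ (S : Subgroup G)) : g * t * g⁻¹ = t := by
  refine isolated_of_centric S htS htc ?_ g hg
  intro U hUS htU hU hcen n₀ hn₀
  obtain ⟨n, hnN, i, rfl⟩ := hNt n₀
  have htiU : t ^ i ∈ U := U.zpow_mem htU i
  have hn : n ∈ Subgroup.normalizer (U : Set G) := by
    have h1 : n = n * t ^ i * (t ^ i)⁻¹ := by group
    rw [h1]
    exact mul_mem hn₀ (inv_mem (Subgroup.le_normalizer htiU))
  suffices h : n * t = t * n by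
    rw [mul_assoc, (Commute.self_zpow t i).eq.symm, ← mul_assoc, h, mul_assoc]
  set Q := U ⊓ N with hQdef
  have hQU : Q ≤ U := inf_le_left
  have hUQ : ∀ u ∈ U, ∃ q ∈ Q, ∃ j : ℤ, u = q * t ^ j := by
    intro u hu
    obtain ⟨q, hq, j, rfl⟩ := hNt u
    refine ⟨q, ⟨?_, hq⟩, j, rfl⟩
    have h1 : q = q * t ^ j * (t ^ j)⁻¹ := by group
    rw [h1]
    exact U.mul_mem hu (U.inv_mem (U.zpow_mem htU j))
  -- `C_S(Q) = C_S(U)`
  set D := (S : Subgroup G) ⊓ Subgroup.centralizer (Q : Set G) with hD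
  have hDU : D ≤ U := by
    intro d hd
    apply hcen
    refine ⟨hd.1, Subgroup.mem_centralizer_iff.2 ?_⟩
    intro u hu
    obtain ⟨q, hq, j, rfl⟩ := hUQ u hu
    have h1 := Subgroup.mem_centralizer_iff.1 hd.2 q hq
    have h2 : Commute d (t ^ j) := (show Commute d t from htc d hd.1).zpow_right j
    rw [mul_assoc, ← h2.eq, ← mul_assoc, h1, mul_assoc]
  have htD : t ∈ D := ⟨htS, Subgroup.mem_centralizer_iff.2 fun q hq => htc q (hUS (hQU hq))⟩
  have hNQ : Subgroup.normalizer (U : Set G) ≤ Subgroup.normalizer (Q : Set G) := by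
    intro g hg
    rw [mem_normalizer_iff', hQdef, Subgroup.map_inf _ _ _ (MulAut.conj g).injective,
      mem_normalizer_iff'.1 hg, conj_normal]
  have hCQn : Subgroup.normalizer (Q : Set G) ≤
      Subgroup.normalizer ((Subgroup.centralizer (Q : Set G) : Subgroup G) : Set G) := by
    intro g hg
    rw [mem_normalizer_iff', conj_centralizer']
    rw [mem_normalizer_iff'.1 hg]
  set K := Subgroup.normalizer (U : Set G) ⊓ Subgroup.centralizer (Q : Set G) with hK
  have hKn : Subgroup.normalizer (U : Set G) ≤ Subgroup.normalizer (K : Set G) := by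
    intro g hg
    rw [mem_normalizer_iff', hK, Subgroup.map_inf _ _ _ (MulAut.conj g).injective,
      mem_normalizer_iff'.1 (hCQn (hNQ hg)), conj_normalizer, mem_normalizer_iff'.1 hg]
  have hDK : IsSyl p D K := by
    have h1 := hU.inf_normal (N := K) inf_le_left hKn
    have h2 : (S : Subgroup G) ⊓ Subgroup.normalizer (U : Set G) ⊓ K = D := by
      rw [hK, hD]
      apply le_antisymm
      · exact fun x hx => ⟨hx.1.1, hx.2.2⟩
      · exact fun x hx => ⟨⟨hx.1, Subgroup.le_normalizer (hDU hx)⟩,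
          Subgroup.le_normalizer (hDU hx), hx.2⟩
    rwa [h2] at h1
  have hUD : U = Q ⊔ D := by
    apply le_antisymm
    · intro u hu
      obtain ⟨q, hq, j, rfl⟩ := hUQ u hu
      exact mul_mem (mem_sup_left hq) (zpow_mem (mem_sup_right htD) j)
    · exact sup_le hQU hDU
  have hDC : IsSyl p D (Subgroup.centralizer (Q : Set G)) := by
    obtain ⟨P, hP, hDP⟩ := exists_isSyl_ge (p := p) (Q := D)
      (H := Subgroup.centralizer (Q : Set G)) (S.2.to_inf_left) inf_le_right
    rcases hDP.eq_or_lt with h1 | h1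
    · rwa [h1]
    · exfalso
      have h2 := lt_inf_normalizer hP.2.1 h1
      have h3 : P ⊓ Subgroup.normalizer (D : Set G) ≤ K := by
        intro x hxx
        have hx : x ∈ P := (Subgroup.mem_inf.1 hxx).1
        have hx' : x ∈ Subgroup.normalizer (D : Set G) := (Subgroup.mem_inf.1 hxx).2
        refine Subgroup.mem_inf.2 ⟨?_, hP.1 hx⟩
        rw [mem_normalizer_iff', hUD, Subgroup.map_sup, mem_normalizer_iff'.1 hx',
          mem_normalizer_iff'.1 (Subgroup.centralizer_le_normalizer _ (hP.1 hx))]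
      have h4 := hDK.eq_of_le (hP.2.1.to_inf_left) h3 h2.le
      exact h2.ne h4
  have hfin : IsSyl p (Q ⊓ Subgroup.centralizer (Q : Set G))
      (Subgroup.centralizer (Q : Set G) ⊓ N) := by
    have h1 := hDC.inf_normal (N := Subgroup.centralizer (Q : Set G) ⊓ N) inf_le_left (by
      intro g hg
      rw [mem_normalizer_iff', Subgroup.map_inf _ _ _ (MulAut.conj g).injective,
        conj_eq_of_mem hg, conj_normal N])
    have h2 : D ⊓ (Subgroup.centralizer (Q : Set G) ⊓ N) = Q ⊓ Subgroup.centralizer (Q : Set G) := by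
      apply le_antisymm
      · exact fun x hx => ⟨⟨hDU hx.1, hx.2.2⟩, hx.2.1⟩
      · exact fun x hx => ⟨⟨hUS (hQU hx.1), hx.2⟩, hx.2, hx.1.2⟩
    rwa [h2] at h1
  obtain ⟨O, hO, hmem⟩ := hloc Q (le_inf (hQU.trans hUS) inf_le_right) hfin n hnN (hNQ hn)
  have hmemU : t * n * t⁻¹ * n⁻¹ ∈ U := by
    have h1 : n * t⁻¹ * n⁻¹ ∈ U := (Subgroup.mem_normalizer_iff.1 hn _).1 (U.inv_mem htU)
    have h2 : t * n * t⁻¹ * n⁻¹ = t * (n * t⁻¹ * n⁻¹) := by group
    rw [h2]
    exact U.mul_mem htU h1
  obtain ⟨k, hk⟩ := IsPGroup.iff_orderOf.mp (S.2.to_le hUS) ⟨_, hmemU⟩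
  rw [Subgroup.orderOf_mk] at hk
  have h5 : orderOf (t * n * t⁻¹ * n⁻¹) ∣ Nat.card O := by
    have := orderOf_dvd_natCard (⟨_, hmem⟩ : O)
    rwa [Subgroup.orderOf_mk] at this
  have h6 : t * n * t⁻¹ * n⁻¹ = 1 := by
    rw [← orderOf_eq_one_iff]
    rcases Nat.eq_zero_or_pos k with hk0 | hk0
    · rw [hk, hk0, pow_zero]
    · exfalso
      apply hO
      refine (dvd_pow_self p hk0.ne').trans ?_
      rw [← hk]; exact h5
  have h7 : t * n = t * n * t⁻¹ * n⁻¹ * (n * t) := by group
  rw [h7, h6, one_mul]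

end H5.Centric
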