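import Mathlib.GroupTheory.Index
import Mathlib.GroupTheory.GroupAction.Quotient
import Mathlib.GroupTheory.Subgroup.Centralizer
import Mathlib.GroupTheory.ClassEquation
import Mathlib.Tactic
import Cfsg.Agent.Lib.H5.Dihedral
import Cfsg.Agent.Lib.H5.PLocal
import Cfsg.Agent.Lib.H5.IndexTwo

set_option autoImplicit false

/-! Brauer–Fowler type counting arguments. -/

namespace H5.BrauerFowler

open Subgroup Finset

variable {G : Type*} [Group G]

/-- The centralizer of an element. -/
abbrev cent (g : G) : Subgroup G := Subgroup.centralizer ({g} : Set G)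

theorem mem_cent {g x : G} : x ∈ cent g ↔ x * g = g * x := Subgroup.mem_centralizer_singleton_iff

theorem card_conj_mul_card_cent [Finite G] (t : G) :
    Nat.card {x : G // IsConj t x} * Nat.card (cent t) = Nat.card G := by
  have h1 : Nat.card {x : G // IsConj t x} = (cent t).index := by
    have h2 := MulAction.index_stabilizer (ConjAct G) t
    have h3 : (MulAction.stabilizer (ConjAct G) t) = (cent t) := by
      rw [ConjAct.stabilizer_eq_centralizer]
      rfl
    rw [h3] at h2
    have h4 : (cent t).index = (MulAction.orbit (ConjAct G) t).ncard := h2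
    rw [h4, ← Nat.card_coe_set_eq]
    apply Nat.card_congr
    apply Equiv.subtypeEquivRight
    intro x
    rw [ConjAct.mem_orbit_conjAct, isConj_comm]
  rw [h1, mul_comm, Subgroup.card_mul_index]

/-- The set of elements inverting `g`. -/
theorem card_inverting_le [Finite G] (g : G) :
    Nat.card {u : G // u * g * u⁻¹ = g⁻¹} ≤ Nat.card (cent g) := by
  by_cases h : ∃ u₀ : G, u₀ * g * u₀⁻¹ = g⁻¹
  · obtain ⟨u₀, hu₀⟩ := h
    apply Nat.card_le_card_of_injective
      (fun u : {u : G // u * g * u⁻¹ = g⁻¹} => (⟨u₀⁻¹ * u.1, by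
        rw [mem_cent]
        have h1 : u.1 * g = g⁻¹ * u.1 := by
          have h5 := u.2
          generalize u.1 = v at h5 ⊢
          rw [← h5]; group
        have h2 : g * u₀⁻¹ = u₀⁻¹ * g⁻¹ := by rw [← hu₀]; group
        rw [mul_assoc, h1, ← mul_assoc, ← h2, mul_assoc]⟩ : cent g))
    intro a b hab
    have := congrArg Subtype.val hab
    simp only at this
    exact Subtype.ext (mul_left_cancel this)
  · push Not at h
    have : IsEmpty {u : G // u * g * u⁻¹ = g⁻¹} := ⟨fun u => h u.1 u.2⟩
    simp

/-- The extended centralizer. -/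
def extCent (g : G) : Subgroup G where
  carrier := {u | u * g * u⁻¹ = g ∨ u * g * u⁻¹ = g⁻¹}
  one_mem' := by left; simp
  mul_mem' := by
    intro a b ha hb
    have e : a * b * g * (a * b)⁻¹ = a * (b * g * b⁻¹) * a⁻¹ := by group
    have e2 : a * g⁻¹ * a⁻¹ = (a * g * a⁻¹)⁻¹ := by group
    simp only [Set.mem_ofPred_eq] at ha hb ⊢
    rw [e]
    rcases ha with ha | ha <;> rcases hb with hb | hb
    · left; rw [hb, ha]
    · right; rw [hb, e2, ha]
    · right; rw [hb, ha]
    · left; rw [hb, e2, ha, inv_inv]
  inv_mem' := by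
    intro a ha
    simp only [Set.mem_ofPred_eq] at ha ⊢
    rcases ha with ha | ha
    · left
      nth_rewrite 1 [← ha]; group
    · right
      have : g = a * g⁻¹ * a⁻¹ := by
        have := congrArg (·⁻¹) ha
        simp only [inv_inv] at this
        nth_rewrite 1 [← this]; group
      nth_rewrite 1 [this]; group

theorem card_extCent [Finite G] {g : G} (hg : g * g ≠ 1) (h : ∃ u₀ : G, u₀ * g * u₀⁻¹ = g⁻¹) :
    Nat.card (extCent g) = 2 * Nat.card (cent g) := by
  obtain ⟨u₀, hu₀⟩ := h
  have hle : cent g ≤ extCent g := by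
    intro x hx
    left
    rw [mem_cent.mp hx]; group
  have hidx : (cent g).relIndex (extCent g) = 2 := by
    rw [Subgroup.relIndex_eq_two_iff_exists_notMem_and]
    refine ⟨u₀, Or.inr hu₀, ?_, ?_⟩
    · rw [mem_cent]
      intro h1
      apply hg
      have h2 : u₀ * g * u₀⁻¹ = g := by rw [h1]; group
      rw [hu₀] at h2
      nth_rewrite 1 [← h2]; exact inv_mul_cancel g
    · intro b hb
      rcases hb with hb | hb
      · right
        rw [mem_cent]; nth_rewrite 2 [← hb]; group
      · left
        rw [mem_cent]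
        have h3 : b * u₀ * g * (b * u₀)⁻¹ = g := by
          calc b * u₀ * g * (b * u₀)⁻¹ = b * (u₀ * g * u₀⁻¹) * b⁻¹ := by group
            _ = (b * g * b⁻¹)⁻¹ := by rw [hu₀]; group
            _ = g := by rw [hb, inv_inv]
        nth_rewrite 2 [← h3]; group
  have h5 := Subgroup.card_mul_index ((cent g).subgroupOf (extCent g))
  have h6 : Nat.card ((cent g).subgroupOf (extCent g)) = Nat.card (cent g) :=
    Nat.card_congr (Subgroup.subgroupOfEquivOfLe hle).toEquiv
  have h7 : ((cent g).subgroupOf (extCent g)).index = 2 := hidx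
  rw [h6, h7] at h5
  omega

end H5.BrauerFowler
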