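import Mathlib.Tactic
import Cfsg.Agent.Lib.H5.BrauerFowler

set_option autoImplicit false

/-! Brauer–Fowler type counting arguments, part 2. -/

namespace H5.BrauerFowler2

open Subgroup Finset H5.BrauerFowler

variable {G : Type*} [Group G] [DecidableEq G]

/-- pairs in `T × T` with product `g` -/
def fib (T : Finset G) (g : G) : Finset (G × G) := (T ×ˢ T).filter (fun p => p.1 * p.2 = g)

theorem mem_fib {T : Finset G} {g : G} {p : G × G} :
    p ∈ fib T g ↔ (p.1 ∈ T ∧ p.2 ∈ T) ∧ p.1 * p.2 = g := by
  simp [fib, Finset.mem_filter]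

variable [Fintype G]

theorem sum_fib (T : Finset G) : ∑ g : G, (fib T g).card = T.card * T.card := by
  rw [← Finset.card_product]
  exact (Finset.card_eq_sum_card_fiberwise (fun p _ => Finset.mem_univ _)).symm

theorem inverts_of_mem {T : Finset G} (hT : ∀ t ∈ T, t * t = 1) {g : G} {p : G × G}
    (hp : p ∈ fib T g) : p.1 * g * p.1⁻¹ = g⁻¹ := by
  rw [mem_fib] at hp
  obtain ⟨⟨h1, h2⟩, rfl⟩ := hp
  exact H5.Dihedral.conj_left (hT _ h1) (hT _ h2)

theorem fib_inj {T : Finset G} {g : G} {p q : G × G} (hp : p ∈ fib T g) (hq : q ∈ fib T g)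
    (h : p.1 = q.1) : p = q := by
  rw [mem_fib] at hp hq
  apply Prod.ext h
  have := hp.2.trans hq.2.symm
  rw [h] at this
  exact mul_left_cancel this

theorem card_fib_le_inv {T : Finset G} (hT : ∀ t ∈ T, t * t = 1) (g : G) :
    (fib T g).card ≤ Nat.card {u : G // u * g * u⁻¹ = g⁻¹} := by
  rw [← Fintype.card_coe, ← Nat.card_eq_fintype_card]
  apply Nat.card_le_card_of_injective (fun p : fib T g => (⟨p.1.1, inverts_of_mem hT p.2⟩ :
    {u : G // u * g * u⁻¹ = g⁻¹}))
  intro p q hpq
  have := congrArg Subtype.val hpq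
  exact Subtype.ext (fib_inj p.2 q.2 this)

theorem card_fib_le {T : Finset G} (hT : ∀ t ∈ T, t * t = 1) (g : G) :
    (fib T g).card ≤ Nat.card (cent g) :=
  (card_fib_le_inv hT g).trans (card_inverting_le g)

theorem card_fib_one (T : Finset G) : (fib T 1).card ≤ T.card := by
  apply Finset.card_le_card_of_injOn (fun p => p.1)
  · intro p hp
    exact (mem_fib.mp hp).1.1
  · intro p hp q hq h
    exact fib_inj hp hq h

theorem card_fib_invol {T : Finset G} (hT : ∀ t ∈ T, orderOf t = 2) {g : G} (hg : orderOf g = 2) :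
    (fib T g).card + 2 ≤ Nat.card (cent g) := by
  have hT' : ∀ t ∈ T, t * t = 1 := fun t ht => H5.Dihedral.mul_self (hT t ht)
  have hgg := H5.Dihedral.mul_self hg
  have hg1 := H5.Dihedral.ne_one hg
  have hginv := H5.Dihedral.inv_eq_self hg
  -- image of first coordinates, together with 1 and g
  have h1 : ∀ p ∈ fib T g, p.1 ∈ cent g := by
    intro p hp
    have := inverts_of_mem hT' hp
    rw [hginv] at this
    rw [mem_cent]; nth_rewrite 2 [← this]; group
  have h2 : ((1 : G) ≠ g) := fun h => hg1 h.symm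
  let S : Finset G := insert 1 (insert g ((fib T g).image Prod.fst))
  have hcard : S.card = (fib T g).card + 2 := by
    have e1 : ((fib T g).image Prod.fst).card = (fib T g).card :=
      Finset.card_image_of_injOn (fun p hp q hq h => fib_inj hp hq h)
    have e2 : g ∉ (fib T g).image Prod.fst := by
      intro h
      obtain ⟨p, hp, hpg⟩ := Finset.mem_image.mp h
      have h3 := (mem_fib.mp hp)
      have : p.2 = 1 := by
        have h4 := h3.2
        rw [hpg] at h4
        exact mul_left_cancel (h4.trans (mul_one g).symm)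
      have h5 := hT _ h3.1.2
      rw [this, orderOf_one] at h5
      omega
    have e3 : (1 : G) ∉ insert g ((fib T g).image Prod.fst) := by
      intro h
      rw [Finset.mem_insert] at h
      rcases h with h | h
      · exact h2 h
      · obtain ⟨p, hp, hpg⟩ := Finset.mem_image.mp h
        have h3 := hT _ (mem_fib.mp hp).1.1
        rw [hpg, orderOf_one] at h3
        omega
    rw [Finset.card_insert_of_notMem e3, Finset.card_insert_of_notMem e2, e1]
  rw [← hcard, ← Fintype.card_coe, ← Nat.card_eq_fintype_card]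
  have hS : ∀ x ∈ S, x ∈ cent g := by
    intro x hx
    rcases Finset.mem_insert.mp hx with rfl | hx
    · exact one_mem _
    · rcases Finset.mem_insert.mp hx with rfl | hx
      · rw [mem_cent]
      · obtain ⟨p, hp, rfl⟩ := Finset.mem_image.mp hx
        exact h1 p hp
  apply Nat.card_le_card_of_injective (fun x : S => (⟨x.1, hS _ x.2⟩ : cent g))
  intro a b hab
  have h6 : ((⟨a.1, hS _ a.2⟩ : cent g) : G) = ((⟨b.1, hS _ b.2⟩ : cent g) : G) :=
    congrArg Subtype.val hab
  exact Subtype.ext h6

theorem card_fib_noninvol {T : Finset G} (hT : ∀ t ∈ T, t * t = 1) {g : G} (hg : g * g ≠ 1) :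
    (fib T g).card = 0 ∨ (2 * (fib T g).card ≤ Nat.card (extCent g) ∧
      Nat.card (extCent g) = 2 * Nat.card (cent g)) := by
  by_cases h : ∃ u₀ : G, u₀ * g * u₀⁻¹ = g⁻¹
  · right
    have h1 := card_extCent hg h
    refine ⟨?_, h1⟩
    rw [h1]
    exact Nat.mul_le_mul_left 2 (card_fib_le hT g)
  · left
    rw [Finset.card_eq_zero]
    by_contra hne
    obtain ⟨p, hp⟩ := Finset.nonempty_iff_ne_empty.mpr hne
    exact h ⟨p.1, inverts_of_mem hT hp⟩

/-- Involutions as a finset. -/
def invs (G : Type*) [Group G] [Fintype G] [DecidableEq G] : Finset G :=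
  Finset.univ.filter (fun t => t * t = 1 ∧ t ≠ 1)

theorem mem_invs {t : G} : t ∈ invs G ↔ orderOf t = 2 := by
  simp only [invs, Finset.mem_filter, Finset.mem_univ, true_and]
  constructor
  · rintro ⟨h1, h2⟩; exact H5.Dihedral.orderOf_eq_two h1 h2
  · intro h; exact ⟨H5.Dihedral.mul_self h, H5.Dihedral.ne_one h⟩

theorem card_invs : (invs G).card = Nat.card {t : G // orderOf t = 2} := by
  rw [← Fintype.card_coe, ← Nat.card_eq_fintype_card]
  exact Nat.card_congr (Equiv.subtypeEquivRight (fun x => mem_invs))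

/-- The Brauer–Fowler index bound. -/
theorem exists_subgroup (heven : Even (Nat.card G)) (hZ : Odd (Nat.card (Subgroup.center G))) :
    ∃ H : Subgroup G, H ≠ ⊤ ∧ (H.index = 2 ∨
      2 * (invs G).card ^ 2 < Nat.card H * (Nat.card G + (invs G).card)) := by
  by_contra hcon
  push Not at hcon
  set n := (invs G).card with hn
  set N := Nat.card G with hN
  have hT : ∀ t ∈ invs G, orderOf t = 2 := fun t ht => mem_invs.mp ht
  have hT' : ∀ t ∈ invs G, t * t = 1 := fun t ht => H5.Dihedral.mul_self (hT t ht)
  have hbound : ∀ H : Subgroup G, H ≠ ⊤ → Nat.card H * (N + n) ≤ 2 * n ^ 2 := by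
    intro H hH
    exact (hcon H hH).2
  have hno2 : ∀ H : Subgroup G, H ≠ ⊤ → H.index ≠ 2 := fun H hH => (hcon H hH).1
  -- n > 0
  have hnpos : 0 < n := by
    obtain ⟨t, -, ht⟩ := H5.PLocal.exists_involution_mem (⊤ : Subgroup G)
      (by rw [Subgroup.card_top]; exact heven)
    exact Finset.card_pos.mpr ⟨t, mem_invs.mpr ht⟩
  -- bound for each g
  have hinv : ∀ g ∈ invs G, (fib (invs G) g).card * (N + n) + 2 * (N + n) ≤ 2 * n ^ 2 := by
    intro g hg
    have hg2 := hT g hg
    have h1 := card_fib_invol hT hg2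
    have h2 : cent g ≠ ⊤ := by
      intro h
      have hc : g ∈ Subgroup.center G := by
        rw [Subgroup.mem_center_iff]
        intro x
        have : x ∈ cent g := by rw [h]; exact mem_top x
        exact mem_cent.mp this
      have := H5.PLocal.even_card_of_mem hc hg2
      exact (Nat.not_odd_iff_even.mpr this) hZ
    have h3 := hbound _ h2
    calc (fib (invs G) g).card * (N + n) + 2 * (N + n) = ((fib (invs G) g).card + 2) * (N + n) := by ring
      _ ≤ Nat.card (cent g) * (N + n) := Nat.mul_le_mul_right _ h1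
      _ ≤ 2 * n ^ 2 := h3
  have hnon : ∀ g : G, g ∉ invs G → g ≠ 1 → (fib (invs G) g).card * (N + n) ≤ n ^ 2 := by
    intro g hg hg1
    have hgg : g * g ≠ 1 := by
      intro h
      exact hg (mem_invs.mpr (H5.Dihedral.orderOf_eq_two h hg1))
    rcases card_fib_noninvol hT' hgg with h0 | ⟨h1, h2⟩
    · rw [h0, zero_mul]; exact Nat.zero_le _
    · have h3 : extCent g ≠ ⊤ := by
        intro h
        have h4 : Nat.card (extCent g) = N := by rw [h, Subgroup.card_top]
        have h5 := (cent g).card_mul_index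
        rw [← hN, ← h4, h2] at h5
        have h6 : (cent g).index = 2 := by
          have hpos : 0 < Nat.card (cent g) := Nat.card_pos
          have h7 : Nat.card (cent g) * (cent g).index = Nat.card (cent g) * 2 := by rw [h5]; ring
          exact Nat.eq_of_mul_eq_mul_left hpos h7
        exact hno2 (cent g) (by intro h8; rw [h8, Subgroup.index_top] at h6; omega) h6
      have h4 := hbound _ h3
      have h5 : 2 * ((fib (invs G) g).card * (N + n)) ≤ 2 * n ^ 2 := by
        calc 2 * ((fib (invs G) g).card * (N + n)) = (2 * (fib (invs G) g).card) * (N + n) := by ring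
          _ ≤ Nat.card (extCent g) * (N + n) := Nat.mul_le_mul_right _ h1
          _ ≤ 2 * n ^ 2 := h4
      omega
  have hone : (fib (invs G) 1).card * (N + n) ≤ n * (N + n) :=
    Nat.mul_le_mul_right _ (card_fib_one _)
  -- sum
  have hsum := sum_fib (invs G)
  have h1notin : (1 : G) ∉ invs G := by
    intro h; have := hT 1 h; rw [orderOf_one] at this; omega
  have hsplit : ∑ g : G, (fib (invs G) g).card * (N + n) =
      (fib (invs G) 1).card * (N + n) + (∑ g ∈ invs G, (fib (invs G) g).card * (N + n) +
        ∑ g ∈ (Finset.univ \ invs G).erase 1, (fib (invs G) g).card * (N + n)) := by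
    have h1mem : (1 : G) ∈ Finset.univ \ invs G := by simp [h1notin]
    have e1 := Finset.sum_sdiff (Finset.subset_univ (invs G)) (f := fun g => (fib (invs G) g).card * (N + n))
    have e2 := Finset.add_sum_erase (Finset.univ \ invs G) (fun g => (fib (invs G) g).card * (N + n)) h1mem
    omega
  have hL : ∑ g : G, (fib (invs G) g).card * (N + n) = n * n * (N + n) := by
    rw [← Finset.sum_mul, hsum]
  have hI : ∑ g ∈ invs G, (fib (invs G) g).card * (N + n) + n * (2 * (N + n)) ≤ n * (2 * n ^ 2) := by
    have h1 : ∑ g ∈ invs G, ((fib (invs G) g).card * (N + n) + 2 * (N + n)) ≤ ∑ g ∈ invs G, 2 * n ^ 2 :=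
      Finset.sum_le_sum hinv
    rw [Finset.sum_add_distrib, Finset.sum_const, Finset.sum_const, smul_eq_mul, smul_eq_mul] at h1
    exact h1
  have hR : ∑ g ∈ (Finset.univ \ invs G).erase 1, (fib (invs G) g).card * (N + n) ≤ (N - 1 - n) * n ^ 2 := by
    have h1 : ∑ g ∈ (Finset.univ \ invs G).erase 1, (fib (invs G) g).card * (N + n) ≤
        ∑ g ∈ (Finset.univ \ invs G).erase 1, n ^ 2 := by
      apply Finset.sum_le_sum
      intro g hg
      rw [Finset.mem_erase, Finset.mem_sdiff] at hg
      exact hnon g hg.2.2 hg.1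
    rw [Finset.sum_const, smul_eq_mul] at h1
    have h2 : ((Finset.univ \ invs G).erase 1).card = N - 1 - n := by
      rw [Finset.card_erase_of_mem (by simp [h1notin]), Finset.card_sdiff_of_subset (Finset.subset_univ _),
        Finset.card_univ, ← Nat.card_eq_fintype_card, ← hN, ← hn]
      omega
    rw [h2] at h1
    exact h1
  have hNn : n + 1 ≤ N := by
    have h1 : (insert 1 (invs G)).card ≤ (Finset.univ : Finset G).card := Finset.card_le_card (Finset.subset_univ _)
    rw [Finset.card_insert_of_notMem h1notin, Finset.card_univ, ← Nat.card_eq_fintype_card] at h1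
    exact h1
  obtain ⟨k, hk⟩ : ∃ k, N = n + 1 + k := ⟨N - (n + 1), by omega⟩
  have hk2 : N - 1 - n = k := by omega
  rw [hk2] at hR
  rw [hL] at hsplit
  clear_value N n
  subst hk
  nlinarith [hsplit, hI, hR, hone, hnpos]

end H5.BrauerFowler2
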