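import Cfsg.Agent.Lib.H5.GLg
import Cfsg.Agent.Lib.H5.CharSmallNorm

/-!
# Simple groups with an involution whose centralizer is `GL(2, 3)`: the theorem
-/

set_option autoImplicit false

open Cfsg
open scoped ComplexConjugate

namespace H5.GLh

open H5.GLa H5.GLb H5.GLc H5.GLd H5.GLe H5.GLg H18.CharBasic H18.CharOrtho H18.CharInd

universe u

variable {G : Type u} [Group G] [Fintype G] [Fintype (IrrCharacter G)]

/-- a weighted sum of multiplicities -/
noncomputable def L (g : IrrCharacter G → ℂ) (Θ : G → ℂ) : ℂ :=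
  ∑ χ : IrrCharacter G, classInner Θ (χ : G → ℂ) * g χ

theorem L_add (g : IrrCharacter G → ℂ) (Θ Θ' : G → ℂ) : L g (Θ + Θ') = L g Θ + L g Θ' := by
  unfold L
  rw [← Finset.sum_add_distrib]
  exact Finset.sum_congr rfl fun χ _ => by rw [H18.CharOrtho.inner_add_left, add_mul]

theorem L_sub (g : IrrCharacter G → ℂ) (Θ Θ' : G → ℂ) : L g (Θ - Θ') = L g Θ - L g Θ' := by
  unfold L
  rw [← Finset.sum_sub_distrib]
  exact Finset.sum_congr rfl fun χ _ => by rw [H18.CharOrtho.inner_sub_left, sub_mul]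

theorem L_smul (g : IrrCharacter G → ℂ) (c : ℂ) (Θ : G → ℂ) : L g (c • Θ) = c * L g Θ := by
  unfold L
  rw [Finset.mul_sum]
  exact Finset.sum_congr rfl fun χ _ => by rw [H18.CharOrtho.inner_smul_left, mul_assoc]

theorem L_irr (g : IrrCharacter G → ℂ) (χ₀ : IrrCharacter G) : L g (χ₀ : G → ℂ) = g χ₀ := by
  classical
  unfold L
  rw [Finset.sum_eq_single χ₀]
  · rw [inner_irr_self χ₀.2, one_mul]
  · intro χ _ hne
    rw [inner_irr_ne χ₀.2 χ.2 (fun h => hne (Subtype.ext h.symm)), zero_mul]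
  · intro hn; exact absurd (Finset.mem_univ _) hn

theorem main_aux [IsSimpleGroup G] {t : G} {C : Subgroup G} {ψ : C → Q} (h : Dat t C ψ) :
    C.index = 117 ∨ C.index = 165 := by
  classical
  have hnc : ¬ ∀ a b : G, a * b = b * a := by
    intro hcomm
    obtain ⟨w, hw⟩ := h.mod.surj w0 d_w0.2.2.2
    have hwo : orderOf w = 2 := (order_two h.mod).2 (by rw [hw]; exact ⟨d_w0.1, d_w0.2.1⟩)
    have h1 := eq_neg h.mod hwo (fun c => Subtype.ext (hcomm c w))
    rw [hw] at h1
    exact d_w0.2.2.1 h1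
  have : Fintype C := Fintype.ofFinite _
  have hcl1 := isClassFunction_of_isGen (isGen_al1 h.mod)
  have hcl2 := isClassFunction_of_isGen (isGen_al2 h.mod)
  have hone : IsClassFunction G (fun _ => 1 : G → ℂ) := isClassFunction_const 1
  set Θ1 := indFun C (al1 ψ) with hΘ1
  set Θ2 := indFun C (al2 h.mod) with hΘ2
  have g1 : IsGeneralizedCharacter G Θ1 := isGen_ind _ (isGen_al1 h.mod)
  have g2 : IsGeneralizedCharacter G Θ2 := isGen_ind _ (isGen_al2 h.mod)
  have n1 : classInner Θ1 Θ1 = 3 := by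
    rw [hΘ1, ind_inner h hcl1 (al1_zero h.mod), norm_al1 h.mod]
  have n2 : classInner Θ2 Θ2 = (3 : ℕ) := by
    rw [hΘ2, ind_inner h hcl2 (al2_zero h.mod), norm_al2 h.mod]; norm_num
  have n21 : classInner Θ2 Θ1 = 1 := by
    rw [hΘ1, hΘ2, ind_inner h hcl1 (al1_zero h.mod), al2_al1 h.mod]
  have p1 : classInner Θ1 (fun _ => 1) = 1 := by
    rw [hΘ1, H18.CharInd.frobenius _ _ hone]
    exact al1_one h.mod
  have p2 : classInner Θ2 (fun _ => 1) = 0 := by
    rw [hΘ2, H18.CharInd.frobenius _ _ hone]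
    exact al2_one h.mod
  obtain ⟨a, b, hab, ha, hb, hΘ, -⟩ := H5.GQ1.norm_three g1 n1 p1
    (ind_one_val h hcl1 (al1_zero h.mod))
  obtain ⟨s, ε, hs, hε, hθ⟩ := H5.CharSmallNorm.exists_signed g2 (n := 3) le_rfl n2
  let o : IrrCharacter G := ⟨_, isIrrCharacter_one⟩
  -- multiplicities in `Θ2`
  have hmul : ∀ χ : IrrCharacter G, classInner Θ2 (χ : G → ℂ) = if χ ∈ s then (ε χ : ℂ) else 0 := by
    intro χ
    rw [hθ, H18.CharOrtho.inner_sum_left]
    have h1 : ∀ x ∈ s, classInner ((ε x : ℂ) • (x : G → ℂ)) (χ : G → ℂ) =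
        if x = χ then (ε χ : ℂ) else 0 := by
      intro x _
      rw [H18.CharOrtho.inner_smul_left]
      split_ifs with hx
      · subst hx; rw [inner_irr_self x.2, mul_one]
      · rw [inner_irr_ne x.2 χ.2 (fun h' => hx (Subtype.ext h')), mul_zero]
    rw [Finset.sum_congr rfl h1, Finset.sum_ite_eq' s χ]
  have hos : o ∉ s := by
    intro hos
    have h1 := hmul o
    rw [if_pos hos] at h1
    change classInner Θ2 (fun _ => 1) = _ at h1
    rw [p2] at h1
    rcases hε o with h2 | h2 <;> rw [h2] at h1 <;> norm_num at h1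
  have hcc : classInner Θ2 (b : G → ℂ) - classInner Θ2 (a : G → ℂ) = 1 := by
    rw [← n21, hΘ, H18.CharOrtho.inner_sub_right, H18.CharOrtho.inner_add_right, p2, zero_add]
  -- common part
  have key : ∀ (X Y : IrrCharacter G) (e' : ℤ), (e' = 1 ∨ e' = -1) → (X : G → ℂ) ≠ (fun _ => 1) →
      X ∈ s → ε X = e' →
      Θ1 = (fun _ => 1) + (e' : ℂ) • (X : G → ℂ) - (e' : ℂ) • (Y : G → ℂ) →
      (Y : G → ℂ) ≠ (fun _ => 1) → X ≠ Y → C.index = 117 ∨ C.index = 165 := by
    intro X Y e' he' hX hXs hεX hdec hY hXY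
    have hcard : (s.erase X).card = 2 := by rw [Finset.card_erase_of_mem hXs, hs]
    obtain ⟨U, V, hUV, hUVs⟩ := Finset.card_eq_two.mp hcard
    have hUs : U ∈ s := by
      have : U ∈ s.erase X := by rw [hUVs]; simp
      exact Finset.mem_of_mem_erase this
    have hVs : V ∈ s := by
      have : V ∈ s.erase X := by rw [hUVs]; simp
      exact Finset.mem_of_mem_erase this
    have hU : (U : G → ℂ) ≠ fun _ => 1 := by
      intro h1
      have : U = o := Subtype.ext h1
      rw [this] at hUs; exact hos hUs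
    have hV : (V : G → ℂ) ≠ fun _ => 1 := by
      intro h1
      have : V = o := Subtype.ext h1
      rw [this] at hVs; exact hos hVs
    have hdec2 : Θ2 = (e' : ℂ) • (X : G → ℂ) + ((ε U : ℂ) • (U : G → ℂ) +
        (ε V : ℂ) • (V : G → ℂ)) := by
      conv_lhs => rw [hθ]
      rw [← Finset.add_sum_erase s _ hXs, hUVs, Finset.sum_pair hUV, hεX]
    have hX2 : classInner Θ2 (X : G → ℂ) = e' := by rw [hmul, if_pos hXs, hεX]
    have hX1 : classInner Θ1 (X : G → ℂ) = e' := by
      rw [hdec, H18.CharOrtho.inner_sub_left, H18.CharOrtho.inner_add_left, H18.CharOrtho.inner_smul_left, H18.CharOrtho.inner_smul_left,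
        inner_irr_self X.2, inner_irr_ne isIrrCharacter_one X.2 (fun h' => hX h'.symm),
        inner_irr_ne Y.2 X.2 (fun h' => hXY (Subtype.ext h'.symm))]
      ring
    have of1 := order_formula h (a := 4) (b := 2) (θ := al1 ψ) (fun f => sum_al1 ψ f)
    have of2 := order_formula h (a := 4) (b := -2) (θ := al2 h.mod) (fun f => by
      rw [sum_al2 h.mod f]; ring)
    rw [← hΘ1] at of1
    rw [← hΘ2] at of2
    change (C.index : ℂ) * L (fun χ => (χ : G → ℂ) t ^ 2 / (χ : G → ℂ) 1) Θ1 = _ at of1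
    change (C.index : ℂ) * L (fun χ => (χ : G → ℂ) t ^ 2 / (χ : G → ℂ) 1) Θ2 = _ at of2
    have ho : L (fun χ : IrrCharacter G => (χ : G → ℂ) t ^ 2 / (χ : G → ℂ) 1)
        (fun _ => 1 : G → ℂ) = 1 := by
      have h1 := L_irr (fun χ : IrrCharacter G => (χ : G → ℂ) t ^ 2 / (χ : G → ℂ) 1) o
      change L _ (fun _ => 1 : G → ℂ) = (1 : ℂ) ^ 2 / 1 at h1
      rw [h1]; norm_num
    have of1' : (C.index : ℂ) * (1 + e' * ((X : G → ℂ) t ^ 2 / (X : G → ℂ) 1) -
        e' * ((Y : G → ℂ) t ^ 2 / (Y : G → ℂ) 1)) = 96 := by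
      rw [hdec, L_sub, L_add, L_smul, L_smul, L_irr, L_irr, ho] at of1
      rw [of1]; norm_num
    have of2' : (C.index : ℂ) * (e' * ((X : G → ℂ) t ^ 2 / (X : G → ℂ) 1) +
        (ε U * ((U : G → ℂ) t ^ 2 / (U : G → ℂ) 1) + ε V * ((V : G → ℂ) t ^ 2 / (V : G → ℂ) 1))) = 96 := by
      rw [hdec2, L_add, L_add, L_smul, L_smul, L_smul, L_irr, L_irr, L_irr] at of2
      rw [of2]; norm_num
    exact final h hnc he' (hε U) (hε V) hX hU hV hX1 hX2 hdec of1' hdec2 of2'
  rw [hmul, hmul] at hcc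
  by_cases hbs : b ∈ s <;> by_cases has : a ∈ s
  · exfalso
    rw [if_pos hbs, if_pos has] at hcc
    have : ε b - ε a = 1 := by exact_mod_cast hcc
    rcases hε a with h1 | h1 <;> rcases hε b with h2 | h2 <;> omega
  · rw [if_pos hbs, if_neg has] at hcc
    have : ε b = 1 := by
      have : ε b - 0 = 1 := by exact_mod_cast hcc
      omega
    refine key b a 1 (Or.inl rfl) hb hbs this ?_ ha (fun h' => hab h'.symm)
    rw [hΘ]; simp
  · rw [if_neg hbs, if_pos has] at hcc
    have : ε a = -1 := by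
      have : 0 - ε a = 1 := by exact_mod_cast hcc
      omega
    refine key a b (-1) (Or.inr rfl) ha has this ?_ hb hab
    rw [hΘ]
    funext x
    simp only [Pi.add_apply, Pi.sub_apply, Pi.smul_apply, smul_eq_mul]
    push_cast
    ring
  · exfalso
    rw [if_neg hbs, if_neg has] at hcc
    norm_num at hcc

theorem main {G : Type u} [Group G] [Finite G] [IsSimpleGroup G] (t : G) (ht : orderOf t = 2)
    (e : Subgroup.centralizer ({t} : Set G) ≃* Matrix.GeneralLinearGroup (Fin 2) (ZMod 3)) :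
    Nat.card G = 5616 ∨ Nat.card G = 7920 := by
  have := Fintype.ofFinite G
  have := Fintype.ofFinite (IrrCharacter G)
  obtain ⟨ψ, hψ⟩ := exists_model e
  have h := exists_dat ht _ (fun x => Subgroup.mem_centralizer_singleton_iff) hψ
  rw [card_G h]
  rcases main_aux h with h1 | h1 <;> rw [h1] <;> norm_num

end H5.GLh
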