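import Cfsg.Agent.Lib.H5.TBj
import Cfsg.Agent.Lib.H79.KLOne
import Cfsg.Agent.S4528

/-!
# Dihedral defect groups with a non-fused involution: rank at most two
-/

set_option autoImplicit false
set_option linter.unusedSectionVars false
set_option linter.unusedVariables false

namespace H5.TCa

open Cfsg H20.Loc H20.GA H80.GA H80.GB H80.GD H80.GE H80.GF H80.GJ H80.FS H80.FS3 H84.RG H18.CharBasic H18.CharOrtho H18.CharInd H84.TrR
open H20.Blk H20.Orth H20.Ind H20.Height H20.Defect H80.BR1 H80.BR2 H19.Second H19.Second3 H81.Section H81.Contrib H84.Star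
open H5.DBa H5.DBd H5.TBa H5.TBb H5.TBe H5.TBf H5.TBg H5.TBh H5.TBi H5.TBj H78.BlkCount
open scoped ComplexConjugate

universe u

/-- the family of functions -/
def fam {V : Type*} {m : ℕ} (w a b : V) (c : Fin m → V) : Option (Option (Option (Fin m))) → V
  | none => w
  | some none => a
  | some (some none) => b
  | some (some (some j)) => c j

theorem lin_iff {V : Type*} [AddCommGroup V] [Module ℂ V] {m : ℕ} {w a b : V} {c : Fin m → V}
    (h : ∀ (x y t : ℂ) (r : Fin m → ℂ), x • w + (y • a + (t • b + ∑ j, r j • c j)) = 0 →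
      x = 0 ∧ y = 0 ∧ t = 0 ∧ ∀ j, r j = 0) : LinearIndependent ℂ (fam w a b c) := by
  classical
  rw [Fintype.linearIndependent_iff]
  intro g hg
  rw [Fintype.sum_option, Fintype.sum_option, Fintype.sum_option] at hg
  simp only [fam] at hg
  obtain ⟨h1, h2, h3, h4⟩ := h _ _ _ _ hg
  intro i
  match i with
  | none => exact h1
  | some none => exact h2
  | some (some none) => exact h3
  | some (some (some j)) => exact h4 j

theorem indep {G : Type*} [Group G] [Fintype G] {m : ℕ} {w a b : G → ℂ} {c : Fin m → G → ℂ} {E : Type*} [AddCommGroup E] [Module ℂ E]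
    (L : (G → ℂ) →ₗ[ℂ] E) (hw : L w ≠ 0) (ha : L a = 0) (hb : L b = 0) (hc : ∀ j, L (c j) = 0)
    (naa : classInner a a = 3) (nbb : classInner b b = 3) (nab : classInner a b = 1) (nba : classInner b a = 1)
    (nca : ∀ j, classInner (c j) a = 1) (ncb : ∀ j, classInner (c j) b = 1)
    (nac : ∀ j, classInner a (c j) = 1) (nbc : ∀ j, classInner b (c j) = 1)
    (ncc : ∀ i j, classInner (c i) (c j) = if i = j then 2 else 1) :
    LinearIndependent ℂ (fam w a b c) := by
  classical
  apply lin_iff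
  intro x α β γ hg
  have h0 : x = 0 := by
    have h1 := congrArg L hg
    rw [map_add, map_add, map_add, map_sum, map_smul, map_smul, map_smul, map_zero, ha, hb] at h1
    have h2 : ∀ j, L (γ j • c j) = 0 := fun j => by rw [map_smul, hc, smul_zero]
    rw [Finset.sum_congr rfl fun j _ => h2 j, Finset.sum_const_zero, smul_zero, smul_zero, add_zero, add_zero,
      add_zero] at h1
    rcases smul_eq_zero.1 h1 with h | h
    · exact h
    · exact absurd h hw
  rw [h0, zero_smul, zero_add] at hg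
  have hin : ∀ f : G → ℂ, α * classInner a f + (β * classInner b f + ∑ j, γ j * classInner (c j) f) = 0 := by
    intro f
    have h1 : classInner (α • a + (β • b + ∑ j, γ j • c j)) f = classInner 0 f := congrArg (fun t : G → ℂ => classInner t f) hg
    rw [H18.CharOrtho.inner_add_left, H18.CharOrtho.inner_add_left, H18.CharOrtho.inner_smul_left,
      H18.CharOrtho.inner_smul_left, inner_sum_left, H18.CharOrtho.inner_zero_left] at h1
    rw [← h1]
    congr 2
    apply Finset.sum_congr rfl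
    intro j _
    rw [H18.CharOrtho.inner_smul_left]
  have e1 := hin a
  have e2 := hin b
  have e3 := fun i => hin (c i)
  rw [naa, nba, Finset.sum_congr rfl fun j _ => by rw [nca j, mul_one]] at e1
  rw [nab, nbb, Finset.sum_congr rfl fun j _ => by rw [ncb j, mul_one]] at e2
  set s := ∑ j, γ j with hs
  have e4 : ∀ i, γ i = -(α + β + s) := by
    intro i
    have h1 := e3 i
    rw [nac, nbc] at h1
    have h2 : ∑ j, γ j * classInner (c j) (c i) = s + γ i := by
      have h3 : ∀ j, γ j * classInner (c j) (c i) = γ j + (if j = i then γ i else 0) := by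
        intro j
        rw [ncc]
        split_ifs with h
        · rw [h]; ring
        · ring
      rw [Finset.sum_congr rfl fun j _ => h3 j, Finset.sum_add_distrib, Finset.sum_ite_eq' Finset.univ i,
        if_pos (Finset.mem_univ _)]
    rw [h2] at h1
    linear_combination h1
  have hab : α = β := by linear_combination (e1 - e2) / 2
  have hs2 : s = -(m : ℂ) * (2 * α + s) := by
    conv_lhs => rw [hs]
    rw [Finset.sum_congr rfl fun j _ => e4 j, Finset.sum_const, Finset.card_univ, Fintype.card_fin, nsmul_eq_mul,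
      ← hab]
    ring
  have hs3 : s = -4 * α := by rw [← hab] at e1; linear_combination e1
  have hα0 : α = 0 := by
    rw [hs3] at hs2
    have h1 : (2 * (m : ℂ) + 4) * α = 0 := by linear_combination -hs2
    rcases mul_eq_zero.1 h1 with h | h
    · exfalso
      have h2 : ((2 * m + 4 : ℕ) : ℂ) = 0 := by push_cast; exact h
      have h3 : 2 * m + 4 = 0 := by exact_mod_cast h2
      omega
    · exact h
  have hβ0 : β = 0 := by rw [← hab]; exact hα0
  have hs0 : s = 0 := by rw [hs3, hα0, mul_zero]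
  refine ⟨h0, hα0, hβ0, fun j => ?_⟩
  have := e4 j
  rw [hα0, hβ0, hs0] at this
  simpa using this


section comb
open H5.TBc H5.TBd

variable {I : Type*} [Fintype I] [DecidableEq I]
variable {a₁ a₂ : I → ℤ}

/-- if the support of `d` is as large as possible, then it contains all the other supports -/
theorem supp_sub {m : ℕ} (hm : Even m) {u : Fin m → I → ℤ}
    (h1 : ∑ i, a₁ i * a₁ i = 3) (h2 : ∑ i, a₂ i * a₂ i = 3) (h12 : ∑ i, a₁ i * a₂ i = 1)
    (hu1 : ∀ j, ∑ i, a₁ i * u j i = 1) (hu2 : ∀ j, ∑ i, a₂ i * u j i = 1)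
    (huu : ∀ j k, ∑ i, u j i * u k i = if j = k then 2 else 1) {d : I → ℤ}
    (hd : ∀ i, d i = a₁ i + a₂ i + 2 * ∑ j : Fin m, (-1 : ℤ) ^ (j : ℕ) * u j i) (hodd : ∃ i, d i % 2 = 1)
    (hcard : m + 5 ≤ (Finset.univ.filter (fun i => d i ≠ 0)).card) :
    (∀ i, a₁ i ≠ 0 → d i ≠ 0) ∧ (∀ i, a₂ i ≠ 0 → d i ≠ 0) ∧ ∀ j i, u j i ≠ 0 → d i ≠ 0 := by
  obtain ⟨X, Y₁, Y₂, Y₃, Y₄, h⟩ := exists_two h1 h2 h12 (by
    obtain ⟨i, hi⟩ := hodd
    refine ⟨i, ?_⟩
    rw [hd i] at hi
    omega)
  have htype : ∀ j, (∃ x, TA a₁ X Y₁ Y₂ Y₃ Y₄ (u j) x) ∨ ∃ s t, TB a₁ a₂ Y₁ Y₂ Y₃ Y₄ (u j) s t := fun j =>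
    type_of h (by rw [huu, if_pos rfl]) (hu1 j) (hu2 j)
  have hmix : ∀ i j x s t, TA a₁ X Y₁ Y₂ Y₃ Y₄ (u i) x → TB a₁ a₂ Y₁ Y₂ Y₃ Y₄ (u j) s t → False := by
    intro i j x s t hA hB
    obtain ⟨c1, c2, c3, c4, c5, c6, c7, c8⟩ := hA
    obtain ⟨b1, b2, b3, b4, b5⟩ := hB
    have hsX : X ≠ s := by rcases b1 with rfl | rfl; exacts [h.n1.symm, h.n2.symm]
    have htX : X ≠ t := by rcases b2 with rfl | rfl; exacts [h.n3.symm, h.n4.symm]
    have hxs : x ≠ s := by rcases b1 with rfl | rfl; exacts [c2, c3]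
    have hxt : x ≠ t := by rcases b2 with rfl | rfl; exacts [c4, c5]
    have h3 := huu i j
    rw [sum_pair' c1.symm (fun i i1 i2 => by rw [c8 i i1 i2, zero_mul]), b5 X hsX htX, b5 x hxs hxt] at h3
    split_ifs at h3 <;> norm_num at h3
  by_cases hall : ∀ j, ∃ x, TA a₁ X Y₁ Y₂ Y₃ Y₄ (u j) x
  · choose x hA using hall
    have hinj : Function.Injective x := by
      intro i j hij
      by_contra hne
      obtain ⟨c1, c2, c3, c4, c5, c6, c7, c8⟩ := hA i
      obtain ⟨b1, b2, b3, b4, b5, b6, b7, b8⟩ := hA j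
      have h3 := huu i j
      rw [sum_pair' c1.symm (fun i i1 i2 => by rw [c8 i i1 i2, zero_mul]), if_neg hne, c6, b6] at h3
      rw [hij] at h3 c7
      rcases h.hX with h4 | h4 <;> rcases c7 with h5 | h5 <;> rcases b7 with h6 | h6 <;>
        rw [h4, h5, h6] at h3 <;> norm_num at h3
    have dX : d X = 2 * a₁ X := by rw [hd]; exact main_X h hm hA
    have dx : ∀ k, d (x k) = 2 ∨ d (x k) = -2 := fun k => by rw [hd]; exact main_x h hA hinj k
    have dY : ∀ i, i ≠ X → (∀ j, i ≠ x j) → d i = a₁ i + a₂ i := fun i h1 h2 => by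
      rw [hd]; exact main_other hA h1 h2
    have x1 : ∀ j, Y₁ ≠ x j := fun j => (hA j).2.1.symm
    have x2 : ∀ j, Y₂ ≠ x j := fun j => (hA j).2.2.1.symm
    have x3 : ∀ j, Y₃ ≠ x j := fun j => (hA j).2.2.2.1.symm
    have x4 : ∀ j, Y₄ ≠ x j := fun j => (hA j).2.2.2.2.1.symm
    have d1 : d Y₁ ≠ 0 := by
      rw [dY _ h.n1 x1, h.z2 _ h.n1 h.n13 h.n14, add_zero]
      rcases h.h1 with h5 | h5 <;> rw [h5] <;> norm_num
    have d2 : d Y₂ ≠ 0 := by
      rw [dY _ h.n2 x2, h.z2 _ h.n2 h.n23 h.n24, add_zero]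
      rcases h.h2 with h5 | h5 <;> rw [h5] <;> norm_num
    have d3 : d Y₃ ≠ 0 := by
      rw [dY _ h.n3 x3, h.z1 _ h.n3 h.n13.symm h.n23.symm, zero_add]
      rcases h.h3 with h5 | h5 <;> rw [h5] <;> norm_num
    have d4 : d Y₄ ≠ 0 := by
      rw [dY _ h.n4 x4, h.z1 _ h.n4 h.n14.symm h.n24.symm, zero_add]
      rcases h.h4 with h5 | h5 <;> rw [h5] <;> norm_num
    have dX' : d X ≠ 0 := by
      rw [dX]; rcases h.hX with h1 | h1 <;> rw [h1] <;> norm_num
    refine ⟨?_, ?_, ?_⟩
    · intro i hi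
      by_cases e0 : i = X
      · rw [e0]; exact dX'
      by_cases e1 : i = Y₁
      · rw [e1]; exact d1
      by_cases e2 : i = Y₂
      · rw [e2]; exact d2
      exact absurd (h.z1 i e0 e1 e2) hi
    · intro i hi
      by_cases e0 : i = X
      · rw [e0]; exact dX'
      by_cases e1 : i = Y₃
      · rw [e1]; exact d3
      by_cases e2 : i = Y₄
      · rw [e2]; exact d4
      exact absurd (h.z2 i e0 e1 e2) hi
    · intro j i hi
      by_cases e0 : i = X
      · rw [e0]; exact dX'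
      by_cases e1 : i = x j
      · rw [e1]
        rcases dx j with h5 | h5 <;> rw [h5] <;> norm_num
      exact absurd ((hA j).2.2.2.2.2.2.2 i e0 e1) hi
  · exfalso
    rw [not_forall] at hall
    obtain ⟨j0, hj0⟩ := hall
    obtain ⟨s0, t0, hB0⟩ := (htype j0).resolve_left hj0
    have hB : ∀ j, ∃ s t, TB a₁ a₂ Y₁ Y₂ Y₃ Y₄ (u j) s t := by
      intro j
      rcases htype j with ⟨x, hx⟩ | h3
      · exact (hmix _ _ _ _ _ hx hB0).elim
      · exact h3
    have hsub : Finset.univ.filter (fun i => d i ≠ 0) ⊆ ({X, Y₁, Y₂, Y₃, Y₄} : Finset I) := by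
      intro i hi
      rw [Finset.mem_filter] at hi
      by_contra hno
      simp only [Finset.mem_insert, Finset.mem_singleton, not_or] at hno
      obtain ⟨k0, k1, k2, k3, k4⟩ := hno
      apply hi.2
      rw [hd, h.z1 i k0 k1 k2, h.z2 i k0 k3 k4, Finset.sum_eq_zero]
      · norm_num
      · intro j _
        obtain ⟨s, t, b1, b2, -, -, b5⟩ := hB j
        rw [b5 i, mul_zero]
        · rcases b1 with rfl | rfl
          · exact k1
          · exact k2
        · rcases b2 with rfl | rfl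
          · exact k3
          · exact k4
    have h5 := (Finset.card_le_card hsub).trans Finset.card_le_five
    have := j0.pos
    omega

end comb

attribute [local instance 2000] Fintype.ofFinite

section lin
variable {M : Ideal AlgInt} {G : Type u} [Group G] [Finite G] {p : ℕ}

/-- independent functions of the block vanishing on the regular elements bound the rank -/
theorem rank_add_le {B : Set (IrrCharacter G)} {ι : Type} [Finite ι] {F : ι → G → ℂ}
    (hlin : LinearIndependent ℂ F) (hF : ∀ i, F i ∈ spn B) (hreg : ∀ i, reg p (F i) = 0) :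
    Nat.card ι + blockRank p B ≤ Nat.card B := by
  classical
  rw [Nat.card_eq_fintype_card (α := ι)]
  have e1 := LinearMap.finrank_range_add_finrank_ker ((regL G p).domRestrict (spn B))
  have e2 : LinearMap.range ((regL G p).domRestrict (spn B)) = rspn p B := by
    rw [rspn_eq_map]
    ext g
    constructor
    · rintro ⟨f, rfl⟩; exact ⟨f.1, f.2, rfl⟩
    · rintro ⟨f, hf, rfl⟩; exact ⟨⟨f, hf⟩, rfl⟩
  rw [e2, finrank_spn, finrank_rspn] at e1
  have h3 : Fintype.card ι ≤ Module.finrank ℂ (LinearMap.ker ((regL G p).domRestrict (spn B))) := by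
    let F' : ι → LinearMap.ker ((regL G p).domRestrict (spn B)) := fun i => ⟨⟨F i, hF i⟩, hreg i⟩
    have h4 : LinearIndependent ℂ F' := by
      apply LinearIndependent.of_comp ((spn B).subtype ∘ₗ (LinearMap.ker ((regL G p).domRestrict (spn B))).subtype)
      exact hlin
    exact h4.fintype_card_le_finrank
  omega

/-- a function of the block living on the section of `v` -/
theorem exists_section_fun (hM : IsPModular p M) {B : Set (IrrCharacter G)} (hB : IsPBlock M B) {v : G}
    (hv : ∃ k : ℕ, orderOf v = p ^ k) (hv1 : v ≠ 1) {b : Set (IrrCharacter (C v))}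
    (hb : IsInducedBlock M (C v) b B) : ∃ w ∈ spn B, reg p w = 0 ∧ reg p (trL v w) ≠ 0 := by
  classical
  haveI := pm_isPrime hM
  have hp := pm_prime hM
  obtain ⟨ξ, hξ⟩ := isPBlock_nonempty hb.1
  set u : C v → ℂ := reg p (ξ : C v → ℂ) with hu
  have huu : reg p u = u := H78.BlkCount.reg_reg _
  have hUb := isUnion_of_isPBlock hb.1
  have huc : IsClassFunction (C v) u := reg_class (isClassFunction_of_isIrr ξ.2)
  have hu1 : u 1 ≠ 0 := by
    rw [hu, reg_of (by rw [orderOf_one]; exact hp.one_lt.ne' ∘ Nat.dvd_one.1)]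
    exact irr_one_ne_zero ξ.2
  have hself := lift_self hp v hv huc huu
  have hfc : IsClassFunction G (H78.BlkCount.lift v u) := lift_class v u
  refine ⟨proj B (H78.BlkCount.lift v u), proj_mem_spn B _, ?_, ?_⟩
  · have h1 : reg p (H78.BlkCount.lift v u) = 0 := by
      have h2 := lift_other hp v 1 hv ⟨0, by rw [orderOf_one, pow_zero]⟩ (by
        intro hc
        exact hv1 (isConj_one_right.1 hc)) huu
      funext g
      by_cases hg : p ∣ orderOf g
      · rw [reg_not hg]; rfl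
      · have hgc : g ∈ Subgroup.centralizer ({(1 : G)} : Set G) := by
          rw [Subgroup.mem_centralizer_singleton_iff]; simp
        have h3 := congrFun h2 ⟨g, hgc⟩
        rw [reg_of (by rwa [Subgroup.orderOf_mk]), trL_apply, one_mul] at h3
        rw [reg_of hg]
        exact h3
    rw [← proj_reg hM (isUnion_of_isPBlock hB) hfc, h1]
    exact (projL B).map_zero
  · intro h0
    have h1 := D_proj hM v hv hb hfc
    rw [D_apply, D_apply, ← proj_reg hM hUb (trL_class v (class_of_mem_spn (proj_mem_spn B _))), h0,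
      ← proj_reg hM hUb (trL_class v hfc), hself] at h1
    have h2 : proj b u = u := by
      rw [hu, proj_reg hM hUb (isClassFunction_of_isIrr ξ.2), proj_irr _ _ hξ]
    rw [h2] at h1
    apply hu1
    rw [← h1]
    exact congrFun (projL b).map_zero 1

end lin

section main
variable {M : Ideal AlgInt} [M.IsMaximal] {G : Type u} [Group G] [Finite G]
variable [CharP (ResF M) 2] [Algebra (ZMod 2) (ResF M)] [Algebra.IsAlgebraic (ZMod 2) (ResF M)]
  [IsAlgClosed (ResF M)]
variable {B : Set (IrrCharacter G)} {n : ℕ} {z : G} {b : Set (IrrCharacter (C z))}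
    {P : Subgroup (C z)} {e : MonoidAlgebra (ResF M) (C z)} {S : Sylow 2 P} {σ : P}
    {ψ : IrrCharacter (C z)} {ζ : ℂ}

theorem Th_spn (hM : IsPModular 2 M) (h : Loc M B n z b P e S σ ψ) {f : P → ℂ} (hf : Good z P f)
    (hoff : ∀ χ : IrrCharacter G, classInner (Th 2 P e (ψ : C z → ℂ) f) (χ : G → ℂ) ≠ 0 → χ ∈ B) :
    Th 2 P e (ψ : C z → ℂ) f ∈ spn B := by
  have h1 := mem_classFun_expand (isClassFunction_of_isGen (Th_gen hM h.hmax h.hnil hf.gen ψ))
  rw [h1]
  refine Submodule.sum_mem _ fun χ _ => ?_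
  by_cases hχ : χ ∈ B
  · exact Submodule.smul_mem _ _ (Submodule.subset_span ⟨χ, hχ, rfl⟩)
  · have h2 : classInner (Th 2 P e (ψ : C z → ℂ) f) (χ : G → ℂ) = 0 := by
      by_contra h3
      exact hχ (hoff χ h3)
    rw [h2, zero_smul]; exact Submodule.zero_mem _

theorem thetas_mem (hM : IsPModular 2 M) (h : Loc M B n z b P e S σ ψ) (hζ : IsPrimitiveRoot ζ (2 ^ (n - 1)))
    (hk : Nat.card B = 2 ^ (n - 2) + 3) : Th 2 P e (ψ : C z → ℂ) (va h.ds hζ) ∈ spn B ∧
      Th 2 P e (ψ : C z → ℂ) (vb h.ds hζ) ∈ spn B ∧ ∀ j, Th 2 P e (ψ : C z → ℂ) (vc h.ds hζ j) ∈ spn B := by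
  classical
  have ga : Good z P (va h.ds hζ) := good_diff h _ _
  have gb : Good z P (vb h.ds hζ) := good_diff h _ _
  have gc : ∀ j, Good z P (vc h.ds hζ j) := fun j => good_diff h _ _
  obtain ⟨a₁, ha₁⟩ := exists_coeff hM h ga
  obtain ⟨a₂, ha₂⟩ := exists_coeff hM h gb
  choose u hu using fun j => exists_coeff hM h (gc j)
  set d : IrrCharacter G → ℤ := fun χ => a₁ χ + a₂ χ + 2 * ∑ j : Fin (2 ^ (n - 2) - 2), (-1 : ℤ) ^ (j : ℕ) * u j χ
    with hd
  have hdχ : ∀ χ : IrrCharacter G, classInner (Th 2 P e (ψ : C z → ℂ) (fz (JJ σ n))) (χ : G → ℂ) = (d χ : ℂ) := by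
    intro χ
    rw [fz_eq h hζ, Th_add, Th_add, Th_smul, Th_sum, H18.CharOrtho.inner_add_left, H18.CharOrtho.inner_add_left,
      H18.CharOrtho.inner_smul_left, inner_sum_left, ha₁, ha₂]
    have h1 : ∀ j : Fin (2 ^ (n - 2) - 2), classInner (Th 2 P e (ψ : C z → ℂ) (((-1 : ℂ) ^ (j : ℕ)) • vc h.ds hζ j))
        (χ : G → ℂ) = (-1 : ℂ) ^ (j : ℕ) * (u j χ : ℂ) := by
      intro j
      rw [Th_smul, H18.CharOrtho.inner_smul_left, hu]
    rw [Finset.sum_congr rfl fun j _ => h1 j, hd]
    push_cast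
    ring
  have hzp : ∃ k : ℕ, orderOf z = 2 ^ k := ⟨1, by rw [h.hz, pow_one]⟩
  have hco : ∀ χ : IrrCharacter G, _ := fun χ =>
    coeff hM h.hz hzp h.hind h.hd h.hmax h.hb h.hnil h.hψ h.h0 (JJ σ n) h.hw χ (hdχ χ)
  have hodd : ∃ χ, d χ % 2 = 1 := by
    obtain ⟨χ, hχ, h0⟩ := exists_height_zero hM h.hind.2.1
    have h1 := ((hco χ).2 hχ).2
    rw [h0, zero_add, pow_one] at h1
    exact ⟨χ, by omega⟩
  have hne : ∀ χ : IrrCharacter G, d χ ≠ 0 ↔ χ ∈ B := by
    intro χ
    constructor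
    · intro h3
      by_contra h4
      exact h3 ((hco χ).1 h4)
    · intro hχ h0
      apply ((hco χ).2 hχ).2
      rw [h0]; exact dvd_zero _
  have hcard : Nat.card B = (Finset.univ.filter (fun χ : IrrCharacter G => d χ ≠ 0)).card := by
    rw [← Fintype.card_subtype, ← Nat.card_eq_fintype_card]
    exact Nat.card_congr (Equiv.subtypeEquivRight fun χ => (hne χ).symm)
  have hq := q_ge h.ds
  obtain ⟨s1, s2, s3⟩ := supp_sub (m_even h.ds) (u := u) (a₁ := a₁) (a₂ := a₂) (d := d)
    (sum_coeff hM h ga ga ha₁ ha₁ (by rw [n_aa h.ds hζ h.hS]; norm_num))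
    (sum_coeff hM h gb gb ha₂ ha₂ (by rw [n_bb h.ds hζ h.hS]; norm_num))
    (sum_coeff hM h ga gb ha₁ ha₂ (by rw [n_ab h.ds hζ h.hS]; norm_num))
    (fun j => sum_coeff hM h ga (gc j) ha₁ (hu j) (by rw [n_ac h.ds hζ h.hS]; norm_num))
    (fun j => sum_coeff hM h gb (gc j) ha₂ (hu j) (by rw [n_bc h.ds hζ h.hS]; norm_num))
    (fun j k => sum_coeff hM h (gc j) (gc k) (hu j) (hu k) (by rw [n_cc h.ds hζ h.hS]; split_ifs <;> norm_num))
    (fun χ => rfl) hodd (by rw [← hcard, hk]; omega)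
  refine ⟨Th_spn hM h ga fun χ hχ => ?_, Th_spn hM h gb fun χ hχ => ?_, fun j => Th_spn hM h (gc j) fun χ hχ => ?_⟩
  · rw [ha₁] at hχ
    exact (hne χ).1 (s1 χ (by exact_mod_cast hχ))
  · rw [ha₂] at hχ
    exact (hne χ).1 (s2 χ (by exact_mod_cast hχ))
  · rw [hu] at hχ
    exact (hne χ).1 (s3 j χ (by exact_mod_cast hχ))

theorem Th_section (hM : IsPModular 2 M) (hz : orderOf z = 2) {ψ : C z → ℂ} {f : P → ℂ} (sf : Sup z P f)
    {v g : G} (hv : orderOf v = 2) (hvz : ¬ IsConj v z) (hg : IsPPart 2 g v) : Th 2 P e ψ f g = 0 := by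
  classical
  unfold Th
  rw [indFun_apply]
  have h1 : ∀ x : G, extendByZero (C z) (FF 2 P e ψ f) (x⁻¹ * g * x) = 0 := by
    intro x
    by_cases hx : x⁻¹ * g * x ∈ C z
    · rw [ext_mem _ _ hx]
      apply FF_AA hM sf
      intro hA
      have h2 : z ∈ Subgroup.zpowers (x⁻¹ * g * x) := hA
      have h3 : x * z * x⁻¹ ∈ Subgroup.zpowers g := by
        obtain ⟨k, hk⟩ := h2
        refine ⟨k, ?_⟩
        have hk' : (x⁻¹ * g * x) ^ k = z := hk
        change g ^ k = x * z * x⁻¹
        rw [← hk']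
        have h4 : (x⁻¹ * g * x) ^ k = x⁻¹ * g ^ k * x := by
          have := conj_zpow (a := x⁻¹) (b := g) (i := k)
          rwa [inv_inv] at this
        rw [h4]; group
      have h4 : orderOf (x * z * x⁻¹) = 2 := by
        rw [← hz]
        exact orderOf_injective (MulAut.conj x).toMonoidHom (MulAut.conj x).injective z
      have h5 := inv_unique (H20.First.isPPart_mem_zpowers hg) h3 hv h4
      exact hvz (IsConj.symm (isConj_iff.2 ⟨x, h5.symm⟩))
    · exact ext_notMem _ _ hx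
  simp only [h1, Finset.sum_const_zero, mul_zero]

/-- a non-fused involution bounds the rank by two -/
theorem rank_le_two (hM : IsPModular 2 M) (hB : IsPBlock M B) (h : Loc M B n z b P e S σ ψ)
    (hk : Nat.card B = 2 ^ (n - 2) + 3) {v : G} (hv : orderOf v = 2) (hvz : ¬ IsConj v z)
    {c : Set (IrrCharacter (C v))} (hc : IsInducedBlock M (C v) c B) : blockRank 2 B ≤ 2 := by
  classical
  have hζ := Complex.isPrimitiveRoot_exp (2 ^ (n - 1)) (by positivity)
  set ζ := Complex.exp (2 * Real.pi * Complex.I / ((2 ^ (n - 1) : ℕ) : ℂ)) with hζd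
  have hvp : ∃ k : ℕ, orderOf v = 2 ^ k := ⟨1, by rw [hv, pow_one]⟩
  obtain ⟨w, hw, hwr, hwv⟩ := exists_section_fun hM hB hvp (by
    intro h1; rw [h1, orderOf_one] at hv; omega) hc
  have ga : Good z P (va h.ds hζ) := good_diff h _ _
  have gb : Good z P (vb h.ds hζ) := good_diff h _ _
  have gc : ∀ j, Good z P (vc h.ds hζ j) := fun j => good_diff h _ _
  obtain ⟨ma, mb, mc⟩ := thetas_mem hM h hζ hk
  have hL : ∀ f : P → ℂ, Good z P f → (regL (C v) 2 ∘ₗ trL v) (Th 2 P e (ψ : C z → ℂ) f) = 0 := by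
    intro f hf
    change reg 2 (trL v (Th 2 P e (ψ : C z → ℂ) f)) = 0
    funext y
    by_cases hy : 2 ∣ orderOf y
    · rw [reg_not hy]; rfl
    · rw [reg_of hy, trL_apply]
      apply Th_section hM h.hz hf.sup hv hvz
      refine ⟨y, rfl, (Subgroup.mem_centralizer_singleton_iff.1 y.2).symm, hvp, ?_⟩
      rwa [Subgroup.orderOf_coe]
  have hin : ∀ f g : P → ℂ, Good z P f → Good z P g → classInner (Th 2 P e (ψ : C z → ℂ) f)
      (Th 2 P e (ψ : C z → ℂ) g) = classInner f g := fun f g hf hg =>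
    Th_inner hM h.hz h.hmax h.hb h.hnil h.hψ h.h0 (isClassFunction_of_isGen hf.gen)
      (isClassFunction_of_isGen hg.gen) hf.sup hg.sup
  have hsw : ∀ f g : P → ℂ, classInner f g = 1 → classInner g f = 1 := fun f g h1 => by
    have := inner_swap f g 1 (by rw [h1]; simp)
    rw [this]; simp
  have hlin := indep (w := w) (a := Th 2 P e (ψ : C z → ℂ) (va h.ds hζ)) (b := Th 2 P e (ψ : C z → ℂ) (vb h.ds hζ))
    (c := fun j => Th 2 P e (ψ : C z → ℂ) (vc h.ds hζ j)) (regL (C v) 2 ∘ₗ trL v) hwv (hL _ ga) (hL _ gb)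
    (fun j => hL _ (gc j))
    (by rw [hin _ _ ga ga, n_aa h.ds hζ h.hS]) (by rw [hin _ _ gb gb, n_bb h.ds hζ h.hS])
    (by rw [hin _ _ ga gb, n_ab h.ds hζ h.hS])
    (by rw [hin _ _ gb ga]; exact hsw _ _ (n_ab h.ds hζ h.hS))
    (fun j => by rw [hin _ _ (gc j) ga]; exact hsw _ _ (n_ac h.ds hζ h.hS j))
    (fun j => by rw [hin _ _ (gc j) gb]; exact hsw _ _ (n_bc h.ds hζ h.hS j))
    (fun j => by rw [hin _ _ ga (gc j), n_ac h.ds hζ h.hS])
    (fun j => by rw [hin _ _ gb (gc j), n_bc h.ds hζ h.hS])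
    (fun i j => by rw [hin _ _ (gc i) (gc j), n_cc h.ds hζ h.hS])
  have hTr : ∀ f : P → ℂ, Good z P f → reg 2 (Th 2 P e (ψ : C z → ℂ) f) = 0 := by
    intro f hf
    funext g
    by_cases hg : 2 ∣ orderOf g
    · rw [reg_not hg]; rfl
    · rw [reg_of hg, Th_reg hM h.hz rfl hf.sup hg]; rfl
  have h3 := rank_add_le (p := 2) (B := B) hlin (by
    intro i
    match i with
    | none => exact hw
    | some none => exact ma
    | some (some none) => exact mb
    | some (some (some j)) => exact mc j) (by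
    intro i
    match i with
    | none => exact hwr
    | some none => exact hTr _ ga
    | some (some none) => exact hTr _ gb
    | some (some (some j)) => exact hTr _ (gc j))
  have h4 : Nat.card (Option (Option (Option (Fin (2 ^ (n - 2) - 2))))) = (2 ^ (n - 2) - 2) + 3 := by
    rw [Finite.card_option, Finite.card_option, Finite.card_option, Nat.card_fin]
  have hq := q_ge h.ds
  rw [h4, hk] at h3
  omega

/-- with rank three all involutions of a dihedral defect group are conjugate to one involution -/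
theorem all_conj (hM : IsPModular 2 M) (hB : IsPBlock M B) {D : Subgroup G}
    (hD : IsDefectGroup 2 M B D) {n : ℕ} (hn : 3 ≤ n) (φ : D ≃* DihedralGroup (2 ^ (n - 1)))
    (hl : 3 ≤ blockRank 2 B) : ∃ z : G, ∀ v ∈ D, orderOf v = 2 → IsConj v z := by
  obtain ⟨z, b, P, e, S, σ, ψ, hloc⟩ := H5.TBj.exists_loc hM hB hD hn φ
  have hk := (Cfsg.Agent.S4528.result M hM B hB D hD n hn ⟨φ⟩).1
  refine ⟨z, fun v hv hvo => ?_⟩
  by_contra hno
  obtain ⟨c, hc⟩ := H79.KLOne.exists_sub hM hB hD hv ⟨1, by rw [hvo, pow_one]⟩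
  have := rank_le_two hM hB hloc hk hvo hno hc
  omega

end main

end H5.TCa
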