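import Cfsg.Agent.Lib.H5.TCa
import Cfsg.Agent.Lib.H77.DefQuot
import Cfsg.Agent.S4571
import Cfsg.Agent.Lib.H25.QD
import Cfsg.Agent.Lib.H64.Prim

/-!
# Quotients by central involutions; semidihedral defect groups
-/

set_option autoImplicit false
set_option linter.unusedSectionVars false
set_option linter.unusedVariables false

namespace H5.TCb

open Cfsg H20.Loc H20.GA H20.Blk H20.NormQ H20.Orth H20.NPC H18.CharBasic H18.CharOrtho Cfsg.Agent.S4571
open scoped ComplexConjugate

universe u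

variable {G : Type u} [Group G] [Finite G] {p : ℕ} {M : Ideal AlgInt}

theorem rank_quot (hM : IsPModular p M) (Q : Subgroup G) [Q.Normal] (hQ : IsPGroup p Q)
    (hC : ∀ x : G, ¬ p ∣ orderOf x → x ∈ Subgroup.centralizer (Q : Set G)) {B : Set (IrrCharacter G)}
    (hB : IsPBlock M B) {B' : Set (IrrCharacter (G ⧸ Q))} (hmem : ∀ ψ : IrrCharacter (G ⧸ Q), infl Q ψ ∈ B ↔ ψ ∈ B') :
    blockRank p B = blockRank p B' := by
  classical
  haveI := pm_isPrime hM
  haveI : Fact p.Prime := ⟨pm_prime hM⟩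
  letI := Fintype.ofFinite G
  letI : Fintype (IrrCharacter G) := Fintype.ofFinite _
  letI := Fintype.ofFinite (G ⧸ Q)
  letI : Fintype (IrrCharacter (G ⧸ Q)) := Fintype.ofFinite _
  have hU : IsUnion M B := isUnion_of_isPBlock hB
  unfold blockRank
  set W := Submodule.span ℂ ((fun χ : IrrCharacter (G ⧸ Q) => pRegularPart p (χ : G ⧸ Q → ℂ)) ''
    B') with hW
  set V := Submodule.span ℂ ((fun χ : IrrCharacter G => pRegularPart p (χ : G → ℂ)) ''
    B) with hV
  have hLinfl : ∀ ψ : IrrCharacter (G ⧸ Q), L Q p (pRegularPart p (ψ : G ⧸ Q → ℂ)) =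
      pRegularPart p (infl Q ψ : G → ℂ) := by
    intro ψ
    rw [pRegularPart_eq, pRegularPart_eq, L_reg]
    rfl
  have hVW : V = W.map (L Q p) := by
    apply le_antisymm
    · rw [hV, Submodule.span_le]
      rintro _ ⟨χ, hχ, rfl⟩
      -- the class function on the quotient
      let F : G ⧸ Q → ℂ := fun q => if h : ∃ x : G, (x : G ⧸ Q) = q ∧ ¬ p ∣ orderOf x then
        (χ : G → ℂ) h.choose else 0
      have hF : ∀ x : G, ¬ p ∣ orderOf x → F (x : G ⧸ Q) = (χ : G → ℂ) x := by
        intro x hx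
        have h : ∃ y : G, (y : G ⧸ Q) = (x : G ⧸ Q) ∧ ¬ p ∣ orderOf y := ⟨x, rfl, hx⟩
        have h1 : F (x : G ⧸ Q) = (χ : G → ℂ) h.choose := dif_pos h
        rw [h1]
        exact congrArg (χ : G → ℂ) (H20.PC.eq_of_mk_eq Q hQ hC h.choose_spec.2 hx h.choose_spec.1)
      have hF0 : ∀ q : G ⧸ Q, (¬ ∃ x : G, (x : G ⧸ Q) = q ∧ ¬ p ∣ orderOf x) → F q = 0 :=
        fun q h => dif_neg h
      have hFc : IsClassFunction (G ⧸ Q) F := by
        intro q r
        obtain ⟨y, rfl⟩ := QuotientGroup.mk_surjective r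
        by_cases h : ∃ x : G, (x : G ⧸ Q) = q ∧ ¬ p ∣ orderOf x
        · obtain ⟨x, rfl, hx⟩ := h
          have h1 : ((y : G ⧸ Q) * (x : G ⧸ Q) * (y : G ⧸ Q)⁻¹) = ((y * x * y⁻¹ : G) : G ⧸ Q) := rfl
          rw [h1, hF x hx, hF _ (by rwa [H20.Orth.orderOf_conj])]
          exact isClassFunction_of_isIrr χ.2 x y
        · rw [hF0 _ h, hF0]
          rintro ⟨x, hx1, hx2⟩
          apply h
          refine ⟨y⁻¹ * x * (y⁻¹)⁻¹, ?_, by rwa [H20.Orth.orderOf_conj]⟩
          rw [QuotientGroup.mk_mul, QuotientGroup.mk_mul, hx1, inv_inv, QuotientGroup.mk_inv]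
          group
      have h1 : reg p (χ : G → ℂ) = reg p (fun g : G => F (g : G ⧸ Q)) := by
        funext g
        by_cases h : p ∣ orderOf g
        · rw [reg_not h, reg_not h]
        · rw [reg_of h, reg_of h, hF g h]
      have hFG : IsClassFunction G (fun g : G => F (g : G ⧸ Q)) := fun g h => by
        have := hFc (g : G ⧸ Q) (h : G ⧸ Q)
        exact this
      have h2 : reg p (χ : G → ℂ) = reg p (proj B (fun g : G => F (g : G ⧸ Q))) := by
        rw [← proj_reg hM hU hFG, ← h1, proj_reg hM hU (isClassFunction_of_isIrr χ.2),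
          proj_irr _ _ hχ]
      have h3 : (fun g : G => F (g : G ⧸ Q)) = ∑ ψ : IrrCharacter (G ⧸ Q),
          classInner F (ψ : G ⧸ Q → ℂ) • (infl Q ψ : G → ℂ) := by
        funext g
        have := congrFun (mem_classFun_expand hFc) (g : G ⧸ Q)
        rw [this]
        simp only [Finset.sum_apply, Pi.smul_apply]
        rfl
      have h4 : reg p (proj B (fun g : G => F (g : G ⧸ Q))) =
          ∑ χ' : IrrCharacter G, (if χ' ∈ B then
            classInner (fun g : G => F (g : G ⧸ Q)) (χ' : G → ℂ) else 0) • reg p (χ' : G → ℂ) := by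
        funext g
        by_cases h : p ∣ orderOf g
        · rw [reg_not h, Finset.sum_apply, Finset.sum_eq_zero]
          intro χ' _
          rw [Pi.smul_apply, reg_not h, smul_zero]
        · rw [reg_of h, proj_eq_sum, Finset.sum_apply]
          refine Finset.sum_congr rfl fun χ' _ => ?_
          rw [Pi.smul_apply, reg_of h, smul_eq_mul]
          split_ifs
          · rfl
          · rw [zero_mul]
      show pRegularPart p (χ : G → ℂ) ∈ W.map (L Q p)
      rw [pRegularPart_eq, h2, h4]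
      refine Submodule.sum_mem _ fun χ' _ => ?_
      by_cases hχ' : χ' ∈ B
      · rw [if_pos hχ']
        by_cases h5 : classInner (fun g : G => F (g : G ⧸ Q)) (χ' : G → ℂ) = 0
        · rw [h5, zero_smul]; exact Submodule.zero_mem _
        · apply Submodule.smul_mem
          have h6 : ∃ ψ : IrrCharacter (G ⧸ Q), χ' = infl Q ψ := by
            by_contra hcon
            push Not at hcon
            apply h5
            rw [h3, H18.CharOrtho.inner_sum_left]
            refine Finset.sum_eq_zero fun ψ _ => ?_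
            rw [H18.CharOrtho.inner_smul_left, inner_irr_ne (infl Q ψ).2 χ'.2
              (fun h => hcon ψ (Subtype.ext h.symm)), mul_zero]
          obtain ⟨ψ, rfl⟩ := h6
          refine ⟨pRegularPart p (ψ : G ⧸ Q → ℂ), Submodule.subset_span ⟨ψ, (hmem ψ).1 hχ', rfl⟩, ?_⟩
          rw [hLinfl, pRegularPart_eq]
      · rw [if_neg hχ', zero_smul]; exact Submodule.zero_mem _
    · rw [hW, Submodule.map_span, Submodule.span_le]
      rintro _ ⟨_, ⟨ψ, hψ, rfl⟩, rfl⟩
      rw [hLinfl]
      exact Submodule.subset_span ⟨infl Q ψ, (hmem ψ).2 hψ, rfl⟩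
  have hinj : Function.Injective ((L Q p).domRestrict W) := by
    rw [← LinearMap.ker_eq_bot, LinearMap.ker_eq_bot']
    rintro ⟨F, hFW⟩ hF
    have hF' : L Q p F = 0 := hF
    apply Subtype.ext
    funext q
    show F q = 0
    by_cases hq : p ∣ orderOf q
    · -- members of W vanish at singular elements
      have : W ≤ LinearMap.ker (LinearMap.proj q : (G ⧸ Q → ℂ) →ₗ[ℂ] ℂ) := by
        rw [hW, Submodule.span_le]
        rintro _ ⟨ψ, _, rfl⟩
        show pRegularPart p (ψ : G ⧸ Q → ℂ) q = 0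
        rw [pRegularPart_eq, reg_not hq]
      exact this hFW
    · obtain ⟨x, rfl, hx⟩ := H20.PC.exists_regular_lift Q q hq
      have := congrFun hF' x
      rw [Cfsg.Agent.S4571.L_apply, reg_of hx] at this
      exact this
  rw [hVW, ← LinearMap.range_domRestrict]
  exact LinearMap.finrank_range_of_inj hinj


/-- central `p`-elements lie in the defect groups -/
theorem central_mem (hM : IsPModular p M) {B : Set (IrrCharacter G)} {D : Subgroup G} (hD : IsDefectGroup p M B D)
    {z : G} (hz : z ∈ Subgroup.center G) (hzp : ∃ k : ℕ, orderOf z = p ^ k) : z ∈ D := by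
  haveI : Fact p.Prime := ⟨pm_prime hM⟩
  obtain ⟨g, -, P, rfl⟩ := hD
  have hzg : z ∈ Subgroup.centralizer ({g} : Set G) := by
    rw [Subgroup.mem_centralizer_singleton_iff]
    exact (Subgroup.mem_center_iff.1 hz g).symm
  obtain ⟨k, hk⟩ := hzp
  have hK : IsPGroup p (Subgroup.zpowers (⟨z, hzg⟩ : Subgroup.centralizer ({g} : Set G))) := by
    apply IsPGroup.of_card (n := k)
    rw [Nat.card_zpowers, Subgroup.orderOf_mk, hk]
  obtain ⟨P', hP'⟩ := hK.exists_le_sylow
  obtain ⟨c, hc⟩ := MulAction.exists_smul_eq (Subgroup.centralizer ({g} : Set G)) P' P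
  refine ⟨⟨z, hzg⟩, ?_, rfl⟩
  have h1 : (⟨z, hzg⟩ : Subgroup.centralizer ({g} : Set G)) ∈ P' := hP' (Subgroup.mem_zpowers _)
  have h2 : c * (⟨z, hzg⟩ : Subgroup.centralizer ({g} : Set G)) * c⁻¹ ∈ c • P' :=
    ⟨⟨z, hzg⟩, h1, rfl⟩
  rw [hc] at h2
  have h3 : c * (⟨z, hzg⟩ : Subgroup.centralizer ({g} : Set G)) * c⁻¹ = ⟨z, hzg⟩ := by
    apply Subtype.ext
    change (c : G) * z * (c : G)⁻¹ = z
    rw [Subgroup.mem_center_iff.1 hz (c : G), mul_inv_cancel_right]
  rw [h3] at h2
  exact h2

/-- the block of the quotient by a central `p`-subgroup -/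
theorem exists_bar (hM : IsPModular p M) {B : Set (IrrCharacter G)} (hB : IsPBlock M B) {D : Subgroup G}
    (hD : IsDefectGroup p M B D) (Q : Subgroup G) [Q.Normal] (hQ : IsPGroup p Q) (hQc : Q ≤ Subgroup.center G) :
    ∃ B' : Set (IrrCharacter (G ⧸ Q)), IsPBlock M B' ∧ IsDefectGroup p M B' (D.map (QuotientGroup.mk' Q)) ∧
      blockRank p B = blockRank p B' := by
  haveI := pm_isPrime hM
  obtain ⟨B', h1, h2, h3⟩ := H77.DefQuot.exists_block Q hM hQ hB
  have hC : ∀ x : G, ¬ p ∣ orderOf x → x ∈ Subgroup.centralizer (Q : Set G) := by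
    intro x _
    rw [Subgroup.mem_centralizer_iff]
    intro y hy
    exact (Subgroup.mem_center_iff.1 (hQc hy) x).symm
  refine ⟨B', h1, (h3 _).2 ⟨D, hD, rfl⟩, ?_⟩
  apply rank_quot hM Q hQ hC hB
  intro ψ
  refine ⟨fun h => ?_, fun h => h2 ψ h⟩
  obtain ⟨χ, hχ⟩ := isPBlock_nonempty h1
  have h4 := isPBlock_sameBlock hB (h2 χ hχ) h
  have h5 := (H20.PC.sameBlock_infl_iff (P := Q) hM hQ hC χ ψ).2 h4
  exact (isPBlock_mem_iff h1 hχ ψ).2 h5

section two
open H25.QD

variable [M.IsMaximal] [CharP (ResF M) 2] [Algebra (ZMod 2) (ResF M)] [Algebra.IsAlgebraic (ZMod 2) (ResF M)]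
  [IsAlgClosed (ResF M)]

/-- dihedral defect groups and a central involution -/
theorem dih_le_two (hM : IsPModular 2 M) {B : Set (IrrCharacter G)} (hB : IsPBlock M B) {D : Subgroup G}
    (hD : IsDefectGroup 2 M B D) {n : ℕ} (hn : 3 ≤ n) (φ : D ≃* DihedralGroup (2 ^ (n - 1)))
    {z : G} (hz : z ∈ Subgroup.center G) (ho : orderOf z = 2) : blockRank 2 B ≤ 2 := by
  by_contra hlt
  obtain ⟨w, hw⟩ := H5.TCa.all_conj hM hB hD hn φ (by omega)
  have hzD := central_mem hM hD hz ⟨1, by rw [ho, pow_one]⟩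
  have hcz : ∀ x : G, IsConj x z → x = z := by
    intro x hx
    obtain ⟨c, hc⟩ := isConj_iff.1 hx.symm
    rw [← hc, Subgroup.mem_center_iff.1 hz c, mul_inv_cancel_right]
  have hwz : w = z := hcz w (hw z hzD ho).symm
  have hall : ∀ v ∈ D, orderOf v = 2 → v = z := fun v hv hvo => hcz v (hwz ▸ hw v hv hvo)
  have key : ∀ i : ZMod (2 ^ (n - 1)), (((φ.symm (DihedralGroup.sr i)) : D) : G) = z := by
    intro i
    apply hall _ (SetLike.coe_mem _)
    rw [Subgroup.orderOf_coe, MulEquiv.orderOf_eq]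
    exact DihedralGroup.orderOf_sr i
  have h1 : φ.symm (DihedralGroup.sr 0) = φ.symm (DihedralGroup.sr 1) := Subtype.ext ((key 0).trans (key 1).symm)
  have h2 := φ.symm.injective h1
  have h3 : (0 : ZMod (2 ^ (n - 1))) = 1 := by injection h2
  have h4 : 4 ≤ 2 ^ (n - 1) := by
    calc 4 = 2 ^ 2 := by norm_num
      _ ≤ 2 ^ (n - 1) := Nat.pow_le_pow_right (by norm_num) (by omega)
  haveI : Fact (1 < 2 ^ (n - 1)) := ⟨by omega⟩
  exact zero_ne_one h3

/-- semidihedral defect groups and a central involution -/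
theorem sd_le_two (hM : IsPModular 2 M) {B : Set (IrrCharacter G)} (hB : IsPBlock M B) {D : Subgroup G}
    (hD : IsDefectGroup 2 M B D) (hsd : IsQuasiDihedral D)
    {z : G} (hz : z ∈ Subgroup.center G) (ho : orderOf z = 2) : blockRank 2 B ≤ 2 := by
  by_contra hlt
  obtain ⟨m, x, y, hcard, hd⟩ := exists_data hsd
  set T : ℤ := 2 ^ m with hT
  have hT0 : 0 < T := hd.pos
  have hzD := central_mem hM hD hz ⟨1, by rw [ho, pow_one]⟩
  have hzc : ∀ g : G, g * z = z * g := fun g => Subgroup.mem_center_iff.1 hz g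
  set z' : D := ⟨z, hzD⟩ with hz'
  have hzz : z' * z' = 1 := by
    apply Subtype.ext
    change z * z = 1
    rw [← pow_two, ← ho, pow_orderOf_eq_one]
  have hz1 : z' ≠ 1 := by
    intro h1
    have h2 : z = 1 := congrArg Subtype.val h1
    rw [h2, orderOf_one] at ho
    omega
  have hzx : z' = x ^ (4 * T) := by
    rcases cases hd z' with ⟨i, hi⟩ | ⟨i, hi⟩
    · have h1 : x ^ i * x ^ i = 1 := by rw [← hi]; exact hzz
      rcases mem_one_z hd ((sq_x_iff hd i).1 h1) with h2 | h2
      · exact absurd (hi.trans h2) hz1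
      · exact hi.trans h2
    · exfalso
      have h1 : x * z' = z' * x := Subtype.ext (hzc x)
      rw [hi] at h1
      have h2 : y * x = x * y := by
        have h3 : x ^ i * (x * y) = x ^ i * (y * x) := by
          calc x ^ i * (x * y) = x * (x ^ i * y) := by group
            _ = x ^ i * y * x := h1
            _ = x ^ i * (y * x) := by group
        exact (mul_left_cancel h3).symm
      have h3 := hd.yx
      rw [h2, mul_inv_cancel_right] at h3
      have h4 : x ^ (4 * T - 1) = x ^ (1 : ℤ) := by rw [← h3, zpow_one]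
      rw [zpow_eq_iff hd] at h4
      have h5 := Int.le_of_dvd (by omega) h4
      omega
  -- the quotient
  let Q : Subgroup G := Subgroup.zpowers z
  have hQmem : ∀ g : G, g ∈ Q ↔ g = 1 ∨ g = z := by
    intro g
    constructor
    · rintro ⟨k, hk⟩
      have hk' : z ^ k = g := hk
      have h1 : z ^ 2 = 1 := by rw [← ho, pow_orderOf_eq_one]
      rcases Int.even_or_odd' k with ⟨c, hc | hc⟩
      · left
        rw [← hk', hc, zpow_mul]
        have : z ^ (2 : ℤ) = 1 := by exact_mod_cast h1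
        rw [this, one_zpow]
      · right
        rw [← hk', hc, zpow_add, zpow_mul, zpow_one]
        have : z ^ (2 : ℤ) = 1 := by exact_mod_cast h1
        rw [this, one_zpow, one_mul]
    · rintro (rfl | rfl)
      · exact Subgroup.one_mem _
      · exact Subgroup.mem_zpowers _
  have hQc : Q ≤ Subgroup.center G := (Subgroup.zpowers_le).2 hz
  haveI : Q.Normal := ⟨fun q hq g => by
    rw [Subgroup.mem_center_iff.1 (hQc hq) g, mul_inv_cancel_right]; exact hq⟩
  have hQ2 : IsPGroup 2 Q := IsPGroup.of_card (n := 1) (by rw [Nat.card_zpowers, ho, pow_one])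
  obtain ⟨B', hB', hD', hrk⟩ := exists_bar hM hB hD Q hQ2 hQc
  let π := QuotientGroup.mk' Q
  let f : D →* D.map π := π.subgroupMap D
  have hfs : Function.Surjective f := π.subgroupMap_surjective D
  have hf1 : ∀ d : D, f d = 1 ↔ d = 1 ∨ d = z' := by
    intro d
    have h1 : f d = 1 ↔ (d : G) ∈ Q := by
      rw [← QuotientGroup.eq_one_iff]
      constructor
      · intro h2; exact congrArg Subtype.val h2
      · intro h2; exact Subtype.ext h2
    rw [h1, hQmem]
    constructor
    · rintro (h2 | h2)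
      · exact Or.inl (Subtype.ext h2)
      · exact Or.inr (Subtype.ext h2)
    · rintro (h2 | h2)
      · exact Or.inl (congrArg Subtype.val h2)
      · exact Or.inr (congrArg Subtype.val h2)
  have hfz : f (x ^ (4 * T)) = 1 := (hf1 _).2 (Or.inr hzx.symm)
  have hker : f.ker = Subgroup.zpowers z' := by
    apply le_antisymm
    · intro d hd'
      rcases (hf1 d).1 hd' with h1 | h1
      · rw [h1]; exact Subgroup.one_mem _
      · rw [h1]; exact Subgroup.mem_zpowers _
    · rw [Subgroup.zpowers_le]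
      exact (hf1 _).2 (Or.inr rfl)
  have hcardD : Nat.card (D.map π) = 2 ^ (m + 3) := by
    have h1 := Subgroup.card_mul_index f.ker
    rw [Subgroup.index_ker, MonoidHom.range_eq_top.2 hfs, Subgroup.card_top, hker, Nat.card_zpowers, hcard,
      hz', Subgroup.orderOf_mk, ho] at h1
    have h2 : 2 ^ (m + 4) = 2 * 2 ^ (m + 3) := by rw [← pow_succ']
    rw [h2] at h1
    exact Nat.eq_of_mul_eq_mul_left (by norm_num) h1
  have hq : ((2 ^ (m + 2) : ℕ) : ℤ) = 4 * T := by rw [hT]; push_cast; ring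
  have hr : orderOf (f x) = 2 ^ (m + 2) := by
    apply Nat.dvd_antisymm
    · rw [orderOf_dvd_iff_pow_eq_one, ← map_pow]
      have h1 : x ^ (2 ^ (m + 2)) = x ^ (4 * T) := by rw [← zpow_natCast, hq]
      rw [h1]; exact hfz
    · have h1 : f x ^ orderOf (f x) = 1 := pow_orderOf_eq_one _
      rw [← map_pow, hf1] at h1
      have h2 : x ^ (orderOf (f x)) * x ^ (orderOf (f x)) = 1 := by
        rcases h1 with h1 | h1
        · rw [h1, mul_one]
        · rw [h1]; exact hzz
      have h3 : x ^ ((orderOf (f x) : ℕ) : ℤ) * x ^ ((orderOf (f x) : ℕ) : ℤ) = 1 := by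
        rw [zpow_natCast]; exact h2
      rw [sq_x_iff hd, ← hq] at h3
      exact_mod_cast h3
  have hns : f y ∉ Subgroup.zpowers (f x) := by
    intro hc
    obtain ⟨i, hi⟩ := Subgroup.mem_zpowers_iff.1 hc
    have h1 : f (x ^ (-i) * y) = 1 := by
      rw [map_mul, map_zpow, ← hi, ← zpow_add, neg_add_cancel, zpow_zero]
    rcases (hf1 _).1 h1 with h2 | h2
    · apply zpow_ne_y hd i
      have : y = x ^ i * (x ^ (-i) * y) := by group
      rw [this, h2, mul_one]
    · apply zpow_ne_y hd (i + 4 * T)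
      have : y = x ^ i * (x ^ (-i) * y) := by group
      rw [this, h2, hzx, ← zpow_add]
  haveI : NeZero (2 ^ (m + 2)) := ⟨by positivity⟩
  obtain ⟨φ⟩ := H64.Prim.Dihedral.equiv_of (2 ^ (m + 2)) (f x) (f y) hr
    (by rw [← map_mul, hd.yy, map_one])
    (by
      have h1 : y * x * y = x ^ (4 * T) * x⁻¹ := by
        have h2 := hd.yx
        rw [y_inv hd] at h2
        rw [h2, zpow_sub, zpow_one]
      rw [← map_mul, ← map_mul, h1, map_mul, hfz, one_mul, map_inv]) hns
    (by rw [hcardD, ← pow_succ'])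
  obtain ⟨w, hw⟩ := H5.TCa.all_conj hM hB' hD' (n := m + 3) (by omega) φ (by omega)
  have o1 : orderOf ((f y : D.map π) : G ⧸ Q) = 2 := by
    rw [Subgroup.orderOf_coe]
    apply orderOf_eq_prime
    · rw [pow_two, ← map_mul, hd.yy, map_one]
    · intro h1
      apply hns
      rw [h1]; exact Subgroup.one_mem _
  have o2 : orderOf ((f (x ^ (2 * T)) : D.map π) : G ⧸ Q) = 2 := by
    rw [Subgroup.orderOf_coe]
    apply orderOf_eq_prime
    · rw [pow_two, ← map_mul, ← zpow_add]
      have : 2 * T + 2 * T = 4 * T := by ring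
      rw [this]; exact hfz
    · intro h1
      rcases (hf1 _).1 h1 with h2 | h2
      · rw [zpow_eq_one_iff hd] at h2
        have := Int.le_of_dvd (by omega) h2
        omega
      · rw [hzx, zpow_eq_iff hd] at h2
        have h3 : 8 * T ∣ 2 * T := by
          obtain ⟨c, hc⟩ := h2
          exact ⟨-c, by linear_combination -hc⟩
        have := Int.le_of_dvd (by omega) h3
        omega
  have hconj : IsConj ((f y : D.map π) : G ⧸ Q) ((f (x ^ (2 * T)) : D.map π) : G ⧸ Q) :=
    (hw _ (SetLike.coe_mem _) o1).trans (hw _ (SetLike.coe_mem _) o2).symm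
  obtain ⟨c, hc⟩ := isConj_iff.1 hconj
  obtain ⟨g, rfl⟩ := QuotientGroup.mk_surjective c
  have h1 : ((g * (y : G) * g⁻¹ : G) : G ⧸ Q) = (((x ^ (2 * T) : D) : G) : G ⧸ Q) := hc
  rw [QuotientGroup.eq, hQmem] at h1
  have h2 : ((x ^ (2 * T) : D) : G) * ((x ^ (2 * T) : D) : G) = 1 := by
    have hyy : (y : G) * (y : G) = 1 := congrArg Subtype.val hd.yy
    have hzz' : z * z = 1 := congrArg Subtype.val hzz
    rcases h1 with h1 | h1
    · have h3 : ((x ^ (2 * T) : D) : G) = g * (y : G) * g⁻¹ := (inv_mul_eq_one.1 h1).symm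
      rw [h3]
      calc g * (y : G) * g⁻¹ * (g * (y : G) * g⁻¹) = g * ((y : G) * (y : G)) * g⁻¹ := by group
        _ = 1 := by rw [hyy]; group
    · have h3 : ((x ^ (2 * T) : D) : G) = g * (y : G) * g⁻¹ * z := by rw [← h1]; group
      rw [h3]
      calc g * (y : G) * g⁻¹ * z * (g * (y : G) * g⁻¹ * z) = g * (y : G) * g⁻¹ * (z * (g * (y : G) * g⁻¹)) * z := by group
        _ = g * (y : G) * g⁻¹ * ((g * (y : G) * g⁻¹) * z) * z := by rw [← hzc]
        _ = g * ((y : G) * (y : G)) * g⁻¹ * (z * z) := by group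
        _ = 1 := by rw [hyy, hzz']; group
  apply z_ne_one hd
  apply Subtype.ext
  have : 4 * T = 2 * T + 2 * T := by ring
  rw [this, zpow_add]
  exact h2

end two

end H5.TCb
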