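import Cfsg.Agent.Lib.H5.TCb
import Cfsg.Agent.Lib.H5.TCc
import Cfsg.Agent.Lib.H25.FusC
import Cfsg.Agent.Lib.H37.QuadCore
import Cfsg.Agent.Lib.H19.MaxSub
import Cfsg.Agent.Lib.H1.Solv
import Cfsg.Agent.S4492

/-!
# Solvable groups with trivial odd core and dihedral or semidihedral Sylow 2-subgroups: two regular classes
-/

set_option autoImplicit false
set_option linter.unusedSectionVars false
set_option linter.unusedVariables false

namespace H5.TCd

open Cfsg H20.Loc H20.GA H20.Blk H20.NormQ H20.Orth H20.NPC H18.CharBasic H18.CharOrtho H78.BlkCount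
open scoped ComplexConjugate

universe u

section group
variable {K : Type u} [Group K] [Finite K]

theorem exists_elem (hs : Group.IsSolvable K) (hc : pPrimeCore 2 K = ⊥) [Nontrivial K] :
    ∃ E : Subgroup K, E.Normal ∧ E ≠ ⊥ ∧ ∀ x ∈ E, x ^ 2 = 1 := by
  obtain ⟨E, hE, hE1, hmin⟩ := H19.MaxSub.exists_minimal_normal (Q := K)
  obtain ⟨hcomm, p, hp, hpow⟩ := H1.Solv.minimal_normal_elementary hs E hE1 hmin
  refine ⟨E, hE, hE1, ?_⟩
  have hp2 : p = 2 := by
    by_contra hne
    apply hE1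
    rw [eq_bot_iff, ← hc]
    apply H1.Cores.le_pPrimeCore hE
    have : Fact p.Prime := ⟨hp⟩
    have h1 : IsPGroup p E := fun x => ⟨1, by rw [pow_one]; exact Subtype.ext (hpow x x.2)⟩
    obtain ⟨k, hk⟩ := IsPGroup.iff_card.1 h1
    rw [hk]
    exact Nat.Coprime.pow_left _ ((Nat.coprime_primes hp Nat.prime_two).2 hne)
  rw [← hp2]; exact hpow

open H25.QD

/-- in the semidihedral case a normal elementary abelian subgroup is central -/
theorem sd_central (hs : Group.IsSolvable K) (hc : pPrimeCore 2 K = ⊥) (S : Sylow 2 K)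
    (hS : IsQuasiDihedral (S : Subgroup K)) : ∃ z ∈ Subgroup.center K, orderOf z = 2 := by
  obtain ⟨m, x, y, hcard, hd⟩ := exists_data hS
  have hnt : Nontrivial K := by
    by_contra hno
    rw [not_nontrivial_iff_subsingleton] at hno
    have h1 : Nat.card (S : Subgroup K) = 1 := Nat.card_eq_one_iff_unique.2 ⟨inferInstance, inferInstance⟩
    rw [h1] at hcard
    have : 1 < 2 ^ (m + 4) := Nat.one_lt_two_pow (by omega)
    omega
  obtain ⟨E, hE, hE1, hEp⟩ := exists_elem hs hc
  have hES : E ≤ (S : Subgroup K) := by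
    refine (H1.Cores.le_pCore hE ?_).trans (H1.Cores.pCore_le_sylow S)
    exact fun x => ⟨1, by rw [pow_one]; exact Subtype.ext (hEp x x.2)⟩
  set T : ℤ := 2 ^ m with hT
  have hT0 : 0 < T := hd.pos
  have key : ∀ e : (S : Subgroup K), (e : K) ∈ E → e = 1 ∨ e = x ^ (4 * T) := by
    intro e he
    have h2 : e * e = 1 := by
      apply Subtype.ext
      have := hEp _ he
      rw [pow_two] at this
      exact this
    rcases cases hd e with ⟨i, hi⟩ | ⟨i, hi⟩
    · rw [hi] at h2 ⊢
      exact mem_one_z hd ((sq_x_iff hd i).1 h2)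
    · exfalso
      have h3 : ((x * e * x⁻¹ * e⁻¹ : (S : Subgroup K)) : K) ∈ E := by
        apply E.mul_mem (hE.conj_mem _ he _) (E.inv_mem he)
      have h4 : x * e * x⁻¹ * e⁻¹ = x ^ (2 - 4 * T) := by
        have hyx := hd.yx
        have h5 : y * x⁻¹ * y⁻¹ = x ^ (1 - 4 * T) := by
          have : y * x⁻¹ * y⁻¹ = (y * x * y⁻¹)⁻¹ := by group
          rw [this, hyx, ← zpow_neg]; congr 1; ring
        rw [hi]
        calc x * (x ^ i * y) * x⁻¹ * (x ^ i * y)⁻¹ = x ^ (1 + i) * (y * x⁻¹ * y⁻¹) * x ^ (-i) := by group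
          _ = x ^ (2 - 4 * T) := by
            rw [h5, ← zpow_add, ← zpow_add]; congr 1; ring
      rw [h4] at h3
      have h5 : x ^ (2 - 4 * T) * x ^ (2 - 4 * T) = 1 := by
        apply Subtype.ext
        have := hEp _ h3
        rw [pow_two] at this
        exact this
      rw [sq_x_iff hd] at h5
      have h6 : 4 * T ∣ 2 := by
        obtain ⟨c, hc⟩ := h5
        exact ⟨c + 1, by linear_combination hc⟩
      have := Int.le_of_dvd (by omega) h6
      omega
  obtain ⟨e0, he0⟩ := (Subgroup.ne_bot_iff_exists_ne_one).1 hE1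
  obtain ⟨e, he, he1⟩ : ∃ e : K, e ∈ E ∧ e ≠ 1 := ⟨e0, e0.2, fun h => he0 (Subtype.ext h)⟩
  have hez : (⟨e, hES he⟩ : (S : Subgroup K)) = x ^ (4 * T) := by
    rcases key ⟨e, hES he⟩ he with h1 | h1
    · exact absurd (congrArg Subtype.val h1) he1
    · exact h1
  refine ⟨e, ?_, ?_⟩
  · rw [Subgroup.mem_center_iff]
    intro g
    have h1 : g * e * g⁻¹ ∈ E := hE.conj_mem _ he g
    rcases key ⟨g * e * g⁻¹, hES h1⟩ h1 with h2 | h2
    · exfalso
      apply he1
      have h3 : g * e * g⁻¹ = 1 := congrArg Subtype.val h2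
      have : e = g⁻¹ * (g * e * g⁻¹) * g := by group
      rw [this, h3]; group
    · have h3 : g * e * g⁻¹ = e := by
        have := h2.trans hez.symm
        exact congrArg Subtype.val this
      exact mul_inv_eq_iff_eq_mul.1 h3
  · apply orderOf_eq_prime (hEp e he) he1

/-- in the dihedral case the involutions are not all conjugate -/
theorem dih_not (hs : Group.IsSolvable K) (hc : pPrimeCore 2 K = ⊥) (S : Sylow 2 K) {n : ℕ} (hn : 3 ≤ n)
    (φ : (S : Subgroup K) ≃* DihedralGroup (2 ^ (n - 1))) {w : K}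
    (hw : ∀ v ∈ (S : Subgroup K), orderOf v = 2 → IsConj v w) : False := by
  have h4 : 4 ≤ 2 ^ (n - 1) := by
    calc 4 = 2 ^ 2 := by norm_num
      _ ≤ 2 ^ (n - 1) := Nat.pow_le_pow_right (by norm_num) (by omega)
  have hnt : Nontrivial K := by
    by_contra hno
    rw [not_nontrivial_iff_subsingleton] at hno
    have h1 : Nat.card (S : Subgroup K) = 1 := Nat.card_eq_one_iff_unique.2 ⟨inferInstance, inferInstance⟩
    rw [Nat.card_congr φ.toEquiv, DihedralGroup.nat_card] at h1
    omega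
  obtain ⟨E, hE, hE1, hEp⟩ := exists_elem hs hc
  have hES : E ≤ (S : Subgroup K) := by
    refine (H1.Cores.le_pCore hE ?_).trans (H1.Cores.pCore_le_sylow S)
    exact fun x => ⟨1, by rw [pow_one]; exact Subtype.ext (hEp x x.2)⟩
  obtain ⟨e0, he0⟩ := (Subgroup.ne_bot_iff_exists_ne_one).1 hE1
  obtain ⟨e, he, he1⟩ : ∃ e : K, e ∈ E ∧ e ≠ 1 := ⟨e0, e0.2, fun h => he0 (Subtype.ext h)⟩
  have heo : orderOf e = 2 := orderOf_eq_prime (hEp e he) he1
  have hall : ∀ v ∈ (S : Subgroup K), orderOf v = 2 → v ∈ E := by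
    intro v hv hvo
    have h1 := (hw e (hES he) heo).trans (hw v hv hvo).symm
    obtain ⟨c, hc⟩ := isConj_iff.1 h1
    rw [← hc]
    exact hE.conj_mem _ he c
  have key : ∀ i : ZMod (2 ^ (n - 1)), (((φ.symm (DihedralGroup.sr i)) : (S : Subgroup K)) : K) ∈ E := by
    intro i
    apply hall _ (SetLike.coe_mem _)
    rw [Subgroup.orderOf_coe, MulEquiv.orderOf_eq]
    exact DihedralGroup.orderOf_sr i
  have h5 := E.mul_mem (key 0) (key 1)
  have h6 : φ.symm (DihedralGroup.sr 0) * φ.symm (DihedralGroup.sr 1) = φ.symm (DihedralGroup.r 1) := by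
    rw [← map_mul, DihedralGroup.sr_mul_sr, sub_zero]
  have h7 : ((φ.symm (DihedralGroup.r 1) : (S : Subgroup K)) : K) ^ 2 = 1 := by
    rw [← h6]
    exact hEp _ h5
  have h8 : (DihedralGroup.r 1 : DihedralGroup (2 ^ (n - 1))) ^ 2 = 1 := by
    apply φ.symm.injective
    rw [map_pow, map_one]
    exact Subtype.ext h7
  have h9 := orderOf_dvd_of_pow_eq_one h8
  rw [DihedralGroup.orderOf_r_one] at h9
  have := Nat.le_of_dvd (by norm_num) h9
  omega

end group

section block
variable {K : Type u} [Group K] [Finite K] {M : Ideal AlgInt}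

theorem univ_block (hM : IsPModular 2 M) (hs : Group.IsSolvable K) (hc : pPrimeCore 2 K = ⊥) (S : Sylow 2 K) :
    IsPBlock M (Set.univ : Set (IrrCharacter K)) ∧ IsDefectGroup 2 M (Set.univ : Set (IrrCharacter K)) S := by
  classical
  letI := Fintype.ofFinite K
  letI := Fintype.ofFinite (pPrimeCore 2 K)
  have : Fact (Nat.Prime 2) := ⟨Nat.prime_two⟩
  have hps : IsPSolvable 2 K := H37.QuadCore.isPSolvable_of_isSolvable 2 _ K hs rfl
  have hsub : ∀ n : pPrimeCore 2 K, n = 1 := by
    intro n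
    have h1 : (n : K) ∈ (⊥ : Subgroup K) := by rw [← hc]; exact n.2
    exact Subtype.ext (Subgroup.mem_bot.1 h1)
  obtain ⟨B, hB, hmem, hdef, -⟩ := Cfsg.Agent.S4492.result 2 M hM hps (pPrimeCore 2 K) rfl (one (pPrimeCore 2 K))
    (fun g n => rfl)
  have h1 : B = Set.univ := by
    rw [Set.eq_univ_iff_forall]
    intro χ
    rw [hmem]
    unfold classInner
    rw [Finset.sum_eq_single 1 (fun n _ hn => absurd (hsub n) hn) (fun h => absurd (Finset.mem_univ _) h)]
    apply mul_ne_zero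
    · apply inv_ne_zero
      exact_mod_cast (Nat.card_pos (α := pPrimeCore 2 K)).ne'
    · apply mul_ne_zero
      · exact irr_one_ne_zero χ.2
      · have : (one (pPrimeCore 2 K) : pPrimeCore 2 K → ℂ) 1 = 1 := rfl
        rw [this, map_one]
        exact one_ne_zero
  rw [h1] at hB hdef
  exact ⟨hB, hdef S⟩

theorem univ_rank [M.IsMaximal] [CharP (ResF M) 2] [Algebra (ZMod 2) (ResF M)] [Algebra.IsAlgebraic (ZMod 2) (ResF M)]
    [IsAlgClosed (ResF M)] (hM : IsPModular 2 M) (hs : Group.IsSolvable K) (hc : pPrimeCore 2 K = ⊥) (S : Sylow 2 K)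
    (hD : (∃ n : ℕ, 3 ≤ n ∧ Nonempty ((S : Subgroup K) ≃* DihedralGroup (2 ^ (n - 1)))) ∨
      IsQuasiDihedral (S : Subgroup K)) : blockRank 2 (Set.univ : Set (IrrCharacter K)) ≤ 2 := by
  obtain ⟨hB, hdef⟩ := univ_block hM hs hc S
  rcases hD with ⟨n, hn, ⟨φ⟩⟩ | hsd
  · by_contra hlt
    obtain ⟨w, hw⟩ := H5.TCa.all_conj hM hB hdef hn φ (by omega)
    exact dih_not hs hc S hn φ hw
  · obtain ⟨z, hz, ho⟩ := sd_central hs hc S hsd
    exact H5.TCb.sd_le_two hM hB hdef hsd hz ho

end block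

section reps
variable {K : Type u} [Group K] [Fintype K] {p : ℕ}

/-- few irreducible Brauer characters, few regular classes -/
theorem exists_rep (hl : blockRank p (Set.univ : Set (IrrCharacter K)) ≤ 2) :
    ∃ y : K, ∀ q : K, ¬ p ∣ orderOf q → q = 1 ∨ IsConj q y := by
  classical
  letI := Fintype.ofFinite (IrrCharacter K)
  by_contra hno
  push Not at hno
  obtain ⟨q1, r1, n1, -⟩ := hno 1
  obtain ⟨q2, r2, n2, c2⟩ := hno q1
  let ind : K → K → ℂ := fun q g => if IsConj g q then 1 else 0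
  have hcl : ∀ q, IsClassFunction K (ind q) := by
    intro q g h
    have h1 : IsConj (h * g * h⁻¹) q ↔ IsConj g q := by
      have h2 : IsConj g (h * g * h⁻¹) := isConj_iff.2 ⟨h, rfl⟩
      exact ⟨fun h3 => h2.trans h3, fun h3 => h2.symm.trans h3⟩
    change (if IsConj (h * g * h⁻¹) q then (1 : ℂ) else 0) = if IsConj g q then 1 else 0
    simp only [h1]
  have hmem : ∀ q : K, ¬ p ∣ orderOf q → ind q ∈ rspn p (Set.univ : Set (IrrCharacter K)) := by
    intro q hq
    rw [rspn_eq_map]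
    refine ⟨ind q, ?_, ?_⟩
    · rw [mem_classFun_expand (hcl q)]
      exact Submodule.sum_mem _ fun χ _ => Submodule.smul_mem _ _ (Submodule.subset_span ⟨χ, trivial, rfl⟩)
    · rw [regL_apply]
      funext g
      by_cases hg : p ∣ orderOf g
      · rw [reg_not hg]
        have h1 : ¬ IsConj g q := by
          intro h1
          obtain ⟨c, hc⟩ := isConj_iff.1 h1
          apply hq
          rw [← hc, orderOf_conj]
          exact hg
        exact (if_neg h1).symm
      · rw [reg_of hg]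
  have h1r : ¬ p ∣ orderOf (1 : K) := by
    intro h
    rw [orderOf_one] at h
    have hp : p = 1 := Nat.dvd_one.1 h
    rw [hp] at r1
    exact r1 (one_dvd _)
  let F : Fin 3 → rspn p (Set.univ : Set (IrrCharacter K)) :=
    ![⟨ind 1, hmem 1 h1r⟩, ⟨ind q1, hmem q1 r1⟩, ⟨ind q2, hmem q2 r2⟩]
  have hval : ∀ a b : K, ind a b = if IsConj b a then 1 else 0 := fun a b => rfl
  have hc1 : ∀ a : K, IsConj a 1 ↔ a = 1 := fun a => isConj_one_left
  have hlin : LinearIndependent ℂ F := by
    rw [Fintype.linearIndependent_iff]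
    intro g hg
    have h0 := congrArg (fun t : rspn p (Set.univ : Set (IrrCharacter K)) => (t : K → ℂ)) hg
    have hsum : ∀ a : K, g 0 * ind 1 a + g 1 * ind q1 a + g 2 * ind q2 a = 0 := by
      intro a
      have h2 := congrFun h0 a
      rw [Fin.sum_univ_three] at h2
      exact h2
    have e1 := hsum 1
    have e2 := hsum q1
    have e3 := hsum q2
    rw [hval, hval, hval, if_pos (IsConj.refl _), if_neg, if_neg] at e1
    rw [hval, hval, hval, if_neg, if_pos (IsConj.refl _), if_neg] at e2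
    rw [hval, hval, hval, if_neg, if_neg, if_pos (IsConj.refl _)] at e3
    · intro i
      fin_cases i
      · simpa using e1
      · simpa using e2
      · simpa using e3
    · exact c2
    · exact fun h => n2 (isConj_one_left.1 h)
    · exact fun h => c2 h.symm
    · exact fun h => n1 (isConj_one_left.1 h)
    · exact fun h => n2 (isConj_one_right.1 h)
    · exact fun h => n1 (isConj_one_right.1 h)
  have h3 := hlin.fintype_card_le_finrank
  rw [Fintype.card_fin, finrank_rspn] at h3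
  omega

end reps

section bound
variable {G : Type u} [Group G] [Fintype G] {p : ℕ} (N : Subgroup G) [hN : N.Normal] [Fintype N]

/-- the rank of a block over an invariant character is at most the number of regular classes of the quotient -/
theorem rank_le (θ : IrrCharacter N)
    (hinv : ∀ (g : G) (n : N), (θ : N → ℂ) ⟨g * n * g⁻¹, hN.conj_mem n n.2 g⟩ = (θ : N → ℂ) n)
    {B : Set (IrrCharacter G)} (hB : ∀ χ ∈ B, classInner (fun n : N => (χ : G → ℂ) n) (θ : N → ℂ) ≠ 0)
    {y : G ⧸ N} (hy : ∀ q : G ⧸ N, ¬ p ∣ orderOf q → q = 1 ∨ IsConj q y) : blockRank p B ≤ 2 := by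
  classical
  obtain ⟨y, rfl⟩ := QuotientGroup.mk_surjective y
  obtain ⟨F1, hF1⟩ := H5.TCc.coset_prop N θ hinv 1
  obtain ⟨F2, hF2⟩ := H5.TCc.coset_prop N θ hinv y
  let tr : G → (G → ℂ) →ₗ[ℂ] (N → ℂ) := fun x =>
    { toFun := fun f n => f (x * n), map_add' := fun f g => rfl, map_smul' := fun c f => rfl }
  let L : (G → ℂ) →ₗ[ℂ] (N → ℂ) × (N → ℂ) := (tr 1).prod (tr y)
  let E : G → (N → ℂ) → N → ℂ := fun x F n => if p ∣ orderOf (x * (n : G)) then 0 else F n
  have hker : Function.Injective (L.domRestrict (rspn p B)) := by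
    rw [← LinearMap.ker_eq_bot, LinearMap.ker_eq_bot']
    rintro ⟨f, hf⟩ h0
    have hL : L f = 0 := h0
    have h1 : ∀ n : N, f (1 * n) = 0 := fun n => congrFun (congrArg Prod.fst hL) n
    have h2 : ∀ n : N, f (y * n) = 0 := fun n => congrFun (congrArg Prod.snd hL) n
    have hfc := class_of_mem_rspn hf
    have hfr := reg_of_mem_rspn hf
    apply Subtype.ext
    funext g
    change f g = 0
    by_cases hg : p ∣ orderOf g
    · rw [← hfr, reg_not hg]
    · rcases hy (g : G ⧸ N) (H20.PC.regular_mk N hg) with h3 | h3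
      · have h4 := h1 ⟨g, (QuotientGroup.eq_one_iff g).1 h3⟩
        rwa [one_mul] at h4
      · obtain ⟨c, hc⟩ := isConj_iff.1 h3
        obtain ⟨c, rfl⟩ := QuotientGroup.mk_surjective c
        have h4 : ((y : G) : G ⧸ N) = ((c * g * c⁻¹ : G) : G ⧸ N) := hc.symm
        rw [QuotientGroup.eq] at h4
        have h5 := h2 ⟨_, h4⟩
        have h6 : y * (y⁻¹ * (c * g * c⁻¹)) = c * g * c⁻¹ := by group
        change f (y * (y⁻¹ * (c * g * c⁻¹))) = 0 at h5
        rw [h6] at h5
        rw [← hfc g c]; exact h5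
  have hrange : (rspn p B).map L ≤ Submodule.span ℂ ({((E 1 F1, 0) : (N → ℂ) × (N → ℂ)), (0, E y F2)} : Set ((N → ℂ) × (N → ℂ))) := by
    rw [rspn, Submodule.map_span, Submodule.span_le]
    rintro _ ⟨_, ⟨χ, hχ, rfl⟩, rfl⟩
    obtain ⟨c1, hc1⟩ := hF1 χ (hB χ hχ)
    obtain ⟨c2, hc2⟩ := hF2 χ (hB χ hχ)
    have key : ∀ (x : G) (F : N → ℂ) (c : ℂ), (∀ n : N, (χ : G → ℂ) (x * n) = c * F n) →
        tr x (pRegularPart p (χ : G → ℂ)) = c • E x F := by
      intro x F c h
      funext n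
      change pRegularPart p (χ : G → ℂ) (x * n) = c * (if p ∣ orderOf (x * (n : G)) then 0 else F n)
      rw [← reg_eq_pRegularPart]
      split_ifs with h1
      · rw [reg_not h1, mul_zero]
      · rw [reg_of h1, h]
    have h1 : L (pRegularPart p (χ : G → ℂ)) = c1 • ((E 1 F1, 0) : (N → ℂ) × (N → ℂ)) + c2 • (0, E y F2) := by
      apply Prod.ext
      · change tr 1 (pRegularPart p (χ : G → ℂ)) = c1 • E 1 F1 + c2 • 0
        rw [key 1 F1 c1 hc1, smul_zero, add_zero]
      · change tr y (pRegularPart p (χ : G → ℂ)) = c1 • 0 + c2 • E y F2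
        rw [key y F2 c2 hc2, smul_zero, zero_add]
    change L (pRegularPart p (χ : G → ℂ)) ∈ _
    rw [h1]
    exact Submodule.add_mem _ (Submodule.smul_mem _ _ (Submodule.subset_span (Or.inl rfl)))
      (Submodule.smul_mem _ _ (Submodule.subset_span (Or.inr rfl)))
  have e3 : LinearMap.range (L.domRestrict (rspn p B)) = (rspn p B).map L := by
    ext g
    constructor
    · rintro ⟨f, rfl⟩; exact ⟨f.1, f.2, rfl⟩
    · rintro ⟨f, hf, rfl⟩; exact ⟨⟨f, hf⟩, rfl⟩
  have e4 := LinearMap.finrank_range_of_inj hker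
  rw [← finrank_rspn, ← e4, e3]
  have hW : Submodule.span ℂ ({((E 1 F1, 0) : (N → ℂ) × (N → ℂ)), (0, E y F2)} : Set ((N → ℂ) × (N → ℂ))) =
      Submodule.span ℂ ((({((E 1 F1, 0) : (N → ℂ) × (N → ℂ)), (0, E y F2)} : Finset ((N → ℂ) × (N → ℂ)))) : Set ((N → ℂ) × (N → ℂ))) := by
    rw [Finset.coe_insert, Finset.coe_singleton]
  have hfin : Module.Finite ℂ (Submodule.span ℂ ({((E 1 F1, 0) : (N → ℂ) × (N → ℂ)), (0, E y F2)} : Set ((N → ℂ) × (N → ℂ)))) := by
    rw [hW]
    exact Module.Finite.span_finset ℂ _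
  refine (Submodule.finrank_mono hrange).trans ?_
  rw [hW]
  exact (finrank_span_finset_le_card _).trans Finset.card_le_two

end bound

end H5.TCd
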