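import Cfsg.Agent.Lib.H5.TCd
import Cfsg.Agent.Lib.H79.KLTwo

/-!
# Blocks of solvable groups with dihedral or semidihedral defect groups have rank at most two
-/

set_option autoImplicit false
set_option linter.unusedSectionVars false
set_option linter.unusedVariables false

namespace H5.TCe

open Cfsg H20.Loc H20.GA H20.Blk H20.Orth H20.Defect H20.DefGrp H20.Height H78.BlkCount
open H77.CovFR H77.CovFR2 H18.CharQuot H31.Clifford H77.Cov1
open scoped ComplexConjugate

universe u

/-- dihedral of order at least eight or semidihedral -/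
def Typ (D : Type*) [Group D] : Prop :=
  (∃ n : ℕ, 3 ≤ n ∧ Nonempty (D ≃* DihedralGroup (2 ^ (n - 1)))) ∨ IsQuasiDihedral D

theorem typ_congr {A B : Type*} [Group A] [Group B] (e : A ≃* B) (h : Typ A) : Typ B := by
  rcases h with ⟨n, hn, ⟨φ⟩⟩ | h
  · exact Or.inl ⟨n, hn, ⟨e.symm.trans φ⟩⟩
  · exact Or.inr (H25.FusC.isQuasiDihedral_congr e h)

section
variable {M : Ideal AlgInt} [M.IsMaximal] [CharP (ResF M) 2] [Algebra (ZMod 2) (ResF M)]
  [Algebra.IsAlgebraic (ZMod 2) (ResF M)] [IsAlgClosed (ResF M)]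

theorem solv_main (hM : IsPModular 2 M) : ∀ (n : ℕ) (G : Type u) [Group G] [Finite G],
    Nat.card G = n → Group.IsSolvable G → ∀ B : Set (IrrCharacter G), IsPBlock M B →
    ∀ D : Subgroup G, IsDefectGroup 2 M B D → Typ D → blockRank 2 B ≤ 2 := by
  intro n
  induction n using Nat.strong_induction_on with
  | _ n ih =>
  intro G _ _ hn hG B hB D hD hT0
  classical
  haveI : Fact (Nat.Prime 2) := ⟨Nat.prime_two⟩
  haveI := pm_isPrime hM
  letI := Fintype.ofFinite G
  set N := pPrimeCore 2 G with hN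
  letI := Fintype.ofFinite N
  have hNp : ¬ 2 ∣ Nat.card N := fun h =>
    (pm_prime hM).one_lt.ne' (Nat.eq_one_of_dvd_coprimes (H1.Cores.coprime_card_pPrimeCore (G := G) 2)
      h dvd_rfl)
  obtain ⟨χ, hχ⟩ := isPBlock_nonempty hB
  obtain ⟨θ0, hθ0, hθ⟩ := exists_constituent_restrict N χ.2
  let θ : IrrCharacter N := ⟨θ0, hθ0⟩
  have hχθ : classInner (fun n : N => (χ : G → ℂ) n) (θ : N → ℂ) ≠ 0 := hθ
  let b : Set (IrrCharacter N) := {θ}
  have hb : IsPBlock M b := by
    have h1 := H20.NPC.blockOf_eq_singleton_of_card hM hNp θ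
    show IsPBlock M {θ}
    rw [← h1]
    exact isPBlock_blockOf θ
  let T : Subgroup G :=
    { carrier := {g | cI N g θ = θ}
      one_mem' := cI_one N θ
      mul_mem' := by
        intro a c ha hc
        show cI N (a * c) θ = θ
        rw [← cI_mul, show cI N a θ = θ from ha]
        exact hc
      inv_mem' := by
        intro a ha
        show cI N a⁻¹ θ = θ
        conv_lhs => rw [← (show cI N a θ = θ from ha)]
        rw [cI_mul, mul_inv_cancel, cI_one] }
  have hTm : ∀ g : G, g ∈ T ↔ cI N g θ = θ := fun g => Iff.rfl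
  have hT : ∀ g : G, g ∈ T ↔ ∀ θ ∈ b, ∀ θ' : IrrCharacter N,
      (∀ n : N, (θ' : N → ℂ) n = (θ : N → ℂ) ⟨g * n * g⁻¹, (inferInstance : N.Normal).conj_mem n n.2 g⟩) →
        θ' ∈ b := by
    intro g
    rw [hTm]
    constructor
    · rintro h θ1 hθ1 θ' hθ'
      rw [Set.mem_singleton_iff.1 hθ1] at hθ'
      have h1 : θ' = cI N g θ := Subtype.ext (by funext n; exact hθ' n)
      rw [h1, h]
      rfl
    · intro h
      exact h θ rfl (cI N g θ) (fun n => rfl)
  have hNT : N ≤ T := by
    intro x hx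
    rw [hTm]
    apply Subtype.ext
    funext n
    exact (H18.CharBasic.isClassFunction_of_isIrr θ.2) n ⟨x, hx⟩
  have hps : IsPSolvable 2 G := H37.QuadCore.isPSolvable_of_isSolvable 2 _ G hG rfl
  by_cases hTtop : T = ⊤
  · have hinv : ∀ (g : G) (n : N), (θ : N → ℂ) ⟨g * n * g⁻¹, (inferInstance : N.Normal).conj_mem n n.2 g⟩ =
        (θ : N → ℂ) n := by
      intro g n
      have h1 : g ∈ T := by rw [hTtop]; trivial
      exact congrFun (congrArg Subtype.val ((hTm g).1 h1)) n
    obtain ⟨B0, hB0, hmem, -, hsyl⟩ := Cfsg.Agent.S4492.result 2 M hM hps N hN θ hinv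
    have h1 : B = B0 := isPBlock_eq_of_mem hB hB0 hχ ((hmem χ).2 hχθ)
    rw [← h1] at hsyl hmem
    obtain ⟨P, rfl⟩ := hsyl D hD
    have hπs : Function.Surjective (QuotientGroup.mk' N) := QuotientGroup.mk'_surjective N
    set S : Sylow 2 (G ⧸ N) := P.mapSurjective hπs with hS
    have hSe : (S : Subgroup (G ⧸ N)) = (P : Subgroup G).map (QuotientGroup.mk' N) := Sylow.coe_mapSurjective _ _
    have hinj : Function.Injective ((QuotientGroup.mk' N).subgroupMap (P : Subgroup G)) := by
      rw [← MonoidHom.ker_eq_bot_iff, eq_bot_iff]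
      intro x hx
      have h2 : (x : G) ∈ N := by
        rw [← QuotientGroup.eq_one_iff]
        exact congrArg Subtype.val hx
      rw [Subgroup.mem_bot]
      have h3 : orderOf (x : G) ∣ Nat.card N := Subgroup.orderOf_dvd_natCard N h2
      obtain ⟨k, hk⟩ := IsPGroup.iff_orderOf.1 P.2 x
      rw [Subgroup.orderOf_coe, hk] at h3
      have hk0 : k = 0 := by
        by_contra hne
        exact hNp ((dvd_pow_self 2 hne).trans h3)
      rw [hk0, pow_zero] at hk
      exact orderOf_eq_one_iff.1 hk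
    have e1 : (P : Subgroup G) ≃* (P : Subgroup G).map (QuotientGroup.mk' N) :=
      MulEquiv.ofBijective ((QuotientGroup.mk' N).subgroupMap (P : Subgroup G))
        ⟨hinj, MonoidHom.subgroupMap_surjective _ _⟩
    have hTS : Typ (S : Subgroup (G ⧸ N)) := typ_congr (e1.trans (MulEquiv.subgroupCongr hSe.symm)) hT0
    have hcS : pPrimeCore 2 (G ⧸ N) = ⊥ := H1.Cores.pPrimeCore_quotient_pPrimeCore 2
    have hGs : Group.IsSolvable (G ⧸ N) := inferInstance
    have h2 := H5.TCd.univ_rank hM hGs hcS S hTS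
    letI := Fintype.ofFinite (G ⧸ N)
    obtain ⟨y, hy⟩ := H5.TCd.exists_rep h2
    exact H5.TCd.rank_le N θ hinv (fun ψ hψ => (hmem ψ).1 hψ) hy
  · letI := Fintype.ofFinite T
    have hst : Stab N b T := stab_of N hb hT
    obtain ⟨h1, -, h3⟩ := Cfsg.Agent.S4435.result 2 M hM N b hb T hT hNT
    obtain ⟨B', hB', hcov, hind⟩ := h3 B hB ⟨χ, hχ, θ, rfl, hχθ⟩
    obtain ⟨B1, hB1, -, -, hmem⟩ := h1 B' hB' hcov
    have e1 := H20.Ind.isInducedBlock_unique hB1 hind
    rw [e1] at hmem
    obtain ⟨ψ0, hψ0, θ1, hθ1, hne⟩ := hcov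
    obtain ⟨hc1, hc2⟩ := H79.KLTwo.fr_counts N hNT b hM hst hb hB' hψ0 hθ1 hne hmem
    rw [hc2]
    obtain ⟨D', hD'⟩ := exists_isDefectGroup hM hB'
    have hlt : Nat.card T < n := by
      rw [← hn]
      have h4 := Subgroup.card_mul_index T
      have h5 : T.index ≠ 1 := fun h => hTtop (Subgroup.index_eq_one.1 h)
      have h6 : T.index ≠ 0 := Subgroup.index_ne_zero_of_finite
      have h7 : 0 < Nat.card T := Nat.card_pos
      rw [← h4]
      exact lt_mul_of_one_lt_right h7 (by omega)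
    have h9 := (Cfsg.Agent.S4436.result 2 M hM N b hb T hT hNT B' hB' ⟨ψ0, hψ0, θ1, hθ1, hne⟩ B hind).1
      D' hD'
    obtain ⟨x, hx⟩ := isDefectGroup_conj hM hB h9 hD
    have e2 : D' ≃* D := by
      rw [hx]
      exact (Subgroup.equivMapOfInjective D' T.subtype T.subtype_injective).trans
        (Subgroup.equivMapOfInjective _ (MulAut.conj x).toMonoidHom (MulAut.conj x).injective)
    have hTs : Group.IsSolvable T := inferInstance
    exact ih _ hlt T rfl hTs B' hB' D' hD' (typ_congr e2.symm hT0)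

end

end H5.TCe
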