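import Cfsg.Agent.Lib.H5.TCa
import Cfsg.Agent.Lib.H5.TDe

/-!
# Integral vectors and class functions
-/

set_option autoImplicit false
set_option linter.unusedSectionVars false
set_option linter.unusedVariables false

namespace H5.TDf

open Cfsg H20.Loc H20.GA H80.GA H80.GB H80.GD H80.GE H80.GF H80.GJ H80.FS H80.FS3 H84.RG H18.CharBasic H18.CharOrtho H18.CharInd H84.TrR
open H20.Blk H20.Orth H20.Ind H20.Height H20.Defect H80.BR1 H80.BR2 H19.Second H19.Second3 H81.Section H81.Contrib H84.Star
open H5.DBa H5.DBd H5.TBa H5.TBb H5.TBe H5.TBf H5.TBg H5.TBh H5.TBi H5.TBj H78.BlkCount H5.TCa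
open H5.TBc H5.TBd H5.TDa H5.TDb H5.TDe
open scoped ComplexConjugate

universe u

attribute [local instance 2000] Fintype.ofFinite

variable {G : Type u} [Group G] [Finite G] {p : ℕ} {M : Ideal AlgInt}

theorem gen_of_int {f : G → ℂ} (hf : IsClassFunction G f) (h : ∀ χ : IrrCharacter G, ∃ n : ℤ, classInner f (χ : G → ℂ) = n) :
    IsGeneralizedCharacter G f := by
  rw [isGen_iff]
  exact ⟨hf, fun ψ hψ => h ⟨ψ, hψ⟩⟩

theorem coef_int {f : G → ℂ} (hf : IsGeneralizedCharacter G f) (χ : IrrCharacter G) :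
    ∃ n : ℤ, classInner f (χ : G → ℂ) = n := inner_gen_intCast hf (isGen_of_isIrr χ.2)

theorem eq_of_coef {f g : G → ℂ} (hf : IsClassFunction G f) (hg : IsClassFunction G g)
    (h : ∀ χ : IrrCharacter G, classInner f (χ : G → ℂ) = classInner g (χ : G → ℂ)) : f = g := by
  rw [mem_classFun_expand hf, mem_classFun_expand hg]
  exact Finset.sum_congr rfl fun χ _ => by rw [h χ]

theorem mem_spn_of {B : Set (IrrCharacter G)} {f : G → ℂ} (hf : IsClassFunction G f)
    (h : ∀ χ : IrrCharacter G, χ ∉ B → classInner f (χ : G → ℂ) = 0) : f ∈ spn B := by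
  rw [mem_classFun_expand hf]
  refine Submodule.sum_mem _ fun χ _ => ?_
  by_cases hχ : χ ∈ B
  · exact Submodule.smul_mem _ _ (Submodule.subset_span ⟨χ, hχ, rfl⟩)
  · rw [h χ hχ, zero_smul]; exact Submodule.zero_mem _

theorem coef_zero {B : Set (IrrCharacter G)} {f : G → ℂ} (hf : f ∈ spn B) {χ : IrrCharacter G} (hχ : χ ∉ B) :
    classInner f (χ : G → ℂ) = 0 := by
  have h : spn B ≤ LinearMap.ker
      ({ toFun := fun f => classInner f (χ : G → ℂ)
         map_add' := fun f g => H18.CharOrtho.inner_add_left f g _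
         map_smul' := fun c f => by rw [H18.CharOrtho.inner_smul_left]; rfl } : (G → ℂ) →ₗ[ℂ] ℂ) := by
    unfold spn
    rw [Submodule.span_le]
    rintro _ ⟨ξ, hξ, rfl⟩
    rw [SetLike.mem_coe, LinearMap.mem_ker]
    change classInner (ξ : G → ℂ) (χ : G → ℂ) = 0
    exact inner_irr_ne ξ.2 χ.2 (fun h => hχ (by rw [← Subtype.ext h]; exact hξ))
  exact h hf

theorem reg_mem_spn (hM : IsPModular p M) {B : Set (IrrCharacter G)} (hB : IsPBlock M B) {f : G → ℂ}
    (hf : f ∈ spn B) : reg p f ∈ spn B := by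
  haveI := pm_isPrime hM
  have h1 := proj_reg hM (isUnion_of_isPBlock hB) (class_of_mem_spn hf) (p := p)
  rw [proj_of_mem_spn hf] at h1
  rw [← h1]
  exact proj_mem_spn B _

/-- the class function with given integral coefficients -/
noncomputable def vec (c : IrrCharacter G → ℤ) : G → ℂ := ∑ χ : IrrCharacter G, (c χ : ℂ) • (χ : G → ℂ)

theorem vec_class (c : IrrCharacter G → ℤ) : IsClassFunction G (vec c) := by
  intro g h
  unfold vec
  rw [Finset.sum_apply, Finset.sum_apply]
  refine Finset.sum_congr rfl fun χ _ => ?_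
  rw [Pi.smul_apply, Pi.smul_apply, isClassFunction_of_isIrr χ.2 g h]

theorem vec_coef (c : IrrCharacter G → ℤ) (χ : IrrCharacter G) : classInner (vec c) (χ : G → ℂ) = c χ := by
  classical
  unfold vec
  rw [inner_sum_left, Finset.sum_eq_single χ]
  · rw [H18.CharOrtho.inner_smul_left, inner_irr_self χ.2, mul_one]
  · intro ξ _ hne
    rw [H18.CharOrtho.inner_smul_left, inner_irr_ne ξ.2 χ.2 (fun h => hne (Subtype.ext h)), mul_zero]
  · intro h; exact absurd (Finset.mem_univ _) h

theorem vec_gen (c : IrrCharacter G → ℤ) : IsGeneralizedCharacter G (vec c) :=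
  gen_of_int (vec_class c) fun χ => ⟨c χ, vec_coef c χ⟩

theorem vec_spn {B : Set (IrrCharacter G)} {c : IrrCharacter G → ℤ} (h : ∀ χ, χ ∉ B → c χ = 0) : vec c ∈ spn B :=
  mem_spn_of (vec_class c) fun χ hχ => by rw [vec_coef, h χ hχ, Int.cast_zero]

theorem eq_vec {f : G → ℂ} (hf : IsClassFunction G f) {c : IrrCharacter G → ℤ}
    (h : ∀ χ : IrrCharacter G, classInner f (χ : G → ℂ) = c χ) : f = vec c :=
  eq_of_coef hf (vec_class c) fun χ => by rw [h, vec_coef]

theorem inner_int_sum {f g : G → ℂ} (hf : IsClassFunction G f) {a c : IrrCharacter G → ℤ}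
    (ha : ∀ χ : IrrCharacter G, classInner f (χ : G → ℂ) = a χ)
    (hc : ∀ χ : IrrCharacter G, classInner g (χ : G → ℂ) = c χ) :
    classInner f g = ((∑ χ, a χ * c χ : ℤ) : ℂ) := by
  rw [parseval hf]
  push_cast
  apply Finset.sum_congr rfl
  intro χ _
  rw [ha, hc, map_intCast]

theorem inner_vec (a c : IrrCharacter G → ℤ) : classInner (vec a) (vec c) = ((∑ χ, a χ * c χ : ℤ) : ℂ) :=
  inner_int_sum (vec_class a) (vec_coef a) (vec_coef c)

theorem vec_add (a c : IrrCharacter G → ℤ) : vec a + vec c = vec (fun χ => a χ + c χ) :=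
  eq_vec (isClassFunction_add (vec_class a) (vec_class c)) fun χ => by
    rw [H18.CharOrtho.inner_add_left, vec_coef, vec_coef]; push_cast; rfl

theorem vec_smul (k : ℤ) (c : IrrCharacter G → ℤ) : (k : ℂ) • vec c = vec (fun χ => k * c χ) :=
  eq_vec (isClassFunction_smul _ (vec_class c)) fun χ => by
    rw [H18.CharOrtho.inner_smul_left, vec_coef]; push_cast; rfl

/-- functions on the regular elements are perpendicular to functions vanishing there -/
theorem inner_reg_zero {f g : G → ℂ} (hf : reg p f = f) (hg : reg p g = 0) : classInner f g = 0 := by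
  rw [← hf, inner_reg_comm, hg, H18.CharOrtho.inner_zero_right]

theorem inner_self_zero {f : G → ℂ} (h : classInner f f = 0) : f = 0 := by
  unfold classInner at h
  have hG : (Nat.card G : ℂ) ≠ 0 := by exact_mod_cast (Nat.card_pos (α := G)).ne'
  have h1 := (mul_eq_zero.1 h).resolve_left (inv_ne_zero hG)
  have h2 : ∑ g : G, Complex.normSq (f g) = 0 := by
    have h3 : ((∑ g : G, Complex.normSq (f g) : ℝ) : ℂ) = 0 := by
      rw [← h1]
      push_cast
      exact Finset.sum_congr rfl fun g _ => (Complex.mul_conj (f g)).symm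
    exact_mod_cast h3
  funext g
  have h3 := (Finset.sum_eq_zero_iff_of_nonneg (fun g _ => Complex.normSq_nonneg (f g))).1 h2 g (Finset.mem_univ g)
  exact Complex.normSq_eq_zero.1 h3

/-- orthogonal families are independent -/
theorem indep_of_orth {ι : Type*} [Fintype ι] {v : ι → G → ℂ} (h0 : ∀ i, v i ≠ 0)
    (h : ∀ i j, i ≠ j → classInner (v i) (v j) = 0) : LinearIndependent ℂ v := by
  classical
  rw [Fintype.linearIndependent_iff]
  intro g hg i
  have h1 : classInner (∑ j, g j • v j) (v i) = 0 := by rw [hg, H18.CharOrtho.inner_zero_left]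
  rw [inner_sum_left, Finset.sum_eq_single i] at h1
  · rw [H18.CharOrtho.inner_smul_left] at h1
    rcases mul_eq_zero.1 h1 with h2 | h2
    · exact h2
    · exact absurd (inner_self_zero h2) (h0 i)
  · intro j _ hne
    rw [H18.CharOrtho.inner_smul_left, h j i hne, mul_zero]
  · intro hc; exact absurd (Finset.mem_univ _) hc

/-- expansion along an orthogonal basis of a subspace -/
theorem expand {ι : Type*} [Fintype ι] {W : Submodule ℂ (G → ℂ)} {v : ι → G → ℂ} (hv : ∀ i, v i ∈ W)
    (h0 : ∀ i, v i ≠ 0) (h : ∀ i j, i ≠ j → classInner (v i) (v j) = 0)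
    (hc : Module.finrank ℂ W ≤ Fintype.card ι) {f : G → ℂ} (hf : f ∈ W) (g : G → ℂ) :
    classInner f g = ∑ i, classInner f (v i) * (classInner (v i) (v i))⁻¹ * classInner (v i) g := by
  classical
  have hli := indep_of_orth h0 h
  have hspan : Submodule.span ℂ (Set.range v) = W := by
    apply Submodule.eq_of_le_of_finrank_le
    · rw [Submodule.span_le]
      rintro _ ⟨i, rfl⟩
      exact hv i
    · rw [finrank_span_eq_card hli]; exact hc
  rw [← hspan] at hf
  obtain ⟨c, rfl⟩ := (Submodule.mem_span_range_iff_exists_fun ℂ).1 hf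
  rw [inner_sum_left]
  apply Finset.sum_congr rfl
  intro i _
  have h1 : classInner (∑ j, c j • v j) (v i) = c i * classInner (v i) (v i) := by
    rw [inner_sum_left, Finset.sum_eq_single i]
    · rw [H18.CharOrtho.inner_smul_left]
    · intro j _ hne
      rw [H18.CharOrtho.inner_smul_left, h j i hne, mul_zero]
    · intro hc; exact absurd (Finset.mem_univ _) hc
  have h2 : classInner (v i) (v i) ≠ 0 := fun h3 => h0 i (inner_self_zero h3)
  rw [h1, H18.CharOrtho.inner_smul_left, mul_inv_cancel_right₀ h2]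

end H5.TDf
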