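import Cfsg.Agent.Lib.H5.TDf
import Cfsg.Agent.Lib.H5.TDd

/-!
# The structure of dihedral blocks
-/

set_option autoImplicit false
set_option linter.unusedSectionVars false
set_option linter.unusedVariables false

namespace H5.TDg

open Cfsg H20.Loc H20.GA H80.GA H80.GB H80.GD H80.GE H80.GF H80.GJ H80.FS H80.FS3 H84.RG H18.CharBasic H18.CharOrtho H18.CharInd H84.TrR
open H20.Blk H20.Orth H20.Ind H20.Height H20.Defect H80.BR1 H80.BR2 H19.Second H19.Second3 H81.Section H81.Contrib H84.Star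
open H5.DBa H5.DBd H5.TBa H5.TBb H5.TBe H5.TBf H5.TBg H5.TBh H5.TBi H5.TBj H78.BlkCount H5.TCa
open H5.TBc H5.TBd H5.TDa H5.TDb H5.TDe H5.TDf
open scoped ComplexConjugate

universe u

attribute [local instance 2000] Fintype.ofFinite

variable {M : Ideal AlgInt} [M.IsMaximal] {G : Type u} [Group G] [Finite G]
variable [CharP (ResF M) 2] [Algebra (ZMod 2) (ResF M)] [Algebra.IsAlgebraic (ZMod 2) (ResF M)]
  [IsAlgClosed (ResF M)]
variable {B : Set (IrrCharacter G)} {n : ℕ} {z : G} {b : Set (IrrCharacter (C z))}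
    {P : Subgroup (C z)} {e : MonoidAlgebra (ResF M) (C z)} {S : Sylow 2 P} {σ : P}
    {ψ : IrrCharacter (C z)} {ζ : ℂ}

/-- the structure of the block -/
structure Data (h : Loc M B n z b P e S σ ψ) (hζ : IsPrimitiveRoot ζ (2 ^ (n - 1)))
    (a₁ a₂ : IrrCharacter G → ℤ) (u : Fin (2 ^ (n - 2) - 2) → IrrCharacter G → ℤ) (X Y₁ Y₂ Y₃ Y₄ : IrrCharacter G)
    (x : Fin (2 ^ (n - 2) - 2) → IrrCharacter G) : Prop where
  ha : ∀ χ : IrrCharacter G, classInner (Th 2 P e (ψ : C z → ℂ) (va h.ds hζ)) (χ : G → ℂ) = a₁ χ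
  hb : ∀ χ : IrrCharacter G, classInner (Th 2 P e (ψ : C z → ℂ) (vb h.ds hζ)) (χ : G → ℂ) = a₂ χ
  hu : ∀ j, ∀ χ : IrrCharacter G, classInner (Th 2 P e (ψ : C z → ℂ) (vc h.ds hζ j)) (χ : G → ℂ) = u j χ
  str : Str _ a₁ a₂ u X Y₁ Y₂ Y₃ Y₄ x
  mem : ∀ χ, χ ∈ B ↔ InL X Y₁ Y₂ Y₃ Y₄ x χ
  hX : blockHeight 2 B (X : G → ℂ) = 1
  h1 : blockHeight 2 B (Y₁ : G → ℂ) = 0
  h3 : blockHeight 2 B (Y₃ : G → ℂ) = 0

theorem exists_data (hM : IsPModular 2 M) (h : Loc M B n z b P e S σ ψ) (hζ : IsPrimitiveRoot ζ (2 ^ (n - 1)))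
    (hk : Nat.card B = 2 ^ (n - 2) + 3) : ∃ a₁ a₂ u X Y₁ Y₂ Y₃ Y₄ x, Data h hζ a₁ a₂ u X Y₁ Y₂ Y₃ Y₄ x := by
  classical
  have ga : Good z P (va h.ds hζ) := good_diff h _ _
  have gb : Good z P (vb h.ds hζ) := good_diff h _ _
  have gc : ∀ j, Good z P (vc h.ds hζ j) := fun j => good_diff h _ _
  obtain ⟨a₁, ha₁⟩ := exists_coeff hM h ga
  obtain ⟨a₂, ha₂⟩ := exists_coeff hM h gb
  choose u hu using fun j => exists_coeff hM h (gc j)
  set d : IrrCharacter G → ℤ := fun χ => a₁ χ + a₂ χ + 2 * ∑ j : Fin (2 ^ (n - 2) - 2), (-1 : ℤ) ^ (j : ℕ) * u j χ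
    with hd
  have hdχ : ∀ χ : IrrCharacter G, classInner (Th 2 P e (ψ : C z → ℂ) (fz (JJ σ n))) (χ : G → ℂ) = (d χ : ℂ) := by
    intro χ
    rw [fz_eq h hζ, Th_add, Th_add, Th_smul, Th_sum, H18.CharOrtho.inner_add_left, H18.CharOrtho.inner_add_left,
      H18.CharOrtho.inner_smul_left, inner_sum_left, ha₁, ha₂]
    have h1 : ∀ j : Fin (2 ^ (n - 2) - 2), classInner (Th 2 P e (ψ : C z → ℂ) (((-1 : ℂ) ^ (j : ℕ)) • vc h.ds hζ j))
        (χ : G → ℂ) = (-1 : ℂ) ^ (j : ℕ) * (u j χ : ℂ) := by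
      intro j
      rw [Th_smul, H18.CharOrtho.inner_smul_left, hu]
    rw [Finset.sum_congr rfl fun j _ => h1 j, hd]
    push_cast
    ring
  have hzp : ∃ k : ℕ, orderOf z = 2 ^ k := ⟨1, by rw [h.hz, pow_one]⟩
  have hco : ∀ χ : IrrCharacter G, _ := fun χ =>
    coeff hM h.hz hzp h.hind h.hd h.hmax h.hb h.hnil h.hψ h.h0 (JJ σ n) h.hw χ (hdχ χ)
  have hodd : ∃ χ, d χ % 2 = 1 := by
    obtain ⟨χ, hχ, h0⟩ := exists_height_zero hM h.hind.2.1
    have h1 := ((hco χ).2 hχ).2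
    rw [h0, zero_add, pow_one] at h1
    exact ⟨χ, by omega⟩
  have hne : ∀ χ : IrrCharacter G, d χ ≠ 0 ↔ χ ∈ B := by
    intro χ
    constructor
    · intro h3
      by_contra h4
      exact h3 ((hco χ).1 h4)
    · intro hχ h0
      apply ((hco χ).2 hχ).2
      rw [h0]; exact dvd_zero _
  have hcard : Nat.card B = (Finset.univ.filter (fun χ : IrrCharacter G => d χ ≠ 0)).card := by
    rw [← Fintype.card_subtype, ← Nat.card_eq_fintype_card]
    exact Nat.card_congr (Equiv.subtypeEquivRight fun χ => (hne χ).symm)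
  have hq := q_ge h.ds
  rcases dichotomy' (m_even h.ds) (u := u) (a₁ := a₁) (a₂ := a₂) (d := d)
    (sum_coeff hM h ga ga ha₁ ha₁ (by rw [n_aa h.ds hζ h.hS]; norm_num))
    (sum_coeff hM h gb gb ha₂ ha₂ (by rw [n_bb h.ds hζ h.hS]; norm_num))
    (sum_coeff hM h ga gb ha₁ ha₂ (by rw [n_ab h.ds hζ h.hS]; norm_num))
    (fun j => sum_coeff hM h ga (gc j) ha₁ (hu j) (by rw [n_ac h.ds hζ h.hS]; norm_num))
    (fun j => sum_coeff hM h gb (gc j) ha₂ (hu j) (by rw [n_bc h.ds hζ h.hS]; norm_num))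
    (fun j k => sum_coeff hM h (gc j) (gc k) (hu j) (hu k) (by rw [n_cc h.ds hζ h.hS]; split_ifs <;> norm_num))
    (fun χ => rfl) hodd (fun χ : IrrCharacter G => pRegularPart 2 (χ : G → ℂ)) (reg_rel hM h ga ha₁)
    (reg_rel hM h gb ha₂) (fun j => reg_rel hM h (gc j) (hu j)) (S := B) (fun χ hχ => (hne χ).2 hχ) with
    ⟨X, Y₁, Y₂, Y₃, Y₄, x, hs⟩ | ⟨hm2, h5, -, -⟩
  · have hv := dval hs (m_even h.ds) (d := d) (fun χ => rfl)
    have t := hs.two
    have hX0 : d X ≠ 0 := by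
      rw [hv.dX]; rcases t.hX with h1 | h1 <;> rw [h1] <;> norm_num
    have h10 : d Y₁ ≠ 0 := by
      rw [hv.d1]; rcases t.h1 with h1 | h1 <;> rw [h1] <;> norm_num
    have h20 : d Y₂ ≠ 0 := by
      rw [hv.d2]; rcases t.h2 with h1 | h1 <;> rw [h1] <;> norm_num
    have h30 : d Y₃ ≠ 0 := by
      rw [hv.d3]; rcases t.h3 with h1 | h1 <;> rw [h1] <;> norm_num
    have h40 : d Y₄ ≠ 0 := by
      rw [hv.d4]; rcases t.h4 with h1 | h1 <;> rw [h1] <;> norm_num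
    have hx0 : ∀ j, d (x j) ≠ 0 := by
      intro j
      rw [hv.dx j]
      rcases neg_one_pow_eq_or ℤ (j : ℕ) with h7 | h7 <;> rcases (hs.ta j).2.2.2.2.2.2.1 with h8 | h8 <;>
        rw [h7, h8] <;> norm_num
    have hht : ∀ χ ∈ B, (d χ = 2 ∨ d χ = -2 → blockHeight 2 B (χ : G → ℂ) = 1) ∧
        (d χ = 1 ∨ d χ = -1 → blockHeight 2 B (χ : G → ℂ) = 0) := by
      intro χ hχ
      obtain ⟨v1, v2⟩ := (hco χ).2 hχ
      constructor
      · intro h1
        exact H5.TDc.pow_val v1 v2 (N := 1) (by rw [pow_one]; exact h1)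
      · intro h1
        exact H5.TDc.pow_val v1 v2 (N := 0) (by rw [pow_zero]; exact h1)
    refine ⟨a₁, a₂, u, X, Y₁, Y₂, Y₃, Y₄, x, ha₁, ha₂, hu, hs, ?_, ?_, ?_, ?_⟩
    · intro χ
      rw [← hne χ]
      constructor
      · intro h1
        by_contra h2
        exact h1 (hv.dz χ h2)
      · rintro (rfl | rfl | rfl | rfl | rfl | ⟨j, rfl⟩)
        · exact hX0
        · exact h10
        · exact h20
        · exact h30
        · exact h40
        · exact hx0 j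
    · apply (hht X ((hne X).1 hX0)).1
      rw [hv.dX]; rcases t.hX with h1 | h1 <;> rw [h1] <;> norm_num
    · apply (hht Y₁ ((hne Y₁).1 h10)).2
      rw [hv.d1]; exact t.h1
    · apply (hht Y₃ ((hne Y₃).1 h30)).2
      rw [hv.d3]; exact t.h3
  · exfalso
    rw [← hcard, hk] at h5
    omega

section main
variable {a₁ a₂ : IrrCharacter G → ℤ} {u : Fin (2 ^ (n - 2) - 2) → IrrCharacter G → ℤ} {X Y₁ Y₂ Y₃ Y₄ : IrrCharacter G}
    {x : Fin (2 ^ (n - 2) - 2) → IrrCharacter G} {h : Loc M B n z b P e S σ ψ} {hζ : IsPrimitiveRoot ζ (2 ^ (n - 1))}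

theorem zero_swap' {f g : G → ℂ} (hr : classInner f g = 0) : classInner g f = 0 := by
  rw [← H18.CharOrtho.inner_conj_symm, hr, map_zero]

theorem Th_reg0 (hM : IsPModular 2 M) (h : Loc M B n z b P e S σ ψ) {f : P → ℂ} (hf : Good z P f) :
    reg 2 (Th 2 P e (ψ : C z → ℂ) f) = 0 := by
  funext g
  by_cases hg : 2 ∣ orderOf g
  · rw [reg_not hg]; rfl
  · rw [reg_of hg, Th_reg hM h.hz rfl hf.sup hg]; rfl

theorem Th_cl (hM : IsPModular 2 M) (h : Loc M B n z b P e S σ ψ) {f : P → ℂ} (hf : Good z P f) :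
    IsClassFunction G (Th 2 P e (ψ : C z → ℂ) f) :=
  isClassFunction_of_isGen (Th_gen hM h.hmax h.hnil hf.gen ψ)

/-- the coefficients of a function on the regular elements are perpendicular -/
theorem perp_of_reg (hM : IsPModular 2 M) (D : Data h hζ a₁ a₂ u X Y₁ Y₂ Y₃ Y₄ x) {F : G → ℂ}
    (hF : reg 2 F = F) (hc : IsClassFunction G F) {c : IrrCharacter G → ℤ}
    (hcc : ∀ χ : IrrCharacter G, classInner F (χ : G → ℂ) = c χ) : Perp a₁ a₂ u c := by
  have key : ∀ (f : P → ℂ), Good z P f → ∀ a : IrrCharacter G → ℤ,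
      (∀ χ : IrrCharacter G, classInner (Th 2 P e (ψ : C z → ℂ) f) (χ : G → ℂ) = a χ) → ∑ χ, a χ * c χ = 0 := by
    intro f hf a ha
    have h1 := inner_int_sum (Th_cl hM h hf) ha hcc
    have h2 : classInner F (Th 2 P e (ψ : C z → ℂ) f) = 0 := inner_reg_zero hF (Th_reg0 hM h hf)
    have h3 := zero_swap' h2
    rw [h3] at h1
    exact_mod_cast h1.symm
  exact ⟨key _ (good_diff h _ _) _ D.ha, key _ (good_diff h _ _) _ D.hb, fun j => key _ (good_diff h _ _) _ (D.hu j)⟩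

end main

end H5.TDg
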