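import Cfsg.Agent.Lib.H5.TDg

/-!
# The character of height one of a dihedral block on the regular elements
-/

set_option autoImplicit false
set_option linter.unusedSectionVars false
set_option linter.unusedVariables false

namespace H5.TDh

open Cfsg H20.Loc H20.GA H80.GA H80.GB H80.GD H80.GE H80.GF H80.GJ H80.FS H80.FS3 H84.RG H18.CharBasic H18.CharOrtho H18.CharInd H84.TrR
open H20.Blk H20.Orth H20.Ind H20.Height H20.Defect H80.BR1 H80.BR2 H19.Second H19.Second3 H81.Section H81.Contrib H84.Star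
open H5.DBa H5.DBd H5.TBa H5.TBb H5.TBe H5.TBf H5.TBg H5.TBh H5.TBi H5.TBj H78.BlkCount H5.TCa
open H5.TBc H5.TBd H5.TDa H5.TDb H5.TDe H5.TDf H5.TDg
open scoped ComplexConjugate

universe u

attribute [local instance 2000] Fintype.ofFinite

variable {M : Ideal AlgInt} [M.IsMaximal] {G : Type u} [Group G] [Finite G]
variable [CharP (ResF M) 2] [Algebra (ZMod 2) (ResF M)] [Algebra.IsAlgebraic (ZMod 2) (ResF M)]
  [IsAlgClosed (ResF M)]
variable {B : Set (IrrCharacter G)} {n : ℕ} {z : G} {b : Set (IrrCharacter (C z))}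
    {P : Subgroup (C z)} {e : MonoidAlgebra (ResF M) (C z)} {S : Sylow 2 P} {σ : P}
    {ψ : IrrCharacter (C z)} {ζ : ℂ}

section dih
variable (h : DS S σ n) (hζ : IsPrimitiveRoot ζ (2 ^ (n - 1)))

/-- the sum of the family -/
noncomputable def ww : P → ℂ := va h hζ + vb h hζ + (2 : ℂ) • ∑ j : Fin (2 ^ (n - 2) - 2), vc h hζ j

theorem in_sum {g : P → ℂ} {c : ℂ} (hc : ∀ j, classInner (vc h hζ j) g = c) :
    classInner (∑ j : Fin (2 ^ (n - 2) - 2), vc h hζ j) g = ((2 ^ (n - 2) - 2 : ℕ) : ℂ) * c := by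
  rw [inner_sum_left, Finset.sum_congr rfl fun j _ => hc j, Finset.sum_const, Finset.card_univ, Fintype.card_fin,
    nsmul_eq_mul]

theorem two_m (h : DS S σ n) : (2 : ℂ) * ((2 ^ (n - 2) - 2 : ℕ) : ℂ) + 4 = 2 ^ (n - 1) := by
  have hq := q_ge h
  have h2 : 2 * (2 ^ (n - 2) - 2) + 4 = 2 ^ (n - 1) := by
    have hn := h.hn
    have : 2 ^ (n - 1) = 2 * 2 ^ (n - 2) := by rw [← pow_succ']; congr 1; omega
    omega
  exact_mod_cast h2

theorem sw (f g : P → ℂ) (r : ℝ) (hr : classInner f g = (r : ℂ)) : classInner g f = (r : ℂ) := inner_swap f g r hr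

theorem ww_va (hS : (S : Subgroup P) = ⊤) : classInner (ww h hζ) (va h hζ) = 2 ^ (n - 1) := by
  unfold ww
  rw [H18.CharOrtho.inner_add_left, H18.CharOrtho.inner_add_left, H18.CharOrtho.inner_smul_left,
    in_sum h hζ (c := 1) (fun j => by
      have := sw _ _ 1 (by rw [n_ac h hζ hS j]; norm_num)
      rw [this]; norm_num), n_aa h hζ hS, sw _ _ 1 (by rw [n_ab h hζ hS]; norm_num), ← two_m h]
  push_cast; ring

theorem ww_vb (hS : (S : Subgroup P) = ⊤) : classInner (ww h hζ) (vb h hζ) = 2 ^ (n - 1) := by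
  unfold ww
  rw [H18.CharOrtho.inner_add_left, H18.CharOrtho.inner_add_left, H18.CharOrtho.inner_smul_left,
    in_sum h hζ (c := 1) (fun j => by
      have := sw _ _ 1 (by rw [n_bc h hζ hS j]; norm_num)
      rw [this]; norm_num), n_bb h hζ hS, n_ab h hζ hS, ← two_m h]
  ring

theorem ww_vc (hS : (S : Subgroup P) = ⊤) (j : Fin (2 ^ (n - 2) - 2)) :
    classInner (ww h hζ) (vc h hζ j) = 2 ^ (n - 1) := by
  classical
  unfold ww
  rw [H18.CharOrtho.inner_add_left, H18.CharOrtho.inner_add_left, H18.CharOrtho.inner_smul_left, n_ac h hζ hS,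
    n_bc h hζ hS, inner_sum_left]
  have h1 : ∑ i : Fin (2 ^ (n - 2) - 2), classInner (vc h hζ i) (vc h hζ j) =
      ((2 ^ (n - 2) - 2 : ℕ) : ℂ) + 1 := by
    have h2 : ∀ i : Fin (2 ^ (n - 2) - 2), classInner (vc h hζ i) (vc h hζ j) = 1 + if i = j then 1 else 0 := by
      intro i
      rw [n_cc h hζ hS]
      split_ifs <;> norm_num
    rw [Finset.sum_congr rfl fun i _ => h2 i, Finset.sum_add_distrib, Finset.sum_ite_eq' Finset.univ j,
      if_pos (Finset.mem_univ _), Finset.sum_const, Finset.card_univ, Fintype.card_fin, nsmul_eq_mul, mul_one]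
  rw [h1, ← two_m h]
  ring

theorem ww_right {g : P → ℂ} {c : ℂ} (ha : classInner g (va h hζ) = c) (hb : classInner g (vb h hζ) = c)
    (hc : ∀ j, classInner g (vc h hζ j) = c) : classInner g (ww h hζ) = (2 ^ (n - 1) - 2) * c := by
  unfold ww
  rw [H18.CharOrtho.inner_add_right, H18.CharOrtho.inner_add_right, H18.CharOrtho.inner_smul_right, inner_sum_right,
    ha, hb, Finset.sum_congr rfl fun j _ => hc j, Finset.sum_const, Finset.card_univ, Fintype.card_fin, nsmul_eq_mul,
    ← two_m h, Complex.conj_ofNat]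
  ring

theorem ww_ww (hS : (S : Subgroup P) = ⊤) : classInner (ww h hζ) (ww h hζ) = (2 ^ (n - 1) - 2) * 2 ^ (n - 1) :=
  ww_right h hζ (ww_va h hζ hS) (ww_vb h hζ hS) (ww_vc h hζ hS)

open Classical in
/-- the indicator function of the identity -/
noncomputable def f1 (P : Subgroup (C z)) : P → ℂ := fun y => if y = 1 then 1 else 0

theorem f1_class : IsClassFunction P (f1 P) := by
  intro g x
  unfold f1
  congr 1
  apply propext
  constructor
  · intro h1
    have : g = x⁻¹ * (x * g * x⁻¹) * x := by group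
    rw [this, h1]; group
  · rintro rfl; group

theorem inner_f1 (g : P → ℂ) : classInner (f1 P) g = (Nat.card P : ℂ)⁻¹ * conj (g 1) := by
  classical
  unfold classInner
  congr 1
  rw [Finset.sum_eq_single 1]
  · unfold f1; rw [if_pos rfl, one_mul]
  · intro y _ hy
    unfold f1; rw [if_neg hy, zero_mul]
  · intro hc; exact absurd (Finset.mem_univ _) hc

theorem II_one (h : DS S σ n) (hS : (S : Subgroup P) = ⊤) (φ : Subgroup.zpowers σ →* ℂˣ) : II φ (1 : P) = 2 := by
  have h2 := II_on h hS φ 1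
  rw [map_one] at h2
  have h3 : ((1 : Subgroup.zpowers σ) : P) = 1 := rfl
  rw [h3] at h2
  rw [h2]; norm_num

theorem p0_va (hS : (S : Subgroup P) = ⊤) : classInner (II (pj h hζ (i0 h)) : P → ℂ) (va h hζ) = -1 := by
  unfold va
  rw [H18.CharOrtho.inner_sub_right, zero_swap (in1p h hζ hS _), inpp h hζ hS, if_pos rfl]; norm_num

theorem p0_vb (hS : (S : Subgroup P) = ⊤) : classInner (II (pj h hζ (i0 h)) : P → ℂ) (vb h hζ) = -1 := by
  unfold vb
  rw [H18.CharOrtho.inner_sub_right, zero_swap (inlp h hζ hS _), inpp h hζ hS, if_pos rfl]; norm_num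

theorem p0_vc (hS : (S : Subgroup P) = ⊤) (j : Fin (2 ^ (n - 2) - 2)) :
    classInner (II (pj h hζ (i0 h)) : P → ℂ) (vc h hζ j) = -1 := by
  unfold vc
  rw [H18.CharOrtho.inner_sub_right, inpp h hζ hS, inpp h hζ hS, if_pos rfl, if_neg (ij_ne h j).symm]; norm_num

theorem ww_one (hS : (S : Subgroup P) = ⊤) : ww h hζ 1 = 0 := by
  unfold ww va vb vc
  rw [Pi.add_apply, Pi.add_apply, Pi.smul_apply, Finset.sum_apply, Pi.sub_apply, Pi.sub_apply, II_one h hS, II_one h hS,
    II_one h hS]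
  have : ∀ j : Fin (2 ^ (n - 2) - 2), ((II (pj h hζ (ij h j)) - II (pj h hζ (i0 h)) : P → ℂ)) 1 = 0 := by
    intro j
    rw [Pi.sub_apply, II_one h hS, II_one h hS, sub_self]
  rw [Finset.sum_congr rfl fun j _ => this j, Finset.sum_const_zero]
  simp

theorem card_P' (h : DS S σ n) (hS : (S : Subgroup P) = ⊤) : (Nat.card P : ℂ) = 2 * 2 ^ (n - 1) := by
  rw [H5.TBh.card_P h hS]
  have hn := h.hn
  have : 2 ^ n = 2 * 2 ^ (n - 1) := by rw [← pow_succ']; congr 1; omega
  rw [this]; push_cast; ring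

/-- the first irreducible character induced from the rotations -/
theorem p0_eq (hS : (S : Subgroup P) = ⊤) : (II (pj h hζ (i0 h)) : P → ℂ) =
    (2 : ℂ) • f1 P - (((2 : ℂ) ^ (n - 1))⁻¹) • ww h hζ := by
  have hk : (2 : ℂ) ^ (n - 1) ≠ 0 := pow_ne_zero _ two_ne_zero
  have hκc : conj ((2 : ℂ) ^ (n - 1)) = 2 ^ (n - 1) := by rw [map_pow, Complex.conj_ofNat]
  have hc := card_P' h hS
  set κ : ℂ := 2 ^ (n - 1) with hκ
  set p : P → ℂ := II (pj h hζ (i0 h)) with hp
  set w := ww h hζ with hw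
  have pp : classInner p p = 1 := by rw [hp, inpp h hζ hS, if_pos rfl]
  have pw : classInner p w = (κ - 2) * (-1) := ww_right h hζ (p0_va h hζ hS) (p0_vb h hζ hS) (p0_vc h hζ hS)
  have wp : classInner w p = (κ - 2) * (-1) := by
    rw [← H18.CharOrtho.inner_conj_symm, pw, map_mul, map_sub, hκc, Complex.conj_ofNat, map_neg, map_one]
  have wwi : classInner w w = (κ - 2) * κ := ww_ww h hζ hS
  have p1 : p 1 = 2 := II_one h hS _
  have w1 : w 1 = 0 := ww_one h hζ hS
  have fp : classInner (f1 P) p = (2 * κ)⁻¹ * 2 := by rw [inner_f1, hc, p1, Complex.conj_ofNat]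
  have pf : classInner p (f1 P) = (2 * κ)⁻¹ * 2 := by
    rw [← H18.CharOrtho.inner_conj_symm, fp, map_mul, map_inv₀, map_mul, hκc, Complex.conj_ofNat]
  have fw : classInner (f1 P) w = 0 := by rw [inner_f1, w1, map_zero, mul_zero]
  have wf : classInner w (f1 P) = 0 := zero_swap fw
  have ff : classInner (f1 P) (f1 P) = (2 * κ)⁻¹ := by
    rw [inner_f1, hc]; unfold f1; simp
  have hr : classInner (p - ((2 : ℂ) • f1 P - κ⁻¹ • w)) (p - ((2 : ℂ) • f1 P - κ⁻¹ • w)) = 0 := by
    simp only [H18.CharOrtho.inner_sub_left, H18.CharOrtho.inner_sub_right, H18.CharOrtho.inner_smul_left,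
      H18.CharOrtho.inner_smul_right, pp, pw, wp, wwi, fp, pf, fw, wf, ff, Complex.conj_ofNat, map_inv₀, hκc]
    field_simp
    ring
  have := inner_self_zero hr
  exact sub_eq_zero.1 this

end dih

end H5.TDh
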