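import Cfsg.Agent.Lib.H5.TDh

/-!
# Dihedral blocks: the row of the character of height one
-/

set_option autoImplicit false
set_option linter.unusedSectionVars false
set_option linter.unusedVariables false

namespace H5.TDi

open Cfsg H20.Loc H20.GA H80.GA H80.GB H80.GD H80.GE H80.GF H80.GJ H80.FS H80.FS3 H84.RG H18.CharBasic H18.CharOrtho H18.CharInd H84.TrR
open H20.Blk H20.Orth H20.Ind H20.Height H20.Defect H80.BR1 H80.BR2 H19.Second H19.Second3 H81.Section H81.Contrib H84.Star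
open H5.DBa H5.DBd H5.TBa H5.TBb H5.TBe H5.TBf H5.TBg H5.TBh H5.TBi H5.TBj H78.BlkCount H5.TCa
open H5.TBc H5.TBd H5.TDa H5.TDb H5.TDe H5.TDf H5.TDg H5.TDh
open scoped ComplexConjugate

universe u

attribute [local instance 2000] Fintype.ofFinite

variable {M : Ideal AlgInt} [M.IsMaximal] {G : Type u} [Group G] [Finite G]
variable [CharP (ResF M) 2] [Algebra (ZMod 2) (ResF M)] [Algebra.IsAlgebraic (ZMod 2) (ResF M)]
  [IsAlgClosed (ResF M)]
variable {B : Set (IrrCharacter G)} {n : ℕ} {z : G} {b : Set (IrrCharacter (C z))}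
    {P : Subgroup (C z)} {e : MonoidAlgebra (ResF M) (C z)} {S : Sylow 2 P} {σ : P}
    {ψ : IrrCharacter (C z)} {ζ : ℂ}
variable {a₁ a₂ : IrrCharacter G → ℤ} {u : Fin (2 ^ (n - 2) - 2) → IrrCharacter G → ℤ} {X Y₁ Y₂ Y₃ Y₄ : IrrCharacter G}
    {x : Fin (2 ^ (n - 2) - 2) → IrrCharacter G} {h : Loc M B n z b P e S σ ψ} {hζ : IsPrimitiveRoot ζ (2 ^ (n - 1))}

theorem X_mem (D : Data h hζ a₁ a₂ u X Y₁ Y₂ Y₃ Y₄ x) : X ∈ B := (D.mem X).2 (Or.inl rfl)
theorem Y1_mem (D : Data h hζ a₁ a₂ u X Y₁ Y₂ Y₃ Y₄ x) : Y₁ ∈ B := (D.mem _).2 (Or.inr (Or.inl rfl))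
theorem Y3_mem (D : Data h hζ a₁ a₂ u X Y₁ Y₂ Y₃ Y₄ x) : Y₃ ∈ B := (D.mem _).2 (Or.inr (Or.inr (Or.inr (Or.inl rfl))))

/-- the functions of the family belong to the block -/
theorem fam_mem (hM : IsPModular 2 M) (D : Data h hζ a₁ a₂ u X Y₁ Y₂ Y₃ Y₄ x) :
    Th 2 P e (ψ : C z → ℂ) (va h.ds hζ) ∈ spn B ∧
      Th 2 P e (ψ : C z → ℂ) (vb h.ds hζ) ∈ spn B ∧ ∀ j, Th 2 P e (ψ : C z → ℂ) (vc h.ds hζ j) ∈ spn B := by
  have t := D.str.two
  refine ⟨?_, ?_, fun j => ?_⟩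
  · refine mem_spn_of (Th_cl hM h (good_diff h _ _)) fun χ hχ => ?_
    rw [D.ha]
    have h1 : ¬ InL X Y₁ Y₂ Y₃ Y₄ x χ := fun hc => hχ ((D.mem χ).2 hc)
    unfold InL at h1
    push Not at h1
    rw [t.z1 χ h1.1 h1.2.1 h1.2.2.1, Int.cast_zero]
  · refine mem_spn_of (Th_cl hM h (good_diff h _ _)) fun χ hχ => ?_
    rw [D.hb]
    have h1 : ¬ InL X Y₁ Y₂ Y₃ Y₄ x χ := fun hc => hχ ((D.mem χ).2 hc)
    unfold InL at h1
    push Not at h1
    rw [t.z2 χ h1.1 h1.2.2.2.1 h1.2.2.2.2.1, Int.cast_zero]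
  · refine mem_spn_of (Th_cl hM h (good_diff h _ _)) fun χ hχ => ?_
    rw [D.hu]
    have h1 : ¬ InL X Y₁ Y₂ Y₃ Y₄ x χ := fun hc => hχ ((D.mem χ).2 hc)
    unfold InL at h1
    push Not at h1
    rw [(D.str.ta j).2.2.2.2.2.2.2 χ h1.1 (h1.2.2.2.2.2 j), Int.cast_zero]

theorem pw (h : Loc M B n z b P e S σ ψ) : (2 : ℤ) ^ n = 4 * (((2 ^ (n - 2) - 2 : ℕ) : ℤ) + 2) := by
  have hq := q_ge h.ds
  have hn := h.ds.hn
  have h1 : 2 ^ n = 4 * ((2 ^ (n - 2) - 2) + 2) := by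
    have : 2 ^ n = 4 * 2 ^ (n - 2) := by
      rw [show (4 : ℕ) = 2 ^ 2 by norm_num, ← pow_add]; congr 1; omega
    omega
  exact_mod_cast h1

/-- the standard function on the regular elements -/
theorem exists_C (hM : IsPModular 2 M) (D : Data h hζ a₁ a₂ u X Y₁ Y₂ Y₃ Y₄ x) (hdn : blockDefect 2 B = n) :
    ∃ c : IrrCharacter G → ℤ, Std a₁ a₂ u X Y₁ Y₂ Y₃ Y₄ x c ∧ reg 2 (vec c) = vec c ∧
      vec c = (-(a₁ X : ℂ) * 2 ^ (n - 1)) • reg 2 (X : G → ℂ) := by
  classical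
  obtain ⟨a, ha, ha0, -, hnot, hdiv, -, hsum⟩ := H81.RegMat.exists_row hM h.hind.2.1 (X_mem D)
  rw [hdn] at ha hsum
  have hn := h.ds.hn
  have hX := D.hX
  rw [hX] at hnot hdiv
  have hXc := isClassFunction_of_isIrr X.2
  have hcoef : ∀ χ : IrrCharacter G, classInner (((2 : ℂ) ^ n) • reg 2 (X : G → ℂ)) (χ : G → ℂ) = a χ := by
    intro χ
    rw [H18.CharOrtho.inner_smul_left, ← ha χ]; norm_num
  have hp : Perp a₁ a₂ u a := perp_of_reg hM D (F := ((2 : ℂ) ^ n) • reg 2 (X : G → ℂ))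
    (by rw [reg_smul, H81.Contrib.reg_reg]) (isClassFunction_smul _ (reg_class hXc)) hcoef
  have h4 : (4 : ℤ) ∣ a X := by
    have := hdiv X (X_mem D) (by rw [hX]; norm_num)
    norm_num at this
    exact this
  have h1 : a Y₁ ≠ 0 := by
    intro h0
    apply hnot Y₁ (Y1_mem D) D.h1
    rw [h0]; exact dvd_zero _
  obtain ⟨k1, k2, k3⟩ := rowX D.str hp h4 h1 (by
    have h5 : ∑ i, a i * a i = ∑ i, (a i) ^ 2 := Finset.sum_congr rfl fun i _ => by ring
    rw [h5, hsum, ← pw h]; norm_num) (fun i hi => ha0 i (fun hc => hi ((D.mem i).1 hc)))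
  have hav : vec a = ((2 : ℂ) ^ n) • reg 2 (X : G → ℂ) :=
    (eq_vec (isClassFunction_smul _ (reg_class hXc)) hcoef).symm
  have h2 : vec (fun i => -(a₁ X) * (a i / 2)) = (-(a₁ X : ℂ) * 2 ^ (n - 1)) • reg 2 (X : G → ℂ) := by
    have h3 : ((2 : ℤ) : ℂ) • vec (fun i => -(a₁ X) * (a i / 2)) = ((-(a₁ X) : ℤ) : ℂ) • vec a := by
      rw [vec_smul, vec_smul]
      congr 1
      funext i
      have h6 := k3 i
      have h5 : a i = 2 * (a i / 2) := by omega
      calc 2 * (-(a₁ X) * (a i / 2)) = -(a₁ X) * (2 * (a i / 2)) := by ring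
        _ = -(a₁ X) * a i := by rw [← h5]
    rw [hav] at h3
    have h4 : vec (fun i => -(a₁ X) * (a i / 2)) = (2 : ℂ)⁻¹ • (((2 : ℤ) : ℂ) • vec (fun i => -(a₁ X) * (a i / 2))) := by
      rw [smul_smul]; norm_num
    rw [h4, h3, smul_smul, smul_smul]
    congr 1
    have h7 : (2 : ℂ) ^ n = 2 * 2 ^ (n - 1) := by rw [← pow_succ']; congr 1; omega
    rw [h7]; push_cast; ring
  refine ⟨_, k2, ?_, h2⟩
  rw [h2, reg_smul, H81.Contrib.reg_reg]

theorem std_norm {I : Type*} [Fintype I] [DecidableEq I] {a₁ a₂ : I → ℤ} {m : ℕ} {u : Fin m → I → ℤ}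
    {X Y₁ Y₂ Y₃ Y₄ : I} {x : Fin m → I} (hs : Str m a₁ a₂ u X Y₁ Y₂ Y₃ Y₄ x) {c : I → ℤ}
    (hc : Std a₁ a₂ u X Y₁ Y₂ Y₃ Y₄ x c) : ∑ i, c i * c i = 4 * ((m : ℤ) + 2) := by
  have t := hs.two
  rw [sum_lst hs _ (fun i hi => by rw [hc.cz i hi, zero_mul])]
  have h1 : ∀ j, c (x j) * c (x j) = 4 := by
    intro j
    rw [hc.cx j]
    linear_combination 4 * sgn_sq (hs.ta j).2.2.2.2.2.2.1
  rw [Finset.sum_congr rfl fun j _ => h1 j, Finset.sum_const, Finset.card_univ, Fintype.card_fin, nsmul_eq_mul,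
    hc.cX, hc.c1, hc.c2, hc.c3, hc.c4]
  linear_combination 4 * sgn_sq t.hX + sgn_sq t.h1 + sgn_sq t.h2 + sgn_sq t.h3 + sgn_sq t.h4

/-- the sum of the induced functions -/
noncomputable def TW (h : Loc M B n z b P e S σ ψ) (hζ : IsPrimitiveRoot ζ (2 ^ (n - 1))) : G → ℂ :=
  Th 2 P e (ψ : C z → ℂ) (H5.TDh.ww h.ds hζ)

theorem ww_good (h : Loc M B n z b P e S σ ψ) (hζ : IsPrimitiveRoot ζ (2 ^ (n - 1))) : Good z P (H5.TDh.ww h.ds hζ) := by
  have ga : Good z P (va h.ds hζ) := good_diff h _ _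
  have gb : Good z P (vb h.ds hζ) := good_diff h _ _
  have gc : ∀ j, Good z P (vc h.ds hζ j) := fun j => good_diff h _ _
  constructor
  · unfold H5.TDh.ww
    have h1 : IsGeneralizedCharacter P (∑ j : Fin (2 ^ (n - 2) - 2), vc h.ds hζ j) :=
      isGen_sum _ _ fun j _ => (gc j).gen
    have h2 := isGen_intCast_smul 2 h1
    exact isGen_add (isGen_add ga.gen gb.gen) (by exact_mod_cast h2)
  · intro y hy
    by_contra hno
    apply hy
    have e1 : va h.ds hζ y = 0 := by by_contra h1; exact hno (ga.sup y h1)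
    have e2 : vb h.ds hζ y = 0 := by by_contra h1; exact hno (gb.sup y h1)
    have e3 : ∀ j, vc h.ds hζ j y = 0 := fun j => by by_contra h1; exact hno ((gc j).sup y h1)
    unfold H5.TDh.ww
    rw [Pi.add_apply, Pi.add_apply, Pi.smul_apply, Finset.sum_apply, e1, e2, Finset.sum_congr rfl fun j _ => e3 j]
    simp

theorem TW_eq (h : Loc M B n z b P e S σ ψ) (hζ : IsPrimitiveRoot ζ (2 ^ (n - 1))) : TW h hζ =
    Th 2 P e (ψ : C z → ℂ) (va h.ds hζ) + Th 2 P e (ψ : C z → ℂ) (vb h.ds hζ) +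
      (2 : ℂ) • ∑ j, Th 2 P e (ψ : C z → ℂ) (vc h.ds hζ j) := by
  unfold TW H5.TDh.ww
  rw [Th_add, Th_add, Th_smul, Th_sum]

/-- the character of height one -/
theorem X_eq (hM : IsPModular 2 M) (D : Data h hζ a₁ a₂ u X Y₁ Y₂ Y₃ Y₄ x) (hdn : blockDefect 2 B = n) :
    (X : G → ℂ) = reg 2 (X : G → ℂ) + ((a₁ X : ℂ) * (2 ^ (n - 1))⁻¹) • TW h hζ := by
  classical
  obtain ⟨c, hc, hr, hcX⟩ := exists_C hM D hdn
  have t := D.str.two
  have hn := h.ds.hn
  set κ : ℂ := 2 ^ (n - 1) with hκ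
  have hκ0 : κ ≠ 0 := pow_ne_zero _ two_ne_zero
  have hκc : conj κ = κ := by rw [hκ, map_pow, Complex.conj_ofNat]
  set α : ℂ := (a₁ X : ℂ) with hα
  have hαα : α * α = 1 := by rw [hα]; exact_mod_cast sgn_sq t.hX
  have hαc : conj α = α := by rw [hα, map_intCast]
  -- the norm of the regular part
  have n1 : classInner (vec c) (vec c) = 2 * κ := by
    rw [inner_vec, std_norm D.str hc, ← pw h]
    have h7 : (2 : ℂ) ^ n = 2 * 2 ^ (n - 1) := by rw [← pow_succ']; congr 1; omega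
    push_cast
    rw [h7]
  set R := reg 2 (X : G → ℂ) with hR
  have n2 : κ * κ * classInner R R = 2 * κ := by
    rw [hcX, H18.CharOrtho.inner_smul_left, H18.CharOrtho.inner_smul_right] at n1
    rw [map_mul, map_neg, hαc, hκc] at n1
    linear_combination n1 - κ * κ * classInner R R * hαα
  have n3 : κ * classInner R R = 2 := by
    apply mul_left_cancel₀ hκ0
    linear_combination n2
  have xx : classInner (X : G → ℂ) (X : G → ℂ) = 1 := inner_irr_self X.2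
  have RX : classInner R (X : G → ℂ) = classInner R R := by
    have h1 := inner_reg_comm (p := 2) R (X : G → ℂ)
    have h2 : reg 2 R = R := H81.Contrib.reg_reg _
    rwa [h2] at h1
  have hRR : conj (classInner R R) = classInner R R := H18.CharOrtho.inner_conj_symm R R
  have XR : classInner (X : G → ℂ) R = classInner R R := by
    rw [← H18.CharOrtho.inner_conj_symm, RX, hRR]
  -- the sum
  set T := TW h hζ with hT
  have gw := ww_good h hζ
  have TT : classInner T T = (κ - 2) * κ := by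
    rw [hT]
    unfold TW
    rw [Th_inner hM h.hz h.hmax h.hb h.hnil h.hψ h.h0 (isClassFunction_of_isGen gw.gen)
      (isClassFunction_of_isGen gw.gen) gw.sup gw.sup, ww_ww h.ds hζ h.hS]
  have TX : classInner T (X : G → ℂ) = (κ - 2) * α := by
    rw [hT, TW_eq, H18.CharOrtho.inner_add_left, H18.CharOrtho.inner_add_left, H18.CharOrtho.inner_smul_left,
      inner_sum_left, D.ha, D.hb, t.hX']
    have h1 : ∀ j, classInner (Th 2 P e (ψ : C z → ℂ) (vc h.ds hζ j)) (X : G → ℂ) = α := by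
      intro j
      rw [D.hu, (D.str.ta j).2.2.2.2.2.1]
    rw [Finset.sum_congr rfl fun j _ => h1 j, Finset.sum_const, Finset.card_univ, Fintype.card_fin, nsmul_eq_mul,
      hκ, ← two_m h.ds]
    ring
  have XT : classInner (X : G → ℂ) T = (κ - 2) * α := by
    rw [← H18.CharOrtho.inner_conj_symm, TX, map_mul, map_sub, hκc, Complex.conj_ofNat, hαc]
  have TR : classInner R T = 0 := inner_reg_zero (H81.Contrib.reg_reg _) (Th_reg0 hM h gw)
  have RT : classInner T R = 0 := zero_swap' TR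
  have key : classInner ((X : G → ℂ) - (R + (α * κ⁻¹) • T)) ((X : G → ℂ) - (R + (α * κ⁻¹) • T)) = 0 := by
    simp only [H18.CharOrtho.inner_sub_left, H18.CharOrtho.inner_sub_right, H18.CharOrtho.inner_add_left,
      H18.CharOrtho.inner_add_right, H18.CharOrtho.inner_smul_left, H18.CharOrtho.inner_smul_right, map_mul, map_inv₀,
      hκc, hαc, xx, RX, XR, TT, TX, XT, TR, RT]
    have n4 : classInner R R = 2 * κ⁻¹ := by
      apply mul_left_cancel₀ hκ0
      rw [n3]; field_simp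
    rw [n4]
    field_simp
    linear_combination (-(κ - 2)) * hαα
  exact sub_eq_zero.1 (inner_self_zero key)

end H5.TDi
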