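import Cfsg.Agent.Lib.H5.TDi

/-!
# Dihedral blocks: the functions on the regular elements
-/

set_option autoImplicit false
set_option linter.unusedSectionVars false
set_option linter.unusedVariables false

namespace H5.TDj

open Cfsg H20.Loc H20.GA H80.GA H80.GB H80.GD H80.GE H80.GF H80.GJ H80.FS H80.FS3 H84.RG H18.CharBasic H18.CharOrtho H18.CharInd H84.TrR
open H20.Blk H20.Orth H20.Ind H20.Height H20.Defect H80.BR1 H80.BR2 H19.Second H19.Second3 H81.Section H81.Contrib H84.Star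
open H5.DBa H5.DBd H5.TBa H5.TBb H5.TBe H5.TBf H5.TBg H5.TBh H5.TBi H5.TBj H78.BlkCount H5.TCa
open H5.TBc H5.TBd H5.TDa H5.TDb H5.TDe H5.TDf H5.TDg H5.TDi
open scoped ComplexConjugate

universe u

attribute [local instance 2000] Fintype.ofFinite

variable {M : Ideal AlgInt} [M.IsMaximal] {G : Type u} [Group G] [Finite G]
variable [CharP (ResF M) 2] [Algebra (ZMod 2) (ResF M)] [Algebra.IsAlgebraic (ZMod 2) (ResF M)]
  [IsAlgClosed (ResF M)]

theorem gen_proj {B : Set (IrrCharacter G)} {f : G → ℂ} (hf : IsGeneralizedCharacter G f) :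
    IsGeneralizedCharacter G (proj B f) := by
  classical
  refine gen_of_int (proj_class B f) fun χ => ?_
  rw [inner_proj]
  split_ifs
  · exact coef_int hf χ
  · exact ⟨0, by simp⟩

theorem proj_eq_zero_of {B : Set (IrrCharacter G)} {f g : G → ℂ} (hf : f ∈ spn B) : proj B f = f :=
  proj_of_mem_spn hf

variable {B : Set (IrrCharacter G)} {n : ℕ} {z : G} {b : Set (IrrCharacter (C z))}
    {P : Subgroup (C z)} {e : MonoidAlgebra (ResF M) (C z)} {S : Sylow 2 P} {σ : P}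
    {ψ : IrrCharacter (C z)} {ζ : ℂ}
variable {a₁ a₂ : IrrCharacter G → ℤ} {u : Fin (2 ^ (n - 2) - 2) → IrrCharacter G → ℤ} {X Y₁ Y₂ Y₃ Y₄ : IrrCharacter G}
    {x : Fin (2 ^ (n - 2) - 2) → IrrCharacter G} {h : Loc M B n z b P e S σ ψ} {hζ : IsPrimitiveRoot ζ (2 ^ (n - 1))}

theorem FF_f1 (hM : IsPModular 2 M) (h : Loc M B n z b P e S σ ψ) :
    FF 2 P e (ψ : C z → ℂ) (H5.TDh.f1 P) = reg 2 (ψ : C z → ℂ) := by
  funext c
  by_cases hc : 2 ∣ orderOf c
  · rw [reg_not hc]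
    by_contra hne
    obtain ⟨y, hy, g, w, hw, hyw⟩ := FF_supp hM hne
    have hy1 : y = 1 := by
      unfold H5.TDh.f1 at hy
      by_contra h2
      rw [if_neg h2] at hy
      exact hy rfl
    have hw1 : w = 1 := by
      have h2 : w = g⁻¹ * y * g := by rw [hyw]; group
      rw [h2, hy1]; simp
    obtain ⟨y', h1, -, -, h4⟩ := hw
    apply h4
    rw [hw1, one_mul] at h1
    rw [h1]; exact hc
  · rw [FF_reg hM h.hmax h.hb h.hnil h.hψ H5.TDh.f1_class hc, reg_of hc]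
    unfold H5.TDh.f1
    rw [if_pos rfl, one_mul]

theorem projB_add {B : Set (IrrCharacter G)} (f g : G → ℂ) : proj B (f + g) = proj B f + proj B g := proj_add' B f g
theorem projB_smul {B : Set (IrrCharacter G)} (c : ℂ) (f : G → ℂ) : proj B (c • f) = c • proj B f := proj_smul B c f

/-- an integral function on the regular elements -/
noncomputable def Dl (B : Set (IrrCharacter G)) (z : G) (ψ : C z → ℂ) (a : ℂ) (X : G → ℂ) : G → ℂ :=
  (2 : ℂ) • proj B (indFun (C z) (reg 2 ψ)) + a • reg 2 X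

theorem Dl_gen (hM : IsPModular 2 M) (D : Data h hζ a₁ a₂ u X Y₁ Y₂ Y₃ Y₄ x) (hdn : blockDefect 2 B = n) :
    IsGeneralizedCharacter G (Dl B z (ψ : C z → ℂ) (a₁ X : ℂ) (X : G → ℂ)) := by
  have t := D.str.two
  have h1 : Dl B z (ψ : C z → ℂ) (a₁ X : ℂ) (X : G → ℂ) =
      proj B (indFun (C z) (FF 2 P e (ψ : C z → ℂ) (II (pj h.ds hζ (i0 h.ds))))) + (a₁ X : ℂ) • (X : G → ℂ) := by
    have hXr : (a₁ X : ℂ) • reg 2 (X : G → ℂ) = (a₁ X : ℂ) • (X : G → ℂ) - ((2 : ℂ) ^ (n - 1))⁻¹ • TW h hζ := by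
      have h2 := X_eq hM D hdn
      have h3 : (a₁ X : ℂ) • (X : G → ℂ) = (a₁ X : ℂ) • reg 2 (X : G → ℂ) + ((2 : ℂ) ^ (n - 1))⁻¹ • TW h hζ := by
        conv_lhs => rw [h2]
        rw [smul_add, smul_smul, ← mul_assoc]
        have : (a₁ X : ℂ) * (a₁ X : ℂ) = 1 := by exact_mod_cast sgn_sq t.hX
        rw [this, one_mul]
      rw [h3]; abel
    have hTW : proj B (TW h hζ) = TW h hζ := by
      apply proj_of_mem_spn
      rw [TW_eq]
      obtain ⟨m1, m2, m3⟩ := fam_mem hM D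
      exact Submodule.add_mem _ (Submodule.add_mem _ m1 m2)
        (Submodule.smul_mem _ _ (Submodule.sum_mem _ fun j _ => m3 j))
    rw [H5.TDh.p0_eq h.ds hζ h.hS, sub_eq_add_neg, ← neg_smul, FF_add, FF_smul, FF_smul, FF_f1 hM h, indFun_add,
      indFun_smul, indFun_smul, projB_add, projB_smul, projB_smul]
    have h4 : indFun (C z) (FF 2 P e (ψ : C z → ℂ) (H5.TDh.ww h.ds hζ)) = TW h hζ := rfl
    rw [h4, hTW]
    unfold Dl
    rw [hXr, neg_smul]
    abel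
  rw [h1]
  exact isGen_add (gen_proj (isGen_ind _ (FF_gen hM h.hmax h.hnil (II_gen _) ψ)))
    (isGen_intCast_smul _ (isGen_of_isIrr X.2))

theorem indFun_reg (z : G) {f : C z → ℂ} (hf : IsClassFunction (C z) f) :
    reg 2 (indFun (C z) (reg 2 f)) = indFun (C z) (reg 2 f) := by
  classical
  funext g
  by_cases hg : 2 ∣ orderOf g
  · rw [reg_not hg, indFun_apply]
    have h1 : ∀ y : G, extendByZero (C z) (reg 2 f) (y⁻¹ * g * y) = 0 := by
      intro y
      by_cases hy : y⁻¹ * g * y ∈ C z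
      · rw [ext_mem _ _ hy]
        apply reg_not
        have h4 : orderOf (⟨y⁻¹ * g * y, hy⟩ : C z) = orderOf g := by
          rw [Subgroup.orderOf_mk]
          have := orderOf_injective (MulAut.conj y⁻¹).toMonoidHom (MulAut.conj y⁻¹).injective g
          simpa using this
        rw [h4]; exact hg
      · exact ext_notMem _ _ hy
    simp only [h1, Finset.sum_const_zero, mul_zero]
  · rw [reg_of hg]

theorem Dl_reg (hM : IsPModular 2 M) (hB : IsPBlock M B) (z : G) (ψ : IrrCharacter (C z)) (a : ℂ) (X : G → ℂ) :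
    reg 2 (Dl B z (ψ : C z → ℂ) a X) = Dl B z (ψ : C z → ℂ) a X := by
  haveI := pm_isPrime hM
  unfold Dl
  rw [reg_add, reg_smul, reg_smul, H81.Contrib.reg_reg,
    ← proj_reg hM (isUnion_of_isPBlock hB) (isClassFunction_indFun _ _),
    indFun_reg z (isClassFunction_of_isIrr ψ.2)]

/-- differences of two characters of height zero -/
noncomputable def EE (a : IrrCharacter G → ℤ) (Y₁ Y₂ : IrrCharacter G) : G → ℂ :=
  (a Y₁ : ℂ) • (Y₁ : G → ℂ) - (a Y₂ : ℂ) • (Y₂ : G → ℂ)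

theorem EE_class (a : IrrCharacter G → ℤ) (Y₁ Y₂ : IrrCharacter G) : IsClassFunction G (EE a Y₁ Y₂) :=
  isClassFunction_of_isGen (isGen_sub (isGen_intCast_smul _ (isGen_of_isIrr Y₁.2))
    (isGen_intCast_smul _ (isGen_of_isIrr Y₂.2)))

theorem EE_gen (a : IrrCharacter G → ℤ) (Y₁ Y₂ : IrrCharacter G) : IsGeneralizedCharacter G (EE a Y₁ Y₂) :=
  isGen_sub (isGen_intCast_smul _ (isGen_of_isIrr Y₁.2)) (isGen_intCast_smul _ (isGen_of_isIrr Y₂.2))

open Classical in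
theorem EE_coef (a : IrrCharacter G → ℤ) (Y₁ Y₂ χ : IrrCharacter G) : classInner (EE a Y₁ Y₂) (χ : G → ℂ) =
    (a Y₁ : ℂ) * (if Y₁ = χ then 1 else 0) - (a Y₂ : ℂ) * (if Y₂ = χ then 1 else 0) := by
  have h1 : ∀ Y : IrrCharacter G, classInner (Y : G → ℂ) (χ : G → ℂ) = if Y = χ then 1 else 0 := by
    intro Y
    split_ifs with h
    · rw [h]; exact inner_irr_self χ.2
    · exact inner_irr_ne Y.2 χ.2 (fun hc => h (Subtype.ext hc))
  unfold EE
  rw [H18.CharOrtho.inner_sub_left, H18.CharOrtho.inner_smul_left, H18.CharOrtho.inner_smul_left, h1, h1]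

theorem EE_self {a : IrrCharacter G → ℤ} {Y₁ Y₂ : IrrCharacter G} (h12 : Y₁ ≠ Y₂) (h1 : a Y₁ = 1 ∨ a Y₁ = -1)
    (h2 : a Y₂ = 1 ∨ a Y₂ = -1) : classInner (EE a Y₁ Y₂) (EE a Y₁ Y₂) = 2 := by
  classical
  conv_lhs => arg 2; rw [EE]
  rw [H18.CharOrtho.inner_sub_right, H18.CharOrtho.inner_smul_right, H18.CharOrtho.inner_smul_right, EE_coef, EE_coef,
    if_pos rfl, if_pos rfl, if_neg h12, if_neg h12.symm, map_intCast, map_intCast]
  have e1 : (a Y₁ : ℂ) * (a Y₁ : ℂ) = 1 := by exact_mod_cast sgn_sq h1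
  have e2 : (a Y₂ : ℂ) * (a Y₂ : ℂ) = 1 := by exact_mod_cast sgn_sq h2
  linear_combination e1 + e2

theorem EE_EE {a a' : IrrCharacter G → ℤ} {Y₁ Y₂ Y₃ Y₄ : IrrCharacter G} (h13 : Y₁ ≠ Y₃) (h14 : Y₁ ≠ Y₄)
    (h23 : Y₂ ≠ Y₃) (h24 : Y₂ ≠ Y₄) : classInner (EE a Y₁ Y₂) (EE a' Y₃ Y₄) = 0 := by
  classical
  conv_lhs => arg 2; rw [EE]
  rw [H18.CharOrtho.inner_sub_right, H18.CharOrtho.inner_smul_right, H18.CharOrtho.inner_smul_right, EE_coef, EE_coef,
    if_neg h13, if_neg h14, if_neg h23, if_neg h24]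
  ring

end H5.TDj
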