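import Cfsg.Agent.Lib.H5.TDj

/-!
# Dihedral blocks: the regular parts of the characters of height zero
-/

set_option autoImplicit false
set_option linter.unusedSectionVars false
set_option linter.unusedVariables false

namespace H5.TDk

open Cfsg H20.Loc H20.GA H80.GA H80.GB H80.GD H80.GE H80.GF H80.GJ H80.FS H80.FS3 H84.RG H18.CharBasic H18.CharOrtho H18.CharInd H84.TrR
open H20.Blk H20.Orth H20.Ind H20.Height H20.Defect H80.BR1 H80.BR2 H19.Second H19.Second3 H81.Section H81.Contrib H84.Star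
open H5.DBa H5.DBd H5.TBa H5.TBb H5.TBe H5.TBf H5.TBg H5.TBh H5.TBi H5.TBj H78.BlkCount H5.TCa
open H5.TBc H5.TBd H5.TDa H5.TDb H5.TDe H5.TDf H5.TDg H5.TDi H5.TDj
open scoped ComplexConjugate

universe u

attribute [local instance 2000] Fintype.ofFinite

variable {M : Ideal AlgInt} [M.IsMaximal] {G : Type u} [Group G] [Finite G]
variable [CharP (ResF M) 2] [Algebra (ZMod 2) (ResF M)] [Algebra.IsAlgebraic (ZMod 2) (ResF M)]
  [IsAlgClosed (ResF M)]

theorem span_rank {ι : Type*} [Fintype ι] {W : Submodule ℂ (G → ℂ)} {v : ι → G → ℂ} (hv : ∀ i, v i ∈ W)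
    (h0 : ∀ i, v i ≠ 0) (h : ∀ i j, i ≠ j → classInner (v i) (v j) = 0) (hle : W ≤ Submodule.span ℂ (Set.range v)) :
    Module.finrank ℂ W = Fintype.card ι := by
  have h1 : W = Submodule.span ℂ (Set.range v) := by
    apply le_antisymm hle
    rw [Submodule.span_le]
    rintro _ ⟨i, rfl⟩
    exact hv i
  rw [h1, finrank_span_eq_card (indep_of_orth h0 h)]

variable {B : Set (IrrCharacter G)} {n : ℕ} {z : G} {b : Set (IrrCharacter (C z))}
    {P : Subgroup (C z)} {e : MonoidAlgebra (ResF M) (C z)} {S : Sylow 2 P} {σ : P}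
    {ψ : IrrCharacter (C z)} {ζ : ℂ}
variable {a₁ a₂ : IrrCharacter G → ℤ} {u : Fin (2 ^ (n - 2) - 2) → IrrCharacter G → ℤ} {X Y₁ Y₂ Y₃ Y₄ : IrrCharacter G}
    {x : Fin (2 ^ (n - 2) - 2) → IrrCharacter G} {h : Loc M B n z b P e S σ ψ} {hζ : IsPrimitiveRoot ζ (2 ^ (n - 1))}

theorem rel_of (hM : IsPModular 2 M) (h : Loc M B n z b P e S σ ψ) {f : P → ℂ} (hf : Good z P f)
    {a : IrrCharacter G → ℤ}
    (ha : ∀ χ : IrrCharacter G, classInner (Th 2 P e (ψ : C z → ℂ) f) (χ : G → ℂ) = a χ) {F : G → ℂ}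
    (hF : IsClassFunction G F) (hr : reg 2 F = F) : ∑ χ : IrrCharacter G, classInner F (χ : G → ℂ) * (a χ : ℂ) = 0 := by
  have h2 : classInner F (Th 2 P e (ψ : C z → ℂ) f) = 0 := inner_reg_zero hr (Th_reg0 hM h hf)
  rw [parseval hF] at h2
  rw [← h2]
  apply Finset.sum_congr rfl
  intro χ _
  rw [ha, map_intCast]

/-- functions on the regular elements perpendicular to the standard one -/
theorem decomp (hM : IsPModular 2 M) (D : Data h hζ a₁ a₂ u X Y₁ Y₂ Y₃ Y₄ x) {c : IrrCharacter G → ℤ}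
    (hc : Std a₁ a₂ u X Y₁ Y₂ Y₃ Y₄ x c) {F : G → ℂ} (hF : F ∈ spn B) (hr : reg 2 F = F)
    (h0 : classInner F (vec c) = 0) :
    classInner F (X : G → ℂ) = 0 ∧ (∀ j, classInner F (x j : G → ℂ) = 0) ∧
    F = ((a₁ Y₁ : ℂ) * classInner F (Y₁ : G → ℂ)) • EE a₁ Y₁ Y₂ + ((a₂ Y₃ : ℂ) * classInner F (Y₃ : G → ℂ)) • EE a₂ Y₃ Y₄ := by
  classical
  have hFc := class_of_mem_spn hF
  have t := D.str.two
  set f : IrrCharacter G → ℂ := fun χ => classInner F (χ : G → ℂ) with hf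
  have r1 := rel_of hM h (good_diff h _ _) D.ha hFc hr
  have r2 := rel_of hM h (good_diff h _ _) D.hb hFc hr
  have ru := fun j => rel_of hM h (good_diff h _ _) (D.hu j) hFc hr
  rw [H5.TBd.sum_three _ t.n1.symm t.n2.symm t.n12 (fun i i1 i2 i3 => by rw [t.z1 i i1 i2 i3]; simp)] at r1
  rw [H5.TBd.sum_three _ t.n3.symm t.n4.symm t.n34 (fun i i1 i2 i3 => by rw [t.z2 i i1 i2 i3]; simp), t.hX'] at r2
  have ru' : ∀ j, f X * (a₁ X : ℂ) + f (x j) * (u j (x j) : ℂ) = 0 := by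
    intro j
    have h1 := ru j
    obtain ⟨k1, -, -, -, -, k6, -, k8⟩ := D.str.ta j
    rw [H5.TBd.sum_two _ k1.symm (fun i i1 i2 => by rw [k8 i i1 i2]; simp), k6] at h1
    exact h1
  rw [parseval hFc] at h0
  have h0' : ∑ χ : IrrCharacter G, f χ * (c χ : ℂ) = 0 := by
    rw [← h0]
    apply Finset.sum_congr rfl
    intro χ _
    rw [vec_coef, map_intCast]
  rw [sum_lst D.str _ (fun i hi => by rw [hc.cz i hi]; simp)] at h0'
  have hx : ∀ j, f (x j) * (c (x j) : ℂ) = -2 * (f X * (a₁ X : ℂ)) := by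
    intro j
    rw [hc.cx j]
    push_cast
    linear_combination 2 * ru' j
  rw [Finset.sum_congr rfl fun j _ => hx j, Finset.sum_const, Finset.card_univ, Fintype.card_fin, nsmul_eq_mul,
    hc.cX, hc.c1, hc.c2, hc.c3, hc.c4] at h0'
  push_cast at h0'
  have e0 : (a₁ X : ℂ) * (a₁ X : ℂ) = 1 := by exact_mod_cast sgn_sq t.hX
  have e1 : (a₁ Y₁ : ℂ) * (a₁ Y₁ : ℂ) = 1 := by exact_mod_cast sgn_sq t.h1
  have e2 : (a₁ Y₂ : ℂ) * (a₁ Y₂ : ℂ) = 1 := by exact_mod_cast sgn_sq t.h2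
  have e3 : (a₂ Y₃ : ℂ) * (a₂ Y₃ : ℂ) = 1 := by exact_mod_cast sgn_sq t.h3
  have e4 : (a₂ Y₄ : ℂ) * (a₂ Y₄ : ℂ) = 1 := by exact_mod_cast sgn_sq t.h4
  have hX0 : f X * (a₁ X : ℂ) = 0 := by
    have h5 : ((4 + 2 * (2 ^ (n - 2) - 2 : ℕ) : ℕ) : ℂ) * (f X * (a₁ X : ℂ)) = 0 := by
      push_cast
      push_cast at h0' r1 r2
      linear_combination -h0' + r1 + r2
    rcases mul_eq_zero.1 h5 with h6 | h6
    · exfalso
      have : 4 + 2 * (2 ^ (n - 2) - 2) = 0 := by exact_mod_cast h6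
      omega
    · exact h6
  have fX : f X = 0 := by
    linear_combination (a₁ X : ℂ) * hX0 - f X * e0
  have fx : ∀ j, f (x j) = 0 := by
    intro j
    have h5 := ru' j
    have e5 : (u j (x j) : ℂ) * (u j (x j) : ℂ) = 1 := by exact_mod_cast sgn_sq (D.str.ta j).2.2.2.2.2.2.1
    rw [fX, zero_mul, zero_add] at h5
    linear_combination (u j (x j) : ℂ) * h5 - f (x j) * e5
  have r1' : f Y₁ * (a₁ Y₁ : ℂ) + f Y₂ * (a₁ Y₂ : ℂ) = 0 := by linear_combination r1 - hX0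
  have r2' : f Y₃ * (a₂ Y₃ : ℂ) + f Y₄ * (a₂ Y₄ : ℂ) = 0 := by linear_combination r2 - hX0
  refine ⟨fX, fx, ?_⟩
  apply eq_of_coef hFc (isClassFunction_add (isClassFunction_smul _ (EE_class _ _ _))
    (isClassFunction_smul _ (EE_class _ _ _)))
  intro χ
  rw [H18.CharOrtho.inner_add_left, H18.CharOrtho.inner_smul_left, H18.CharOrtho.inner_smul_left, EE_coef, EE_coef]
  show f χ = (a₁ Y₁ : ℂ) * f Y₁ * _ + (a₂ Y₃ : ℂ) * f Y₃ * _
  by_cases hχ : InL X Y₁ Y₂ Y₃ Y₄ x χ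
  · rcases hχ with rfl | rfl | rfl | rfl | rfl | ⟨j, rfl⟩
    · rw [if_neg t.n1, if_neg t.n2, if_neg t.n3, if_neg t.n4, fX]; ring
    · rw [if_pos rfl, if_neg t.n12.symm, if_neg t.n13.symm, if_neg t.n14.symm]
      linear_combination -f χ * e1
    · rw [if_neg t.n12, if_pos rfl, if_neg t.n23.symm, if_neg t.n24.symm]
      linear_combination (a₁ χ : ℂ) * r1' - f χ * e2
    · rw [if_neg t.n13, if_neg t.n23, if_pos rfl, if_neg t.n34.symm]
      linear_combination -f χ * e3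
    · rw [if_neg t.n14, if_neg t.n24, if_neg t.n34, if_pos rfl]
      linear_combination (a₂ χ : ℂ) * r2' - f χ * e4
    · obtain ⟨-, k2, k3, k4, k5, -, -, -⟩ := D.str.ta j
      rw [if_neg k2.symm, if_neg k3.symm, if_neg k4.symm, if_neg k5.symm, fx j]; ring
  · have h1 : f χ = 0 := coef_zero hF (fun hc => hχ ((D.mem χ).1 hc))
    unfold InL at hχ
    push Not at hχ
    obtain ⟨k0, k1, k2, k3, k4, k5⟩ := hχ
    rw [if_neg (Ne.symm k1), if_neg (Ne.symm k2), if_neg (Ne.symm k3), if_neg (Ne.symm k4), h1]; ring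

end H5.TDk
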