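import Cfsg.Agent.Lib.H5.TDk

/-!
# Dihedral blocks: the regular parts of the characters of height zero, II
-/

set_option autoImplicit false
set_option linter.unusedSectionVars false
set_option linter.unusedVariables false

namespace H5.TDl

open Cfsg H20.Loc H20.GA H80.GA H80.GB H80.GD H80.GE H80.GF H80.GJ H80.FS H80.FS3 H84.RG H18.CharBasic H18.CharOrtho H18.CharInd H84.TrR
open H20.Blk H20.Orth H20.Ind H20.Height H20.Defect H80.BR1 H80.BR2 H19.Second H19.Second3 H81.Section H81.Contrib H84.Star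
open H5.DBa H5.DBd H5.TBa H5.TBb H5.TBe H5.TBf H5.TBg H5.TBh H5.TBi H5.TBj H78.BlkCount H5.TCa
open H5.TBc H5.TBd H5.TDa H5.TDb H5.TDe H5.TDf H5.TDg H5.TDi H5.TDj H5.TDk
open scoped ComplexConjugate

universe u

attribute [local instance 2000] Fintype.ofFinite

variable {M : Ideal AlgInt} [M.IsMaximal] {G : Type u} [Group G] [Finite G]
variable [CharP (ResF M) 2] [Algebra (ZMod 2) (ResF M)] [Algebra.IsAlgebraic (ZMod 2) (ResF M)]
  [IsAlgClosed (ResF M)]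
variable {B : Set (IrrCharacter G)} {n : ℕ} {z : G} {b : Set (IrrCharacter (C z))}
    {P : Subgroup (C z)} {e : MonoidAlgebra (ResF M) (C z)} {S : Sylow 2 P} {σ : P}
    {ψ : IrrCharacter (C z)} {ζ : ℂ}
variable {a₁ a₂ : IrrCharacter G → ℤ} {u : Fin (2 ^ (n - 2) - 2) → IrrCharacter G → ℤ} {X Y₁ Y₂ Y₃ Y₄ : IrrCharacter G}
    {x : Fin (2 ^ (n - 2) - 2) → IrrCharacter G} {h : Loc M B n z b P e S σ ψ} {hζ : IsPrimitiveRoot ζ (2 ^ (n - 1))}

theorem reg_rel1 (hM : IsPModular 2 M) (D : Data h hζ a₁ a₂ u X Y₁ Y₂ Y₃ Y₄ x) :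
    (a₁ X : ℂ) • reg 2 (X : G → ℂ) + ((a₁ Y₁ : ℂ) • reg 2 (Y₁ : G → ℂ) + (a₁ Y₂ : ℂ) • reg 2 (Y₂ : G → ℂ)) = 0 := by
  classical
  have t := D.str.two
  have r1 := reg_rel hM h (good_diff h _ _) D.ha
  rw [H5.TBd.sum_three _ t.n1.symm t.n2.symm t.n12 (fun i i1 i2 i3 => by rw [t.z1 i i1 i2 i3]; simp)] at r1
  simpa only [pRegularPart_eq] using r1

theorem reg_rel2 (hM : IsPModular 2 M) (D : Data h hζ a₁ a₂ u X Y₁ Y₂ Y₃ Y₄ x) :
    (a₁ X : ℂ) • reg 2 (X : G → ℂ) + ((a₂ Y₃ : ℂ) • reg 2 (Y₃ : G → ℂ) + (a₂ Y₄ : ℂ) • reg 2 (Y₄ : G → ℂ)) = 0 := by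
  classical
  have t := D.str.two
  have r1 := reg_rel hM h (good_diff h _ _) D.hb
  rw [H5.TBd.sum_three _ t.n3.symm t.n4.symm t.n34 (fun i i1 i2 i3 => by rw [t.z2 i i1 i2 i3]; simp), t.hX'] at r1
  simpa only [pRegularPart_eq] using r1

theorem reg_relu (hM : IsPModular 2 M) (D : Data h hζ a₁ a₂ u X Y₁ Y₂ Y₃ Y₄ x) (j : Fin (2 ^ (n - 2) - 2)) :
    (a₁ X : ℂ) • reg 2 (X : G → ℂ) + (u j (x j) : ℂ) • reg 2 (x j : G → ℂ) = 0 := by
  classical
  have r1 := reg_rel hM h (good_diff h _ _) (D.hu j)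
  obtain ⟨k1, -, -, -, -, k6, -, k8⟩ := D.str.ta j
  rw [H5.TBd.sum_two _ k1.symm (fun i i1 i2 => by rw [k8 i i1 i2]; simp), k6] at r1
  simpa only [pRegularPart_eq] using r1

theorem reg_sub' (f g : G → ℂ) : reg 2 (f - g) = reg 2 f - reg 2 g := by
  rw [sub_eq_add_neg, ← neg_one_smul ℂ g, reg_add, reg_smul, neg_one_smul, ← sub_eq_add_neg]

theorem regEE (a : IrrCharacter G → ℤ) (Y Y' : IrrCharacter G) : reg 2 (EE a Y Y') =
    (a Y : ℂ) • reg 2 (Y : G → ℂ) - (a Y' : ℂ) • reg 2 (Y' : G → ℂ) := by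
  unfold EE
  rw [reg_sub', reg_smul, reg_smul]

theorem int_reg (hM : IsPModular 2 M) (D : Data h hζ a₁ a₂ u X Y₁ Y₂ Y₃ Y₄ x) (hdn : blockDefect 2 B = n)
    {c : IrrCharacter G → ℤ} (hcX : vec c = (-(a₁ X : ℂ) * 2 ^ (n - 1)) • reg 2 (X : G → ℂ))
    {a : IrrCharacter G → ℤ} {Y Y' : IrrCharacter G} (hY : Y ∈ B)
    (hrel : (a₁ X : ℂ) • reg 2 (X : G → ℂ) + ((a Y : ℂ) • reg 2 (Y : G → ℂ) + (a Y' : ℂ) • reg 2 (Y' : G → ℂ)) = 0) :
    ∃ k : IrrCharacter G → ℤ, ∀ χ : IrrCharacter G,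
      classInner (((2 : ℂ) ^ (n - 1)) • reg 2 (EE a Y Y')) (χ : G → ℂ) = k χ := by
  obtain ⟨m, hm, -⟩ := H81.RegMat.exists_row hM h.hind.2.1 hY
  rw [hdn] at hm
  have hn := h.ds.hn
  have h7 : (2 : ℂ) ^ n = 2 * 2 ^ (n - 1) := by rw [← pow_succ']; congr 1; omega
  refine ⟨fun χ => a Y * m χ - c χ, fun χ => ?_⟩
  have h1 : ((2 : ℂ) ^ (n - 1)) • reg 2 (EE a Y Y') = (a Y : ℂ) • (((2 : ℂ) ^ n) • reg 2 (Y : G → ℂ)) - vec c := by
    rw [regEE, hcX, h7]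
    have h2 : (a Y' : ℂ) • reg 2 (Y' : G → ℂ) = -((a₁ X : ℂ) • reg 2 (X : G → ℂ)) - (a Y : ℂ) • reg 2 (Y : G → ℂ) := by
      have h3 : (a Y' : ℂ) • reg 2 (Y' : G → ℂ) = ((a₁ X : ℂ) • reg 2 (X : G → ℂ) +
        ((a Y : ℂ) • reg 2 (Y : G → ℂ) + (a Y' : ℂ) • reg 2 (Y' : G → ℂ))) -
        (a₁ X : ℂ) • reg 2 (X : G → ℂ) - (a Y : ℂ) • reg 2 (Y : G → ℂ) := by abel
      rw [h3, hrel]; abel
    rw [h2]
    funext g
    simp only [Pi.smul_apply, Pi.sub_apply, Pi.neg_apply, smul_eq_mul]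
    ring
  rw [h1, H18.CharOrtho.inner_sub_left, H18.CharOrtho.inner_smul_left, H18.CharOrtho.inner_smul_left, vec_coef]
  have h3 := hm χ
  push_cast at h3 ⊢
  rw [h3]

/-- the possible regular parts -/
def RCase (E₁ E₃ : G → ℂ) : Prop :=
  (reg 2 E₁ = 0 ∧ reg 2 E₃ = 0) ∨ (reg 2 E₁ = E₁ ∧ reg 2 E₃ = E₃) ∨
  (∃ ε : ℤ, (ε = 1 ∨ ε = -1) ∧ reg 2 (E₁ + (ε : ℂ) • E₃) = E₁ + (ε : ℂ) • E₃ ∧ reg 2 (E₁ - (ε : ℂ) • E₃) = 0) ∨
  (reg 2 E₁ = E₁ ∧ reg 2 E₃ = 0) ∨ (reg 2 E₁ = 0 ∧ reg 2 E₃ = E₃)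

theorem std_EE1 (D : Data h hζ a₁ a₂ u X Y₁ Y₂ Y₃ Y₄ x) {c : IrrCharacter G → ℤ}
    (hc : Std a₁ a₂ u X Y₁ Y₂ Y₃ Y₄ x c) : classInner (EE a₁ Y₁ Y₂) (vec c) = 0 ∧ classInner (EE a₂ Y₃ Y₄) (vec c) = 0 := by
  have t := D.str.two
  have e1 : (a₁ Y₁ : ℂ) * (a₁ Y₁ : ℂ) = 1 := by exact_mod_cast sgn_sq t.h1
  have e2 : (a₁ Y₂ : ℂ) * (a₁ Y₂ : ℂ) = 1 := by exact_mod_cast sgn_sq t.h2
  have e3 : (a₂ Y₃ : ℂ) * (a₂ Y₃ : ℂ) = 1 := by exact_mod_cast sgn_sq t.h3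
  have e4 : (a₂ Y₄ : ℂ) * (a₂ Y₄ : ℂ) = 1 := by exact_mod_cast sgn_sq t.h4
  have key : ∀ Y : IrrCharacter G, classInner (Y : G → ℂ) (vec c) = c Y := by
    intro Y
    rw [← H18.CharOrtho.inner_conj_symm, vec_coef, map_intCast]
  constructor
  · unfold EE
    rw [H18.CharOrtho.inner_sub_left, H18.CharOrtho.inner_smul_left, H18.CharOrtho.inner_smul_left, key, key,
      hc.c1, hc.c2, e1, e2, sub_self]
  · unfold EE
    rw [H18.CharOrtho.inner_sub_left, H18.CharOrtho.inner_smul_left, H18.CharOrtho.inner_smul_left, key, key,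
      hc.c3, hc.c4, e3, e4, sub_self]

theorem EE_spn (D : Data h hζ a₁ a₂ u X Y₁ Y₂ Y₃ Y₄ x) : EE a₁ Y₁ Y₂ ∈ spn B ∧ EE a₂ Y₃ Y₄ ∈ spn B := by
  have m1 := (D.mem Y₁).2 (Or.inr (Or.inl rfl))
  have m2 := (D.mem Y₂).2 (Or.inr (Or.inr (Or.inl rfl)))
  have m3 := (D.mem Y₃).2 (Or.inr (Or.inr (Or.inr (Or.inl rfl))))
  have m4 := (D.mem Y₄).2 (Or.inr (Or.inr (Or.inr (Or.inr (Or.inl rfl)))))
  constructor
  · exact Submodule.sub_mem _ (Submodule.smul_mem _ _ (Submodule.subset_span ⟨Y₁, m1, rfl⟩))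
      (Submodule.smul_mem _ _ (Submodule.subset_span ⟨Y₂, m2, rfl⟩))
  · exact Submodule.sub_mem _ (Submodule.smul_mem _ _ (Submodule.subset_span ⟨Y₃, m3, rfl⟩))
      (Submodule.smul_mem _ _ (Submodule.subset_span ⟨Y₄, m4, rfl⟩))

/-- classification of the regular parts -/
theorem rcase (hM : IsPModular 2 M) (D : Data h hζ a₁ a₂ u X Y₁ Y₂ Y₃ Y₄ x) (hdn : blockDefect 2 B = n)
    {c : IrrCharacter G → ℤ} (hc : Std a₁ a₂ u X Y₁ Y₂ Y₃ Y₄ x c) (hr : reg 2 (vec c) = vec c)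
    (hcX : vec c = (-(a₁ X : ℂ) * 2 ^ (n - 1)) • reg 2 (X : G → ℂ)) : RCase (EE a₁ Y₁ Y₂) (EE a₂ Y₃ Y₄) := by
  classical
  have hB := h.hind.2.1
  have t := D.str.two
  obtain ⟨s1, s3⟩ := EE_spn D
  obtain ⟨o1, o3⟩ := std_EE1 D hc
  set E₁ := EE a₁ Y₁ Y₂ with hE₁
  set E₃ := EE a₂ Y₃ Y₄ with hE₃
  set κ : ℂ := 2 ^ (n - 1) with hκ
  have hκ0 : κ ≠ 0 := pow_ne_zero _ two_ne_zero
  have hκc : conj κ = κ := by rw [hκ, map_pow, Complex.conj_ofNat]
  have n11 : classInner E₁ E₁ = 2 := EE_self t.n12 t.h1 t.h2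
  have n33 : classInner E₃ E₃ = 2 := EE_self t.n34 t.h3 t.h4
  have n13 : classInner E₁ E₃ = 0 := EE_EE t.n13 t.n14 t.n23 t.n24
  have n31 : classInner E₃ E₁ = 0 := zero_swap' n13
  obtain ⟨k1, hk1⟩ := int_reg hM D hdn hcX (Y1_mem D) (reg_rel1 hM D)
  obtain ⟨k3, hk3⟩ := int_reg hM D hdn hcX (Y3_mem D) (reg_rel2 hM D)
  rw [← hE₁, ← hκ] at hk1
  rw [← hE₃, ← hκ] at hk3
  have rr : ∀ E : G → ℂ, reg 2 (κ • reg 2 E) = κ • reg 2 E := fun E => by rw [reg_smul, H81.Contrib.reg_reg]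
  have ortho : ∀ E : G → ℂ, classInner E (vec c) = 0 → classInner (κ • reg 2 E) (vec c) = 0 := by
    intro E hE
    rw [H18.CharOrtho.inner_smul_left, inner_reg_comm, hr, hE, mul_zero]
  obtain ⟨-, -, d1⟩ := decomp hM D hc (Submodule.smul_mem _ κ (reg_mem_spn hM hB s1)) (rr _) (ortho _ o1)
  obtain ⟨-, -, d3⟩ := decomp hM D hc (Submodule.smul_mem _ κ (reg_mem_spn hM hB s3)) (rr _) (ortho _ o3)
  rw [hk1, hk1, ← hE₁, ← hE₃] at d1
  rw [hk3, hk3, ← hE₁, ← hE₃] at d3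
  set p : ℤ := a₁ Y₁ * k1 Y₁ with hp
  set s : ℤ := a₂ Y₃ * k1 Y₃ with hs
  set s' : ℤ := a₁ Y₁ * k3 Y₁ with hs'
  set p' : ℤ := a₂ Y₃ * k3 Y₃ with hp'
  have d1' : κ • reg 2 E₁ = (p : ℂ) • E₁ + (s : ℂ) • E₃ := by rw [d1, hp, hs]; push_cast; rfl
  have d3' : κ • reg 2 E₃ = (s' : ℂ) • E₁ + (p' : ℂ) • E₃ := by rw [d3, hs', hp']; push_cast; rfl
  have i11 : κ * classInner (reg 2 E₁) E₁ = 2 * p := by
    rw [← H18.CharOrtho.inner_smul_left, d1', H18.CharOrtho.inner_add_left, H18.CharOrtho.inner_smul_left,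
      H18.CharOrtho.inner_smul_left, n11, n31]; ring
  have i13 : κ * classInner (reg 2 E₁) E₃ = 2 * s := by
    rw [← H18.CharOrtho.inner_smul_left, d1', H18.CharOrtho.inner_add_left, H18.CharOrtho.inner_smul_left,
      H18.CharOrtho.inner_smul_left, n13, n33]; ring
  have i31 : κ * classInner (reg 2 E₃) E₁ = 2 * s' := by
    rw [← H18.CharOrtho.inner_smul_left, d3', H18.CharOrtho.inner_add_left, H18.CharOrtho.inner_smul_left,
      H18.CharOrtho.inner_smul_left, n11, n31]; ring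
  have i33 : κ * classInner (reg 2 E₃) E₃ = 2 * p' := by
    rw [← H18.CharOrtho.inner_smul_left, d3', H18.CharOrtho.inner_add_left, H18.CharOrtho.inner_smul_left,
      H18.CharOrtho.inner_smul_left, n13, n33]; ring
  have hss : (s' : ℂ) = s := by
    have h1 : classInner (reg 2 E₃) E₁ = conj (classInner (reg 2 E₁) E₃) := by
      rw [H18.CharOrtho.inner_conj_symm, inner_reg_comm]
    have h2 : conj (κ * classInner (reg 2 E₁) E₃) = κ * classInner (reg 2 E₃) E₁ := by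
      rw [map_mul, hκc, h1]
    rw [i13, i31, map_mul, map_intCast, Complex.conj_ofNat] at h2
    have : (2 : ℂ) ≠ 0 := two_ne_zero
    exact (mul_left_cancel₀ this h2).symm
  have q1 : κ • (κ • reg 2 E₁) = (p : ℂ) • (κ • reg 2 E₁) + (s : ℂ) • (κ • reg 2 E₃) := by
    have h1 : κ • reg 2 E₁ = (p : ℂ) • reg 2 E₁ + (s : ℂ) • reg 2 E₃ := by
      have h2 := congrArg (reg 2) d1'
      rwa [rr, reg_add, reg_smul, reg_smul] at h2
    conv_lhs => rw [h1]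
    rw [smul_add, smul_comm κ, smul_comm κ]
  have q3 : κ • (κ • reg 2 E₃) = (s' : ℂ) • (κ • reg 2 E₁) + (p' : ℂ) • (κ • reg 2 E₃) := by
    have h1 : κ • reg 2 E₃ = (s' : ℂ) • reg 2 E₁ + (p' : ℂ) • reg 2 E₃ := by
      have h2 := congrArg (reg 2) d3'
      rwa [rr, reg_add, reg_smul, reg_smul] at h2
    conv_lhs => rw [h1]
    rw [smul_add, smul_comm κ, smul_comm κ]
  have j11 : κ * p = p * p + s * s := by
    have h1 := congrArg (fun f => classInner f E₁) q1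
    simp only [H18.CharOrtho.inner_add_left, H18.CharOrtho.inner_smul_left, i11, i31, hss] at h1
    linear_combination h1 / 2
  have j13 : κ * s = p * s + s * p' := by
    have h1 := congrArg (fun f => classInner f E₃) q1
    simp only [H18.CharOrtho.inner_add_left, H18.CharOrtho.inner_smul_left, i13, i33] at h1
    linear_combination h1 / 2
  have j33 : κ * p' = s * s + p' * p' := by
    have h1 := congrArg (fun f => classInner f E₃) q3
    simp only [H18.CharOrtho.inner_add_left, H18.CharOrtho.inner_smul_left, i13, i33, hss] at h1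
    linear_combination h1 / 2
  have z11 : (2 : ℤ) ^ (n - 1) * p = p * p + s * s := by rw [hκ] at j11; exact_mod_cast j11
  have z13 : (2 : ℤ) ^ (n - 1) * s = p * s + s * p' := by rw [hκ] at j13; exact_mod_cast j13
  have z33 : (2 : ℤ) ^ (n - 1) * p' = s * s + p' * p' := by rw [hκ] at j33; exact_mod_cast j33
  have ext : ∀ f g : G → ℂ, κ • f = κ • g → f = g := by
    intro f g hfg
    have h1 := congrArg (fun w => κ⁻¹ • w) hfg
    simpa only [smul_smul, inv_mul_cancel₀ hκ0, one_smul] using h1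
  by_cases hs0 : s = 0
  · have hs0' : (s' : ℂ) = 0 := by rw [hss, hs0, Int.cast_zero]
    rw [hs0, Int.cast_zero, zero_smul, add_zero] at d1'
    rw [hs0', zero_smul, zero_add] at d3'
    have c1 : p = 0 ∨ p = 2 ^ (n - 1) := by
      have h1 : p * (p - 2 ^ (n - 1)) = 0 := by rw [hs0] at z11; linear_combination -z11
      rcases mul_eq_zero.1 h1 with h2 | h2
      · exact Or.inl h2
      · exact Or.inr (sub_eq_zero.1 h2)
    have c3 : p' = 0 ∨ p' = 2 ^ (n - 1) := by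
      have h1 : p' * (p' - 2 ^ (n - 1)) = 0 := by rw [hs0] at z33; linear_combination -z33
      rcases mul_eq_zero.1 h1 with h2 | h2
      · exact Or.inl h2
      · exact Or.inr (sub_eq_zero.1 h2)
    have r1 : (p = 0 → reg 2 E₁ = 0) ∧ (p = 2 ^ (n - 1) → reg 2 E₁ = E₁) := by
      constructor
      · intro h0
        apply ext
        rw [d1', h0, Int.cast_zero, zero_smul, smul_zero]
      · intro h0
        apply ext
        rw [d1', h0, hκ]; push_cast; rfl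
    have r3 : (p' = 0 → reg 2 E₃ = 0) ∧ (p' = 2 ^ (n - 1) → reg 2 E₃ = E₃) := by
      constructor
      · intro h0
        apply ext
        rw [d3', h0, Int.cast_zero, zero_smul, smul_zero]
      · intro h0
        apply ext
        rw [d3', h0, hκ]; push_cast; rfl
    rcases c1 with c1 | c1 <;> rcases c3 with c3 | c3
    · exact Or.inl ⟨r1.1 c1, r3.1 c3⟩
    · exact Or.inr (Or.inr (Or.inr (Or.inr ⟨r1.1 c1, r3.2 c3⟩)))
    · exact Or.inr (Or.inr (Or.inr (Or.inl ⟨r1.2 c1, r3.1 c3⟩)))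
    · exact Or.inr (Or.inl ⟨r1.2 c1, r3.2 c3⟩)
  · have hsum : p + p' = 2 ^ (n - 1) := by
      apply mul_left_cancel₀ hs0
      linear_combination -z13
    have hprod : p * p' = s * s := by linear_combination z11 + p * hsum
    have hpp : p = p' := by
      rcases nt (n - 1) p p' s hsum hprod with h1 | h1 | h1
      · exfalso
        rw [h1, zero_mul] at hprod
        exact hs0 (mul_self_eq_zero.1 hprod.symm)
      · exfalso
        rw [h1, mul_zero] at hprod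
        exact hs0 (mul_self_eq_zero.1 hprod.symm)
      · exact h1
    have hsp : s = p ∨ s = -p := by
      have h1 : (s - p) * (s + p) = 0 := by rw [← hpp] at hprod; linear_combination -hprod
      rcases mul_eq_zero.1 h1 with h2 | h2
      · left; linarith
      · right; linarith
    right; right; left
    obtain ⟨ε, hε, hsε⟩ : ∃ ε : ℤ, (ε = 1 ∨ ε = -1) ∧ s = ε * p := by
      rcases hsp with h1 | h1
      · exact ⟨1, Or.inl rfl, by rw [h1]; ring⟩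
      · exact ⟨-1, Or.inr rfl, by rw [h1]; ring⟩
    have hεε : (ε : ℂ) * (ε : ℂ) = 1 := by exact_mod_cast sgn_sq hε
    have h2p : (2 : ℂ) * p = κ := by
      have h1 : 2 * p = 2 ^ (n - 1) := by rw [← hsum, ← hpp]; ring
      have h2 : ((2 * p : ℤ) : ℂ) = ((2 ^ (n - 1) : ℤ) : ℂ) := by rw [h1]
      push_cast at h2
      rw [h2]
    have es : (s : ℂ) = ε * p := by rw [hsε]; push_cast; rfl
    have es' : (s' : ℂ) = ε * p := by rw [hss, es]
    have ep' : (p' : ℂ) = p := by rw [hpp]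
    refine ⟨ε, hε, ?_, ?_⟩
    · apply ext
      rw [reg_add, reg_smul, smul_add, smul_comm κ, d1', d3', es, es', ep', ← h2p]
      funext g
      simp only [Pi.smul_apply, Pi.add_apply, smul_eq_mul]
      linear_combination (p : ℂ) * E₁ g * hεε
    · apply ext
      rw [reg_sub', reg_smul, smul_sub, smul_comm κ, d1', d3', es, es', ep', smul_zero]
      funext g
      simp only [Pi.smul_apply, Pi.add_apply, Pi.sub_apply, Pi.zero_apply, smul_eq_mul]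
      linear_combination -(p : ℂ) * E₁ g * hεε

end H5.TDl
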