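import Cfsg.Agent.Lib.H5.TDl

/-!
# Dihedral blocks: the rank in terms of the regular parts
-/

set_option autoImplicit false
set_option linter.unusedSectionVars false
set_option linter.unusedVariables false

namespace H5.TDm

open Cfsg H20.Loc H20.GA H80.GA H80.GB H80.GD H80.GE H80.GF H80.GJ H80.FS H80.FS3 H84.RG H18.CharBasic H18.CharOrtho H18.CharInd H84.TrR
open H20.Blk H20.Orth H20.Ind H20.Height H20.Defect H80.BR1 H80.BR2 H19.Second H19.Second3 H81.Section H81.Contrib H84.Star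
open H5.DBa H5.DBd H5.TBa H5.TBb H5.TBe H5.TBf H5.TBg H5.TBh H5.TBi H5.TBj H78.BlkCount H5.TCa
open H5.TBc H5.TBd H5.TDa H5.TDb H5.TDe H5.TDf H5.TDg H5.TDi H5.TDj H5.TDk H5.TDl
open scoped ComplexConjugate

universe u

attribute [local instance 2000] Fintype.ofFinite

variable {M : Ideal AlgInt} [M.IsMaximal] {G : Type u} [Group G] [Finite G]
variable [CharP (ResF M) 2] [Algebra (ZMod 2) (ResF M)] [Algebra.IsAlgebraic (ZMod 2) (ResF M)]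
  [IsAlgClosed (ResF M)]
variable {B : Set (IrrCharacter G)} {n : ℕ} {z : G} {b : Set (IrrCharacter (C z))}
    {P : Subgroup (C z)} {e : MonoidAlgebra (ResF M) (C z)} {S : Sylow 2 P} {σ : P}
    {ψ : IrrCharacter (C z)} {ζ : ℂ}
variable {a₁ a₂ : IrrCharacter G → ℤ} {u : Fin (2 ^ (n - 2) - 2) → IrrCharacter G → ℤ} {X Y₁ Y₂ Y₃ Y₄ : IrrCharacter G}
    {x : Fin (2 ^ (n - 2) - 2) → IrrCharacter G} {h : Loc M B n z b P e S σ ψ} {hζ : IsPrimitiveRoot ζ (2 ^ (n - 1))}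

theorem span_rank1 {W : Submodule ℂ (G → ℂ)} {v : G → ℂ} (hv : v ∈ W) (h0 : v ≠ 0)
    (hle : W ≤ Submodule.span ℂ {v}) : Module.finrank ℂ W = 1 := by
  have h1 : W = Submodule.span ℂ {v} := le_antisymm hle (by
    rw [Submodule.span_le, Set.singleton_subset_iff]; exact hv)
  rw [h1]
  exact finrank_span_singleton h0

theorem span_rank2 {W : Submodule ℂ (G → ℂ)} {v w : G → ℂ} (hv : v ∈ W) (hw : w ∈ W) (h0 : v ≠ 0) (h1 : w ≠ 0)
    (ho : classInner v w = 0) (hle : W ≤ Submodule.span ℂ {v, w}) : Module.finrank ℂ W = 2 := by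
  have hr : Set.range ![v, w] = {v, w} := by
    ext f
    simp only [Set.mem_range, Set.mem_insert_iff, Set.mem_singleton_iff]
    constructor
    · rintro ⟨⟨i, hi⟩, rfl⟩
      interval_cases i
      · exact Or.inl rfl
      · exact Or.inr rfl
    · rintro (rfl | rfl)
      · exact ⟨0, rfl⟩
      · exact ⟨1, rfl⟩
  have := span_rank (W := W) (v := ![v, w])
    (fun ⟨i, hi⟩ => by interval_cases i; exacts [hv, hw])
    (fun ⟨i, hi⟩ => by interval_cases i; exacts [h0, h1])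
    (fun ⟨i, hi⟩ ⟨j, hj⟩ hij => by
      interval_cases i <;> interval_cases j <;>
        first | exact absurd rfl hij | exact ho | exact zero_swap' ho)
    (by rw [hr]; exact hle)
  simpa using this

theorem span_rank3 {W : Submodule ℂ (G → ℂ)} {v w t : G → ℂ} (hv : v ∈ W) (hw : w ∈ W) (ht : t ∈ W) (h0 : v ≠ 0)
    (h1 : w ≠ 0) (h2 : t ≠ 0) (ho : classInner v w = 0) (ho' : classInner v t = 0) (ho'' : classInner w t = 0)
    (hle : W ≤ Submodule.span ℂ {v, w, t}) : Module.finrank ℂ W = 3 := by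
  have hr : Set.range ![v, w, t] = {v, w, t} := by
    ext f
    simp only [Set.mem_range, Set.mem_insert_iff, Set.mem_singleton_iff]
    constructor
    · rintro ⟨⟨i, hi⟩, rfl⟩
      interval_cases i
      · exact Or.inl rfl
      · exact Or.inr (Or.inl rfl)
      · exact Or.inr (Or.inr rfl)
    · rintro (rfl | rfl | rfl)
      · exact ⟨0, rfl⟩
      · exact ⟨1, rfl⟩
      · exact ⟨2, rfl⟩
  have := span_rank (W := W) (v := ![v, w, t])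
    (fun ⟨i, hi⟩ => by interval_cases i; exacts [hv, hw, ht])
    (fun ⟨i, hi⟩ => by interval_cases i; exacts [h0, h1, h2])
    (fun ⟨i, hi⟩ ⟨j, hj⟩ hij => by
      interval_cases i <;> interval_cases j <;>
        first | exact absurd rfl hij | exact ho | exact zero_swap' ho | exact ho' | exact zero_swap' ho' |
          exact ho'' | exact zero_swap' ho'')
    (by rw [hr]; exact hle)
  simpa using this

theorem smul_mem_of_sgn {W : Submodule ℂ (G → ℂ)} {a : ℤ} (ha : a = 1 ∨ a = -1) {f : G → ℂ} (h : (a : ℂ) • f ∈ W) :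
    f ∈ W := by
  rcases ha with rfl | rfl
  · rwa [Int.cast_one, one_smul] at h
  · rw [Int.cast_neg, Int.cast_one, neg_smul, one_smul] at h
    exact (Submodule.neg_mem_iff _).1 h

theorem Vb_le3 (hM : IsPModular 2 M) (D : Data h hζ a₁ a₂ u X Y₁ Y₂ Y₃ Y₄ x)
    {c : IrrCharacter G → ℤ} (hcX : vec c = (-(a₁ X : ℂ) * 2 ^ (n - 1)) • reg 2 (X : G → ℂ))
    {W : Submodule ℂ (G → ℂ)} (w0 : vec c ∈ W) (w1 : reg 2 (EE a₁ Y₁ Y₂) ∈ W) (w3 : reg 2 (EE a₂ Y₃ Y₄) ∈ W) :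
    Vb 2 B ≤ W := by
  have t := D.str.two
  have hX : reg 2 (X : G → ℂ) ∈ W := by
    have h1 : (-(a₁ X : ℂ) * 2 ^ (n - 1)) ≠ 0 := by
      apply mul_ne_zero _ (pow_ne_zero _ two_ne_zero)
      rw [neg_ne_zero]
      rcases t.hX with h2 | h2 <;> rw [h2] <;> norm_num
    have h2 : reg 2 (X : G → ℂ) = (-(a₁ X : ℂ) * 2 ^ (n - 1))⁻¹ • vec c := by
      rw [hcX, smul_smul, inv_mul_cancel₀ h1, one_smul]
    rw [h2]
    exact W.smul_mem _ w0
  have pair : ∀ (a : IrrCharacter G → ℤ) (Y Y' : IrrCharacter G), (a Y = 1 ∨ a Y = -1) → (a Y' = 1 ∨ a Y' = -1) →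
      (a₁ X : ℂ) • reg 2 (X : G → ℂ) + ((a Y : ℂ) • reg 2 (Y : G → ℂ) + (a Y' : ℂ) • reg 2 (Y' : G → ℂ)) = 0 →
      reg 2 (EE a Y Y') ∈ W → reg 2 (Y : G → ℂ) ∈ W ∧ reg 2 (Y' : G → ℂ) ∈ W := by
    intro a Y Y' hY hY' hrel hE
    rw [regEE] at hE
    have k1 : (a Y : ℂ) • reg 2 (Y : G → ℂ) + (a Y' : ℂ) • reg 2 (Y' : G → ℂ) ∈ W := by
      have h1 : (a Y : ℂ) • reg 2 (Y : G → ℂ) + (a Y' : ℂ) • reg 2 (Y' : G → ℂ) = -((a₁ X : ℂ) • reg 2 (X : G → ℂ)) := by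
        rw [eq_neg_iff_add_eq_zero, add_comm]; exact hrel
      rw [h1]
      exact W.neg_mem (W.smul_mem _ hX)
    constructor
    · apply smul_mem_of_sgn hY
      have h2 := W.smul_mem (2 : ℂ)⁻¹ (W.add_mem k1 hE)
      have h3 : (2 : ℂ)⁻¹ • ((a Y : ℂ) • reg 2 (Y : G → ℂ) + (a Y' : ℂ) • reg 2 (Y' : G → ℂ) +
          ((a Y : ℂ) • reg 2 (Y : G → ℂ) - (a Y' : ℂ) • reg 2 (Y' : G → ℂ))) = (a Y : ℂ) • reg 2 (Y : G → ℂ) := by
        funext g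
        simp only [Pi.smul_apply, Pi.add_apply, Pi.sub_apply, smul_eq_mul]
        ring
      rwa [h3] at h2
    · apply smul_mem_of_sgn hY'
      have h2 := W.smul_mem (2 : ℂ)⁻¹ (W.sub_mem k1 hE)
      have h3 : (2 : ℂ)⁻¹ • ((a Y : ℂ) • reg 2 (Y : G → ℂ) + (a Y' : ℂ) • reg 2 (Y' : G → ℂ) -
          ((a Y : ℂ) • reg 2 (Y : G → ℂ) - (a Y' : ℂ) • reg 2 (Y' : G → ℂ))) = (a Y' : ℂ) • reg 2 (Y' : G → ℂ) := by
        funext g
        simp only [Pi.smul_apply, Pi.add_apply, Pi.sub_apply, smul_eq_mul]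
        ring
      rwa [h3] at h2
  obtain ⟨y1, y2⟩ := pair a₁ Y₁ Y₂ t.h1 t.h2 (reg_rel1 hM D) w1
  obtain ⟨y3, y4⟩ := pair a₂ Y₃ Y₄ t.h3 t.h4 (reg_rel2 hM D) w3
  rw [Submodule.span_le]
  rintro _ ⟨χ, hχ, rfl⟩
  show pRegularPart 2 (χ : G → ℂ) ∈ W
  rw [pRegularPart_eq]
  rcases (D.mem χ).1 hχ with rfl | rfl | rfl | rfl | rfl | ⟨j, rfl⟩
  · exact hX
  · exact y1
  · exact y2
  · exact y3
  · exact y4
  · apply smul_mem_of_sgn (D.str.ta j).2.2.2.2.2.2.1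
    have h1 := reg_relu hM D j
    have h2 : (u j (x j) : ℂ) • reg 2 (x j : G → ℂ) = -((a₁ X : ℂ) • reg 2 (X : G → ℂ)) := by
      rw [eq_neg_iff_add_eq_zero, add_comm]; exact h1
    rw [h2]
    exact W.neg_mem (W.smul_mem _ hX)

theorem reg_mem_Vb (hM : IsPModular 2 M) (hB : IsPBlock M B) {f : G → ℂ} (hf : f ∈ spn B) : reg 2 f ∈ Vb 2 B := by
  have h1 := reg_proj_mem (p := 2) B f
  rwa [proj_of_mem_spn hf] at h1

/-- the possibilities with the ranks -/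
def RCase' (E₁ E₃ : G → ℂ) (l : ℕ) : Prop :=
  (reg 2 E₁ = 0 ∧ reg 2 E₃ = 0 ∧ l = 1) ∨ (reg 2 E₁ = E₁ ∧ reg 2 E₃ = E₃ ∧ l = 3) ∨
  (∃ ε : ℤ, (ε = 1 ∨ ε = -1) ∧ reg 2 (E₁ + (ε : ℂ) • E₃) = E₁ + (ε : ℂ) • E₃ ∧ reg 2 (E₁ - (ε : ℂ) • E₃) = 0 ∧
    l = 2) ∨
  (reg 2 E₁ = E₁ ∧ reg 2 E₃ = 0 ∧ l = 2) ∨ (reg 2 E₁ = 0 ∧ reg 2 E₃ = E₃ ∧ l = 2)

theorem rcase' (hM : IsPModular 2 M) (D : Data h hζ a₁ a₂ u X Y₁ Y₂ Y₃ Y₄ x) (hdn : blockDefect 2 B = n)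
    {c : IrrCharacter G → ℤ} (hc : Std a₁ a₂ u X Y₁ Y₂ Y₃ Y₄ x c) (hr : reg 2 (vec c) = vec c)
    (hcX : vec c = (-(a₁ X : ℂ) * 2 ^ (n - 1)) • reg 2 (X : G → ℂ)) :
    RCase' (EE a₁ Y₁ Y₂) (EE a₂ Y₃ Y₄) (blockRank 2 B) := by
  classical
  have hB := h.hind.2.1
  have t := D.str.two
  obtain ⟨s1, s3⟩ := EE_spn D
  obtain ⟨o1, o3⟩ := std_EE1 D hc
  have hcl : vec c ∈ spn B := vec_spn fun χ hχ => hc.cz χ (fun hi => hχ ((D.mem χ).2 hi))
  have hVc : vec c ∈ Vb 2 B := by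
    have := reg_mem_Vb hM hB hcl
    rwa [hr] at this
  have hrk : blockRank 2 B = Module.finrank ℂ (Vb 2 B) := rfl
  have nc : vec c ≠ 0 := by
    intro h0
    have h1 := vec_coef c X
    rw [h0, H18.CharOrtho.inner_zero_left, hc.cX] at h1
    rcases t.hX with h2 | h2 <;> rw [h2] at h1 <;> norm_num at h1
  have n11 : classInner (EE a₁ Y₁ Y₂) (EE a₁ Y₁ Y₂) = 2 := EE_self t.n12 t.h1 t.h2
  have n33 : classInner (EE a₂ Y₃ Y₄) (EE a₂ Y₃ Y₄) = 2 := EE_self t.n34 t.h3 t.h4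
  have n13 : classInner (EE a₁ Y₁ Y₂) (EE a₂ Y₃ Y₄) = 0 := EE_EE t.n13 t.n14 t.n23 t.n24
  have n31 : classInner (EE a₂ Y₃ Y₄) (EE a₁ Y₁ Y₂) = 0 := zero_swap' n13
  have e10 : EE a₁ Y₁ Y₂ ≠ 0 := by
    intro h0; rw [h0, H18.CharOrtho.inner_zero_left] at n11; norm_num at n11
  have e30 : EE a₂ Y₃ Y₄ ≠ 0 := by
    intro h0; rw [h0, H18.CharOrtho.inner_zero_left] at n33; norm_num at n33
  have sp1 : ∀ v w : G → ℂ, v ∈ Submodule.span ℂ ({v, w} : Set (G → ℂ)) := fun v w => Submodule.subset_span (by simp)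
  have sp2 : ∀ v w : G → ℂ, w ∈ Submodule.span ℂ ({v, w} : Set (G → ℂ)) := fun v w => Submodule.subset_span (by simp)
  rcases rcase hM D hdn hc hr hcX with ⟨h1, h3⟩ | ⟨h1, h3⟩ | ⟨ε, hε, h1, h3⟩ | ⟨h1, h3⟩ | ⟨h1, h3⟩
  · left
    refine ⟨h1, h3, ?_⟩
    rw [hrk]
    exact span_rank1 hVc nc (Vb_le3 hM D hcX (Submodule.mem_span_singleton_self _)
      (by rw [h1]; exact Submodule.zero_mem _) (by rw [h3]; exact Submodule.zero_mem _))
  · right; left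
    refine ⟨h1, h3, ?_⟩
    rw [hrk]
    have m1 : EE a₁ Y₁ Y₂ ∈ Vb 2 B := by have := reg_mem_Vb hM hB s1; rwa [h1] at this
    have m3 : EE a₂ Y₃ Y₄ ∈ Vb 2 B := by have := reg_mem_Vb hM hB s3; rwa [h3] at this
    exact span_rank3 hVc m1 m3 nc e10 e30 (zero_swap' o1) (zero_swap' o3) n13 (Vb_le3 hM D hcX
      (Submodule.subset_span (by simp)) (by rw [h1]; exact Submodule.subset_span (by simp))
      (by rw [h3]; exact Submodule.subset_span (by simp)))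
  · right; right; left
    refine ⟨ε, hε, h1, h3, ?_⟩
    rw [hrk]
    set A := EE a₁ Y₁ Y₂ + (ε : ℂ) • EE a₂ Y₃ Y₄ with hA
    have hεε : (ε : ℂ) * (ε : ℂ) = 1 := by exact_mod_cast sgn_sq hε
    have mA : A ∈ Vb 2 B := by
      have := reg_mem_Vb hM hB (Submodule.add_mem _ s1 (Submodule.smul_mem _ (ε : ℂ) s3))
      rwa [← hA, h1] at this
    have oA : classInner A (vec c) = 0 := by
      rw [hA, H18.CharOrtho.inner_add_left, H18.CharOrtho.inner_smul_left, o1, o3]; ring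
    have nA : A ≠ 0 := by
      intro h0
      have h5 : classInner A (EE a₁ Y₁ Y₂) = 2 := by
        rw [hA, H18.CharOrtho.inner_add_left, H18.CharOrtho.inner_smul_left, n11, n31]; ring
      rw [h0, H18.CharOrtho.inner_zero_left] at h5; norm_num at h5
    have hr1 : reg 2 (EE a₁ Y₁ Y₂) = (2 : ℂ)⁻¹ • A := by
      have k1 : reg 2 (EE a₁ Y₁ Y₂) + (ε : ℂ) • reg 2 (EE a₂ Y₃ Y₄) = A := by rw [← reg_smul, ← reg_add, ← hA, h1]
      have k2 : reg 2 (EE a₁ Y₁ Y₂) - (ε : ℂ) • reg 2 (EE a₂ Y₃ Y₄) = 0 := by rw [← reg_smul, ← reg_sub', h3]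
      rw [sub_eq_zero] at k2
      rw [← k2] at k1
      rw [← k1, ← two_smul ℂ, smul_smul]; norm_num
    have hr3 : reg 2 (EE a₂ Y₃ Y₄) = ((ε : ℂ) * (2 : ℂ)⁻¹) • A := by
      have k2 : reg 2 (EE a₁ Y₁ Y₂) - (ε : ℂ) • reg 2 (EE a₂ Y₃ Y₄) = 0 := by rw [← reg_smul, ← reg_sub', h3]
      rw [sub_eq_zero] at k2
      rw [← smul_smul, ← hr1, k2, smul_smul, hεε, one_smul]
    exact span_rank2 hVc mA nc nA (zero_swap' oA) (Vb_le3 hM D hcX (sp1 _ _)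
      (by rw [hr1]; exact Submodule.smul_mem _ _ (sp2 _ _))
      (by rw [hr3]; exact Submodule.smul_mem _ _ (sp2 _ _)))
  · right; right; right; left
    refine ⟨h1, h3, ?_⟩
    rw [hrk]
    have m1 : EE a₁ Y₁ Y₂ ∈ Vb 2 B := by have := reg_mem_Vb hM hB s1; rwa [h1] at this
    exact span_rank2 hVc m1 nc e10 (zero_swap' o1) (Vb_le3 hM D hcX (sp1 _ _)
      (by rw [h1]; exact sp2 _ _) (by rw [h3]; exact Submodule.zero_mem _))
  · right; right; right; right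
    refine ⟨h1, h3, ?_⟩
    rw [hrk]
    have m3 : EE a₂ Y₃ Y₄ ∈ Vb 2 B := by have := reg_mem_Vb hM hB s3; rwa [h3] at this
    exact span_rank2 hVc m3 nc e30 (zero_swap' o3) (Vb_le3 hM D hcX (sp1 _ _)
      (by rw [h1]; exact Submodule.zero_mem _) (by rw [h3]; exact sp2 _ _))

end H5.TDm
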