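import Cfsg.Agent.Lib.H5.TDm
import Cfsg.Agent.Lib.H5.TCb
import Cfsg.Agent.Lib.H79.CentQ

/-!
# Lifting functions on the regular elements from a central quotient
-/

set_option autoImplicit false
set_option linter.unusedSectionVars false
set_option linter.unusedVariables false

namespace H5.TEa

open Cfsg H20.Loc H20.GA H80.GA H80.GB H80.GD H80.GE H80.GF H80.GJ H80.FS H80.FS3 H84.RG H18.CharBasic H18.CharOrtho H18.CharInd H84.TrR
open H20.Blk H20.Orth H20.Ind H20.Height H20.Defect H80.BR1 H80.BR2 H19.Second H19.Second3 H81.Section H81.Contrib H84.Star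
open H5.DBa H5.DBd H5.TBa H5.TBb H5.TBe H5.TBf H5.TBg H5.TBh H5.TBi H5.TBj H78.BlkCount H5.TCa
open H5.TBc H5.TBd H5.TDa H5.TDb H5.TDe H5.TDf H5.TDg H5.TDi H5.TDj H5.TDk H5.TDl H5.TDm H20.NormQ H79.CentQ
open scoped ComplexConjugate

universe u

attribute [local instance 2000] Fintype.ofFinite

variable {G : Type u} [Group G] [Finite G] (Q : Subgroup G) [Q.Normal]

/-- lifting of functions on the regular elements -/
noncomputable def LL (w : G ⧸ Q → ℂ) : G → ℂ := (2 : ℂ) • L Q 2 w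

variable {Q}

theorem hC (hQc : Q ≤ Subgroup.center G) : ∀ x : G, ¬ 2 ∣ orderOf x → x ∈ Subgroup.centralizer (Q : Set G) := by
  intro x _
  rw [Subgroup.mem_centralizer_iff]
  intro y hy
  exact (Subgroup.mem_center_iff.1 (hQc hy) x).symm

theorem hQ2 (hQ : Nat.card Q = 2) : IsPGroup 2 Q := IsPGroup.of_card (n := 1) (by rw [hQ, pow_one])

theorem L_rr (w : G ⧸ Q → ℂ) : reg 2 (L Q 2 w) = L Q 2 w := by
  rw [H79.CentQ.L_apply, H81.Contrib.reg_reg]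

theorem LL_reg (w : G ⧸ Q → ℂ) : reg 2 (LL Q w) = LL Q w := by
  unfold LL
  rw [reg_smul, L_rr]

theorem cl_mk {w : G ⧸ Q → ℂ} (hw : IsClassFunction (G ⧸ Q) w) : IsClassFunction G (fun g : G => w (g : G ⧸ Q)) :=
  fun g h => hw (g : G ⧸ Q) (h : G ⧸ Q)

theorem LL_class {w : G ⧸ Q → ℂ} (hw : IsClassFunction (G ⧸ Q) w) : IsClassFunction G (LL Q w) := by
  unfold LL
  rw [H79.CentQ.L_apply]
  exact isClassFunction_smul _ (reg_class (cl_mk hw))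

theorem LL_add (w v : G ⧸ Q → ℂ) : LL Q (w + v) = LL Q w + LL Q v := by
  unfold LL; rw [map_add, smul_add]

theorem LL_smul (c : ℂ) (w : G ⧸ Q → ℂ) : LL Q (c • w) = c • LL Q w := by
  unfold LL; rw [map_smul, smul_comm]

theorem LL_gen (hQ : Nat.card Q = 2) (hQc : Q ≤ Subgroup.center G) {w : G ⧸ Q → ℂ}
    (hw : IsGeneralizedCharacter (G ⧸ Q) w) (hr : reg 2 w = w) : IsGeneralizedCharacter G (LL Q w) := by
  haveI : Fact (Nat.Prime 2) := ⟨Nat.prime_two⟩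
  refine gen_of_int (LL_class (isClassFunction_of_isGen hw)) fun χ => ?_
  obtain ⟨n, hn⟩ := inner_int Q (hQ2 hQ) hQc hw hr (isCharacter_of_isIrr χ.2)
  refine ⟨n, ?_⟩
  unfold LL
  rw [H18.CharOrtho.inner_smul_left, ← hn, hQ]
  norm_num

theorem LL_infl (hQ : Nat.card Q = 2) (hQc : Q ≤ Subgroup.center G) {w : G ⧸ Q → ℂ} (hr : reg 2 w = w)
    (v : G ⧸ Q → ℂ) : classInner (LL Q w) (fun g : G => v (g : G ⧸ Q)) = classInner w v := by
  haveI : Fact (Nat.Prime 2) := ⟨Nat.prime_two⟩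
  have h1 := inner_L Q (hQ2 hQ) (hC hQc) w v
  unfold LL
  rw [H18.CharOrtho.inner_smul_left, ← hr, ← h1, hr, hQ]
  norm_num

theorem LL_inner (hQ : Nat.card Q = 2) (hQc : Q ≤ Subgroup.center G) {w : G ⧸ Q → ℂ} (hr : reg 2 w = w)
    (v : G ⧸ Q → ℂ) : classInner (LL Q w) (LL Q v) = 2 * classInner w v := by
  rw [← LL_infl hQ hQc hr v]
  conv_lhs => arg 2; unfold LL
  rw [H18.CharOrtho.inner_smul_right, H79.CentQ.L_apply, ← inner_reg_comm, LL_reg, Complex.conj_ofNat]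

theorem infl_spn {b : Set (IrrCharacter G)} {b' : Set (IrrCharacter (G ⧸ Q))} (hm : ∀ ψ ∈ b', infl Q ψ ∈ b)
    {w : G ⧸ Q → ℂ} (hw : w ∈ spn b') : (fun g : G => w (g : G ⧸ Q)) ∈ spn b := by
  have h : spn b' ≤ (spn b).comap
      ({ toFun := fun w g => w (g : G ⧸ Q)
         map_add' := fun _ _ => rfl
         map_smul' := fun _ _ => rfl } : (G ⧸ Q → ℂ) →ₗ[ℂ] (G → ℂ)) := by
    unfold spn
    rw [Submodule.span_le]
    rintro _ ⟨ψ, hψ, rfl⟩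
    exact Submodule.subset_span ⟨infl Q ψ, hm ψ hψ, rfl⟩
  exact h hw

theorem infl_gen {w : G ⧸ Q → ℂ} (hη : IsGeneralizedCharacter (G ⧸ Q) w) :
    IsGeneralizedCharacter G (fun g : G => w (g : G ⧸ Q)) := by
  obtain ⟨a, b, ha, hb, hab⟩ := hη
  refine ⟨fun g => a (g : G ⧸ Q), fun g => b (g : G ⧸ Q),
    isCharacter_comp (QuotientGroup.mk' Q) ha, isCharacter_comp (QuotientGroup.mk' Q) hb, ?_⟩
  rw [hab]
  rfl

theorem L_infl (ψ : IrrCharacter (G ⧸ Q)) : L Q 2 (reg 2 (ψ : G ⧸ Q → ℂ)) = reg 2 (infl Q ψ : G → ℂ) := by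
  rw [L_reg]; rfl

theorem LL_mem {b : Set (IrrCharacter G)} {b' : Set (IrrCharacter (G ⧸ Q))} (hm : ∀ ψ ∈ b', infl Q ψ ∈ b)
    {w : G ⧸ Q → ℂ} (hw : w ∈ Vb 2 b') : LL Q w ∈ Vb 2 b := by
  have h : Vb 2 b' ≤ (Vb 2 b).comap (L Q 2) := by
    rw [Vb, Submodule.span_le]
    rintro _ ⟨ψ, hψ, rfl⟩
    change L Q 2 (pRegularPart 2 (ψ : G ⧸ Q → ℂ)) ∈ Vb 2 b
    rw [H81.Contrib.pRegularPart_eq, L_infl, ← H81.Contrib.pRegularPart_eq]
    exact Submodule.subset_span ⟨infl Q ψ, hm ψ hψ, rfl⟩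
  exact Submodule.smul_mem _ _ (h hw)

end H5.TEa
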