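import Cfsg.Agent.Lib.H5.TEa

/-!
# The functions above a central involution
-/

set_option autoImplicit false
set_option linter.unusedSectionVars false
set_option linter.unusedVariables false

namespace H5.TEb

open Cfsg H20.Loc H20.GA H80.GA H80.GB H80.GD H80.GE H80.GF H80.GJ H80.FS H80.FS3 H84.RG H18.CharBasic H18.CharOrtho H18.CharInd H84.TrR
open H20.Blk H20.Orth H20.Ind H20.Height H20.Defect H80.BR1 H80.BR2 H19.Second H19.Second3 H81.Section H81.Contrib H84.Star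
open H5.DBa H5.DBd H5.TBa H5.TBb H5.TBe H5.TBf H5.TBg H5.TBh H5.TBi H5.TBj H78.BlkCount H5.TCa
open H5.TBc H5.TBd H5.TDa H5.TDb H5.TDe H5.TDf H5.TDg H5.TDi H5.TDj H5.TDk H5.TDl H5.TDm H20.NormQ H5.TEa
open scoped ComplexConjugate

universe u

attribute [local instance 2000] Fintype.ofFinite

variable {M : Ideal AlgInt} [M.IsMaximal] {K : Type u} [Group K] [Finite K]
variable [CharP (ResF M) 2] [Algebra (ZMod 2) (ResF M)] [Algebra.IsAlgebraic (ZMod 2) (ResF M)]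
  [IsAlgClosed (ResF M)]

/-- even functions of the block on the elements above `w` -/
structure EvF (b : Set (IrrCharacter K)) (w : K) (f : K → ℂ) : Prop where
  mem : f ∈ spn b
  sup : ∀ c, f c ≠ 0 → w ∈ Subgroup.zpowers c ∧ 2 ∣ orderOf (w * c)
  inv : ∀ c, f (w * c) = f c

/-- the translate of a function -/
def sh (w : K) (f : K → ℂ) : K → ℂ := fun c => f (w * c)

/-- the functions at the central involution -/
structure Pk (b : Set (IrrCharacter K)) (w : K) (k : ℕ) (C Ea Eb : K → ℂ) (Ec : Fin (2 ^ (k - 2) - 2) → K → ℂ) :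
    Prop where
  cV : C ∈ Vb 2 b
  cg : IsGeneralizedCharacter K C
  cn : classInner C C = 2 * 2 ^ k
  ea : EvF b w Ea
  eb : EvF b w Eb
  ec : ∀ j, EvF b w (Ec j)
  ga : IsGeneralizedCharacter K Ea
  gb : IsGeneralizedCharacter K Eb
  gc : ∀ j, IsGeneralizedCharacter K (Ec j)
  aa : classInner Ea Ea = 3
  bb : classInner Eb Eb = 3
  ab : classInner Ea Eb = 1
  ac : ∀ j, classInner Ea (Ec j) = 1
  bc : ∀ j, classInner Eb (Ec j) = 1
  cc : ∀ i j, classInner (Ec i) (Ec j) = if i = j then 2 else 1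

/-- support of the induced functions -/
theorem Th_sup {G : Type u} [Group G] [Finite G] {z : G} {b : Set (IrrCharacter (C z))}
    {P : Subgroup (C z)} {e : MonoidAlgebra (ResF M) (C z)} (hM : IsPModular 2 M) {ψ : C z → ℂ} {f : P → ℂ}
    (sf : Sup z P f) {g : G} (h : Th 2 P e ψ f g ≠ 0) : ∃ x : G, x * z * x⁻¹ ∈ Subgroup.zpowers g := by
  classical
  unfold Th at h
  rw [indFun_apply] at h
  obtain ⟨x, -, hx⟩ := Finset.exists_ne_zero_of_sum_ne_zero (right_ne_zero_of_mul h)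
  by_cases hxm : x⁻¹ * g * x ∈ C z
  · rw [ext_mem _ _ hxm] at hx
    have h1 : ((⟨x⁻¹ * g * x, hxm⟩ : C z) : G) ∈ AA z := by
      by_contra hno
      exact hx (FF_AA hM sf _ hno)
    have h2 : z ∈ Subgroup.zpowers (x⁻¹ * g * x) := h1
    refine ⟨x, ?_⟩
    obtain ⟨k, hk⟩ := h2
    refine ⟨k, ?_⟩
    have hk' : (x⁻¹ * g * x) ^ k = z := hk
    change g ^ k = x * z * x⁻¹
    rw [← hk']
    have h4 : (x⁻¹ * g * x) ^ k = x⁻¹ * g ^ k * x := by
      have := conj_zpow (a := x⁻¹) (b := g) (i := k)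
      rwa [inv_inv] at this
    rw [h4]; group
  · exact absurd (ext_notMem _ _ hxm) hx

section lift
variable {Q : Subgroup K} [Q.Normal] {w t : K}

theorem sup_lift (hQc : Q ≤ Subgroup.center K) (hQs : ∀ s ∈ Q, s * s = 1) (hw : w ∈ Q) (htt : t * t = w)
    (ho : orderOf (t : K ⧸ Q) = 2) {g : K} {x : K ⧸ Q}
    (hx : x * (t : K ⧸ Q) * x⁻¹ ∈ Subgroup.zpowers (g : K ⧸ Q)) : w ∈ Subgroup.zpowers g ∧ 2 ∣ orderOf (w * g) := by
  have hcw : ∀ y : K, y * w = w * y := fun y => Subgroup.mem_center_iff.1 (hQc hw) y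
  constructor
  · obtain ⟨y, rfl⟩ := QuotientGroup.mk_surjective x
    obtain ⟨k, hk⟩ := hx
    have hk' : ((g ^ k : K) : K ⧸ Q) = ((y * t * y⁻¹ : K) : K ⧸ Q) := hk
    have h1 : (y * t * y⁻¹)⁻¹ * g ^ k ∈ Q := QuotientGroup.eq.1 hk'.symm
    set s := (y * t * y⁻¹)⁻¹ * g ^ k with hs
    have hcs : ∀ y : K, y * s = s * y := fun y => Subgroup.mem_center_iff.1 (hQc h1) y
    have hg : g ^ k = (y * t * y⁻¹) * s := by rw [hs]; group
    refine ⟨k * 2, ?_⟩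
    change g ^ (k * 2) = w
    have h2 : g ^ (k * 2) = g ^ k * g ^ k := by rw [mul_two, zpow_add]
    rw [h2, hg]
    calc (y * t * y⁻¹) * s * ((y * t * y⁻¹) * s) = (y * t * y⁻¹) * (s * (y * t * y⁻¹)) * s := by group
      _ = (y * t * y⁻¹) * ((y * t * y⁻¹) * s) * s := by rw [← hcs]
      _ = y * (t * t) * y⁻¹ * (s * s) := by group
      _ = w := by rw [htt, hQs s h1, mul_one, hcw, mul_assoc, mul_inv_cancel, mul_one]
  · by_contra hno
    have h1 : ¬ 2 ∣ orderOf ((w * g : K) : K ⧸ Q) := H20.PC.regular_mk Q hno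
    have h2 : ((w * g : K) : K ⧸ Q) = (g : K ⧸ Q) := by
      rw [QuotientGroup.mk_mul, (QuotientGroup.eq_one_iff w).2 hw, one_mul]
    rw [h2] at h1
    apply h1
    have h3 : orderOf (x * (t : K ⧸ Q) * x⁻¹) ∣ orderOf (g : K ⧸ Q) := orderOf_dvd_of_mem_zpowers hx
    have h4 : orderOf (x * (t : K ⧸ Q) * x⁻¹) = orderOf (t : K ⧸ Q) := H20.Orth.orderOf_conj _ _
    rw [h4, ho] at h3
    exact h3

end lift

section main
variable {Q : Subgroup K} [Q.Normal] {w t : K}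
variable {B : Set (IrrCharacter (K ⧸ Q))} {n : ℕ} {z : K ⧸ Q} {b : Set (IrrCharacter (C z))}
    {P : Subgroup (C z)} {e : MonoidAlgebra (ResF M) (C z)} {S : Sylow 2 P} {σ : P}
    {ψ : IrrCharacter (C z)} {ζ : ℂ}
variable {a₁ a₂ : IrrCharacter (K ⧸ Q) → ℤ} {u : Fin (2 ^ (n - 2) - 2) → IrrCharacter (K ⧸ Q) → ℤ}
    {X Y₁ Y₂ Y₃ Y₄ : IrrCharacter (K ⧸ Q)}
    {x : Fin (2 ^ (n - 2) - 2) → IrrCharacter (K ⧸ Q)} {h : Loc M B n z b P e S σ ψ} {hζ : IsPrimitiveRoot ζ (2 ^ (n - 1))}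

/-- the lift of a function of the family -/
noncomputable def Li (Q : Subgroup K) [Q.Normal] (f : K ⧸ Q → ℂ) : K → ℂ := fun g => f (g : K ⧸ Q)

theorem Li_ev (hM : IsPModular 2 M) (hQc : Q ≤ Subgroup.center K) (hQs : ∀ s ∈ Q, s * s = 1) (hw : w ∈ Q)
    (htt : t * t = w) (hz : z = (t : K ⧸ Q)) (h : Loc M B n z b P e S σ ψ) {B' : Set (IrrCharacter K)}
    (hm : ∀ ψ ∈ B, infl Q ψ ∈ B') {f : P → ℂ} (hf : Good z P f) (hs : Th 2 P e (ψ : C z → ℂ) f ∈ spn B) :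
    EvF B' w (Li Q (Th 2 P e (ψ : C z → ℂ) f)) := by
  refine ⟨infl_spn hm hs, ?_, ?_⟩
  · intro c hc
    obtain ⟨x, hx⟩ := Th_sup (b := b) hM hf.sup hc
    have ho : orderOf (t : K ⧸ Q) = 2 := by rw [← hz]; exact h.hz
    rw [hz] at hx
    exact sup_lift hQc hQs hw htt ho hx
  · intro c
    unfold Li
    rw [QuotientGroup.mk_mul, (QuotientGroup.eq_one_iff w).2 hw, one_mul]

theorem exists_pk (hM : IsPModular 2 M) (hQ : Nat.card Q = 2) (hQc : Q ≤ Subgroup.center K)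
    (hQs : ∀ s ∈ Q, s * s = 1) (hw : w ∈ Q)
    (htt : t * t = w) (hz : z = (t : K ⧸ Q)) {B' : Set (IrrCharacter K)}
    (hm : ∀ ψ ∈ B, infl Q ψ ∈ B') (D : Data h hζ a₁ a₂ u X Y₁ Y₂ Y₃ Y₄ x)
    {c : IrrCharacter (K ⧸ Q) → ℤ} (hc : Std a₁ a₂ u X Y₁ Y₂ Y₃ Y₄ x c) (hr : reg 2 (vec c) = vec c) :
    Pk B' w n (LL Q (vec c)) (Li Q (Th 2 P e (ψ : C z → ℂ) (va h.ds hζ))) (Li Q (Th 2 P e (ψ : C z → ℂ) (vb h.ds hζ)))
      (fun j => Li Q (Th 2 P e (ψ : C z → ℂ) (vc h.ds hζ j))) := by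
  have ga : Good z P (va h.ds hζ) := good_diff h _ _
  have gb : Good z P (vb h.ds hζ) := good_diff h _ _
  have gc : ∀ j, Good z P (vc h.ds hζ j) := fun j => good_diff h _ _
  obtain ⟨m1, m2, m3⟩ := fam_mem hM D
  have hB := h.hind.2.1
  have hin : ∀ f g : P → ℂ, Good z P f → Good z P g → classInner (Li Q (Th 2 P e (ψ : C z → ℂ) f))
      (Li Q (Th 2 P e (ψ : C z → ℂ) g)) = classInner f g := by
    intro f g hf hg
    unfold Li
    rw [H79.CentQ.inner_infl]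
    exact Th_inner hM h.hz h.hmax h.hb h.hnil h.hψ h.h0 (isClassFunction_of_isGen hf.gen)
      (isClassFunction_of_isGen hg.gen) hf.sup hg.sup
  have hcs : vec c ∈ spn B := vec_spn fun χ hχ => hc.cz χ (fun hi => hχ ((D.mem χ).2 hi))
  have hgen : ∀ f : P → ℂ, Good z P f → IsGeneralizedCharacter K (Li Q (Th 2 P e (ψ : C z → ℂ) f)) :=
    fun f hf => infl_gen (Th_gen hM h.hmax h.hnil hf.gen ψ)
  have hn : classInner (vec c) (vec c) = 2 ^ n := by
    rw [inner_vec, std_norm D.str hc, ← pw h]; push_cast; rfl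
  refine ⟨LL_mem hm ?_, LL_gen hQ hQc (vec_gen c) hr, ?_, Li_ev hM hQc hQs hw htt hz h hm ga m1,
    Li_ev hM hQc hQs hw htt hz h hm gb m2, fun j => Li_ev hM hQc hQs hw htt hz h hm (gc j) (m3 j),
    hgen _ ga, hgen _ gb, fun j => hgen _ (gc j), ?_, ?_, ?_, fun j => ?_, fun j => ?_, fun i j => ?_⟩
  · have := reg_mem_Vb hM hB hcs
    rwa [hr] at this
  · rw [LL_inner hQ hQc hr, hn]
  · rw [hin _ _ ga ga, n_aa h.ds hζ h.hS]
  · rw [hin _ _ gb gb, n_bb h.ds hζ h.hS]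
  · rw [hin _ _ ga gb, n_ab h.ds hζ h.hS]
  · rw [hin _ _ ga (gc j), n_ac h.ds hζ h.hS]
  · rw [hin _ _ gb (gc j), n_bc h.ds hζ h.hS]
  · rw [hin _ _ (gc i) (gc j), n_cc h.ds hζ h.hS]

end main

end H5.TEb
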