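import Cfsg.Agent.Lib.H5.TEb

/-!
# The functions above a central involution: the second function and the parity
-/

set_option autoImplicit false
set_option linter.unusedSectionVars false
set_option linter.unusedVariables false

namespace H5.TEc

open Cfsg H20.Loc H20.GA H80.GA H80.GB H80.GD H80.GE H80.GF H80.GJ H80.FS H80.FS3 H84.RG H18.CharBasic H18.CharOrtho H18.CharInd H84.TrR
open H20.Blk H20.Orth H20.Ind H20.Height H20.Defect H80.BR1 H80.BR2 H19.Second H19.Second3 H81.Section H81.Contrib H84.Star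
open H5.DBa H5.DBd H5.TBa H5.TBb H5.TBe H5.TBf H5.TBg H5.TBh H5.TBi H5.TBj H78.BlkCount H5.TCa
open H5.TBc H5.TBd H5.TDa H5.TDb H5.TDe H5.TDf H5.TDg H5.TDi H5.TDj H5.TDk H5.TDl H5.TDm H20.NormQ H5.TEa H5.TEb
open scoped ComplexConjugate

universe u

attribute [local instance 2000] Fintype.ofFinite

variable {M : Ideal AlgInt} [M.IsMaximal] {K : Type u} [Group K] [Finite K]
variable [CharP (ResF M) 2] [Algebra (ZMod 2) (ResF M)] [Algebra.IsAlgebraic (ZMod 2) (ResF M)]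
  [IsAlgClosed (ResF M)]

/-- the second function: first kind -/
structure KA (b : Set (IrrCharacter K)) (C A : K → ℂ) : Prop where
  mV : A ∈ Vb 2 b
  g : IsGeneralizedCharacter K A
  nn : classInner A A = 8
  oC : classInner A C = 0
  half : IsGeneralizedCharacter K ((2 : ℂ)⁻¹ • (C + A))

/-- the second function: second kind -/
structure KB (b : Set (IrrCharacter K)) (C A : K → ℂ) : Prop where
  mV : A ∈ Vb 2 b
  g : IsGeneralizedCharacter K A
  nn : classInner A A = 4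
  oC : classInner A C = 0

section main
variable {Q : Subgroup K} [Q.Normal] {w t : K}
variable {B : Set (IrrCharacter (K ⧸ Q))} {n : ℕ} {z : K ⧸ Q} {b : Set (IrrCharacter (C z))}
    {P : Subgroup (C z)} {e : MonoidAlgebra (ResF M) (C z)} {S : Sylow 2 P} {σ : P}
    {ψ : IrrCharacter (C z)} {ζ : ℂ}
variable {a₁ a₂ : IrrCharacter (K ⧸ Q) → ℤ} {u : Fin (2 ^ (n - 2) - 2) → IrrCharacter (K ⧸ Q) → ℤ}
    {X Y₁ Y₂ Y₃ Y₄ : IrrCharacter (K ⧸ Q)}
    {x : Fin (2 ^ (n - 2) - 2) → IrrCharacter (K ⧸ Q)} {h : Loc M B n z b P e S σ ψ} {hζ : IsPrimitiveRoot ζ (2 ^ (n - 1))}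

theorem half_gen (D : Data h hζ a₁ a₂ u X Y₁ Y₂ Y₃ Y₄ x)
    {c : IrrCharacter (K ⧸ Q) → ℤ} (hc : Std a₁ a₂ u X Y₁ Y₂ Y₃ Y₄ x c) {ε : ℤ} (hε : ε = 1 ∨ ε = -1) :
    IsGeneralizedCharacter (K ⧸ Q) ((2 : ℂ)⁻¹ • (vec c + (EE a₁ Y₁ Y₂ + (ε : ℂ) • EE a₂ Y₃ Y₄))) := by
  classical
  have t := D.str.two
  refine gen_of_int (isClassFunction_smul _ (isClassFunction_add (vec_class c) (isClassFunction_add (EE_class _ _ _)
    (isClassFunction_smul _ (EE_class _ _ _))))) fun χ => ?_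
  rw [H18.CharOrtho.inner_smul_left, H18.CharOrtho.inner_add_left, H18.CharOrtho.inner_add_left,
    H18.CharOrtho.inner_smul_left, vec_coef, EE_coef, EE_coef]
  have key : ∀ m : ℤ, (∃ k : ℤ, m = 2 * k) → ∃ k : ℤ, (2 : ℂ)⁻¹ * (m : ℂ) = k := by
    rintro m ⟨k, rfl⟩
    exact ⟨k, by push_cast; ring⟩
  have h2 : ∀ a : ℤ, (a = 1 ∨ a = -1) → ∀ b : ℤ, (b = 1 ∨ b = -1) → ∃ k : ℤ, a + b = 2 * k := by
    rintro a (rfl | rfl) b (rfl | rfl)
    · exact ⟨1, rfl⟩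
    · exact ⟨0, rfl⟩
    · exact ⟨0, rfl⟩
    · exact ⟨-1, rfl⟩
  have hng : ∀ a : ℤ, (a = 1 ∨ a = -1) → (-a = 1 ∨ -a = -1) := by
    rintro a (rfl | rfl)
    · exact Or.inr rfl
    · exact Or.inl rfl
  have hml : ∀ a : ℤ, (a = 1 ∨ a = -1) → (ε * a = 1 ∨ ε * a = -1) := by
    intro a ha
    rcases hε with rfl | rfl <;> rcases ha with rfl | rfl <;> norm_num
  by_cases hχ : InL X Y₁ Y₂ Y₃ Y₄ x χ
  · rcases hχ with rfl | rfl | rfl | rfl | rfl | ⟨j, rfl⟩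
    · rw [if_neg t.n1, if_neg t.n2, if_neg t.n3, if_neg t.n4, hc.cX]
      refine ⟨-a₁ χ, ?_⟩
      push_cast; ring
    · rw [if_pos rfl, if_neg t.n12.symm, if_neg t.n13.symm, if_neg t.n14.symm, hc.c1]
      obtain ⟨k, hk⟩ := key _ (h2 _ t.h1 _ t.h1)
      refine ⟨k, ?_⟩
      rw [← hk]; push_cast; ring
    · rw [if_neg t.n12, if_pos rfl, if_neg t.n23.symm, if_neg t.n24.symm, hc.c2]
      refine ⟨0, ?_⟩
      push_cast; ring
    · rw [if_neg t.n13, if_neg t.n23, if_pos rfl, if_neg t.n34.symm, hc.c3]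
      obtain ⟨k, hk⟩ := key _ (h2 _ t.h3 _ (hml _ t.h3))
      refine ⟨k, ?_⟩
      rw [← hk]; push_cast; ring
    · rw [if_neg t.n14, if_neg t.n24, if_neg t.n34, if_pos rfl, hc.c4]
      obtain ⟨k, hk⟩ := key _ (h2 _ t.h4 _ (hng _ (hml _ t.h4)))
      refine ⟨k, ?_⟩
      rw [← hk]; push_cast; ring
    · obtain ⟨-, k2, k3, k4, k5, -, -, -⟩ := D.str.ta j
      rw [if_neg k2.symm, if_neg k3.symm, if_neg k4.symm, if_neg k5.symm, hc.cx j]
      refine ⟨u j (x j), ?_⟩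
      push_cast; ring
  · rw [hc.cz χ hχ]
    unfold InL at hχ
    push Not at hχ
    obtain ⟨k0, k1, k2, k3, k4, k5⟩ := hχ
    rw [if_neg (Ne.symm k1), if_neg (Ne.symm k2), if_neg (Ne.symm k3), if_neg (Ne.symm k4)]
    refine ⟨0, ?_⟩
    push_cast; ring

theorem kase (hM : IsPModular 2 M) (hQ : Nat.card Q = 2) (hQc : Q ≤ Subgroup.center K)
    {B' : Set (IrrCharacter K)}
    (hm : ∀ ψ ∈ B, infl Q ψ ∈ B') (D : Data h hζ a₁ a₂ u X Y₁ Y₂ Y₃ Y₄ x) (hdn : blockDefect 2 B = n)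
    {c : IrrCharacter (K ⧸ Q) → ℤ} (hc : Std a₁ a₂ u X Y₁ Y₂ Y₃ Y₄ x c) (hr : reg 2 (vec c) = vec c)
    (hcX : vec c = (-(a₁ X : ℂ) * 2 ^ (n - 1)) • reg 2 (X : K ⧸ Q → ℂ)) :
    (blockRank 2 B = 1 ∧ reg 2 (EE a₁ Y₁ Y₂) = 0 ∧ reg 2 (EE a₂ Y₃ Y₄) = 0) ∨
      (blockRank 2 B = 2 ∧ ∃ A, KA B' (LL Q (vec c)) A) ∨
      (blockRank 2 B = 2 ∧ ∃ A, KB B' (LL Q (vec c)) A) ∨ blockRank 2 B = 3 := by
  classical
  have t := D.str.two
  have hB := h.hind.2.1
  obtain ⟨s1, s3⟩ := EE_spn D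
  obtain ⟨o1, o3⟩ := std_EE1 D hc
  have n11 : classInner (EE a₁ Y₁ Y₂) (EE a₁ Y₁ Y₂) = 2 := EE_self t.n12 t.h1 t.h2
  have n33 : classInner (EE a₂ Y₃ Y₄) (EE a₂ Y₃ Y₄) = 2 := EE_self t.n34 t.h3 t.h4
  have n13 : classInner (EE a₁ Y₁ Y₂) (EE a₂ Y₃ Y₄) = 0 := EE_EE t.n13 t.n14 t.n23 t.n24
  have n31 : classInner (EE a₂ Y₃ Y₄) (EE a₁ Y₁ Y₂) = 0 := zero_swap' n13
  have one : ∀ E : K ⧸ Q → ℂ, E ∈ spn B → reg 2 E = E → classInner E E = 2 → classInner E (vec c) = 0 →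
      IsGeneralizedCharacter (K ⧸ Q) E → KB B' (LL Q (vec c)) (LL Q E) := by
    intro E hE hrE hn ho hg
    refine ⟨LL_mem hm ?_, LL_gen hQ hQc hg hrE, ?_, ?_⟩
    · have := reg_mem_Vb hM hB hE
      rwa [hrE] at this
    · rw [LL_inner hQ hQc hrE, hn]; norm_num
    · rw [LL_inner hQ hQc hrE, ho]; norm_num
  rcases rcase' hM D hdn hc hr hcX with ⟨h1, h3, hl⟩ | ⟨h1, h3, hl⟩ | ⟨ε, hε, h1, h3, hl⟩ | ⟨h1, h3, hl⟩ | ⟨h1, h3, hl⟩
  · exact Or.inl ⟨hl, h1, h3⟩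
  · exact Or.inr (Or.inr (Or.inr hl))
  · right; left
    refine ⟨hl, LL Q (EE a₁ Y₁ Y₂ + (ε : ℂ) • EE a₂ Y₃ Y₄), ?_⟩
    set E := EE a₁ Y₁ Y₂ + (ε : ℂ) • EE a₂ Y₃ Y₄ with hE
    have hEs : E ∈ spn B := Submodule.add_mem _ s1 (Submodule.smul_mem _ _ s3)
    have hEg : IsGeneralizedCharacter (K ⧸ Q) E := isGen_add (EE_gen _ _ _) (isGen_intCast_smul _ (EE_gen _ _ _))
    have hεε : (ε : ℂ) * (ε : ℂ) = 1 := by exact_mod_cast sgn_sq hε
    have hEE : classInner E E = 4 := by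
      rw [hE, H18.CharOrtho.inner_add_left, H18.CharOrtho.inner_add_right, H18.CharOrtho.inner_add_right,
        H18.CharOrtho.inner_smul_left, H18.CharOrtho.inner_smul_left, H18.CharOrtho.inner_smul_right,
        H18.CharOrtho.inner_smul_right, n11, n13, n31, n33, map_intCast]
      linear_combination 2 * hεε
    have hEc : classInner E (vec c) = 0 := by
      rw [hE, H18.CharOrtho.inner_add_left, H18.CharOrtho.inner_smul_left, o1, o3]; ring
    refine ⟨LL_mem hm ?_, LL_gen hQ hQc hEg h1, ?_, ?_, ?_⟩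
    · have := reg_mem_Vb hM hB hEs
      rwa [h1] at this
    · rw [LL_inner hQ hQc h1, hEE]; norm_num
    · rw [LL_inner hQ hQc h1, hEc]; norm_num
    · rw [← LL_add, ← LL_smul]
      apply LL_gen hQ hQc (half_gen D hc hε)
      rw [reg_smul, reg_add, hr, ← hE, h1]
  · right; right; left
    exact ⟨hl, _, one _ s1 h1 n11 o1 (EE_gen _ _ _)⟩
  · right; right; left
    exact ⟨hl, _, one _ s3 h3 n33 o3 (EE_gen _ _ _)⟩

theorem Li_not {ξ : IrrCharacter K} (hξ : ∀ ψ' : IrrCharacter (K ⧸ Q), infl Q ψ' ≠ ξ) {f : K ⧸ Q → ℂ}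
    (hf : IsClassFunction (K ⧸ Q) f) : classInner (Li Q f) (ξ : K → ℂ) = 0 := by
  have h3 : Li Q f = ∑ ψ' : IrrCharacter (K ⧸ Q), classInner f (ψ' : K ⧸ Q → ℂ) • (infl Q ψ' : K → ℂ) := by
    funext g
    have := congrFun (mem_classFun_expand hf) (g : K ⧸ Q)
    unfold Li
    rw [this]
    simp only [Finset.sum_apply, Pi.smul_apply]
    rfl
  rw [h3, H18.CharOrtho.inner_sum_left]
  refine Finset.sum_eq_zero fun ψ' _ => ?_
  rw [H18.CharOrtho.inner_smul_left, inner_irr_ne (infl Q ψ').2 ξ.2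
    (fun h => hξ ψ' (Subtype.ext h)), mul_zero]

theorem sh_inner {w : K} (hww : w * w = 1) (f g : K → ℂ) : classInner (sh w f) g = classInner f (sh w g) := by
  unfold classInner
  congr 1
  refine Fintype.sum_equiv (Equiv.mulLeft w) _ _ fun c => ?_
  unfold sh
  rw [Equiv.coe_mulLeft, ← mul_assoc, hww, one_mul]

theorem sh_class {w : K} (hwc : ∀ y : K, y * w = w * y) {f : K → ℂ} (hf : IsClassFunction K f) :
    IsClassFunction K (sh w f) := by
  intro g x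
  unfold sh
  have : w * (x * g * x⁻¹) = x * (w * g) * x⁻¹ := by
    calc w * (x * g * x⁻¹) = (w * x) * g * x⁻¹ := by group
      _ = (x * w) * g * x⁻¹ := by rw [hwc]
      _ = _ := by group
  rw [this]
  exact hf _ _

theorem par (hM : IsPModular 2 M) (hQ : Nat.card Q = 2) (hQc : Q ≤ Subgroup.center K)
    (hQe : ∀ s ∈ Q, s = 1 ∨ s = w) (hw : w ∈ Q) (hww : w * w = 1)
    {B' : Set (IrrCharacter K)} (hB' : IsPBlock M B') (hd' : blockDefect 2 B' = n + 1)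
    (hm : ∀ ψ ∈ B, infl Q ψ ∈ B') (D : Data h hζ a₁ a₂ u X Y₁ Y₂ Y₃ Y₄ x)
    {c : IrrCharacter (K ⧸ Q) → ℤ} (hc : Std a₁ a₂ u X Y₁ Y₂ Y₃ Y₄ x c) (hr : reg 2 (vec c) = vec c)
    (hcX : vec c = (-(a₁ X : ℂ) * 2 ^ (n - 1)) • reg 2 (X : K ⧸ Q → ℂ))
    (hodd : ∀ ξ ∈ B', blockHeight 2 B' (ξ : K → ℂ) = 0 → (ξ : K → ℂ) w = (ξ : K → ℂ) 1) :
    ∃ W, IsGeneralizedCharacter K W ∧ Li Q (Th 2 P e (ψ : C z → ℂ) (va h.ds hζ)) +
      Li Q (Th 2 P e (ψ : C z → ℂ) (vb h.ds hζ)) + sh w (LL Q (vec c)) = (2 : ℂ) • W := by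
  classical
  have tt := D.str.two
  have hB := h.hind.2.1
  have hn := h.ds.hn
  have hcw : ∀ y : K, y * w = w * y := fun y => Subgroup.mem_center_iff.1 (hQc hw) y
  have ga : Good z P (va h.ds hζ) := good_diff h _ _
  have gb : Good z P (vb h.ds hζ) := good_diff h _ _
  set C0 := LL Q (vec c) with hC0
  set Ea := Th 2 P e (ψ : C z → ℂ) (va h.ds hζ) with hEa
  set Eb := Th 2 P e (ψ : C z → ℂ) (vb h.ds hζ) with hEb
  have cEa : IsClassFunction (K ⧸ Q) Ea := Th_cl hM h ga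
  have cEb : IsClassFunction (K ⧸ Q) Eb := Th_cl hM h gb
  have hCX : C0 = (-(a₁ X : ℂ) * 2 ^ n) • reg 2 (infl Q X : K → ℂ) := by
    rw [hC0, hcX, LL_smul]
    unfold LL
    rw [L_infl, smul_smul]
    congr 1
    have : (2 : ℂ) ^ n = 2 ^ (n - 1) * 2 := by rw [← pow_succ]; congr 1; omega
    rw [this]; ring
  have cC0 : IsClassFunction K C0 := LL_class (vec_class c)
  have hX' : infl Q X ∈ B' := hm _ (X_mem D)
  obtain ⟨r, hr1, hr0, -, hr3, hr4, -, -⟩ := H81.RegMat.exists_row hM hB' hX'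
  rw [hd'] at hr1
  have e0 : (a₁ X : ℂ) * (a₁ X : ℂ) = 1 := by exact_mod_cast sgn_sq tt.hX
  have hCr : ∀ ξ : IrrCharacter K, 2 * classInner C0 (ξ : K → ℂ) = -(a₁ X : ℂ) * (r ξ : ℂ) := by
    intro ξ
    rw [← hr1 ξ, hCX, H18.CharOrtho.inner_smul_left]
    push_cast
    ring
  have hX4 : r (infl Q X) = 4 := by
    have h1 := hCr (infl Q X)
    have h2 : classInner C0 (infl Q X : K → ℂ) = c X := by
      have h3 : (infl Q X : K → ℂ) = fun g : K => (X : K ⧸ Q → ℂ) (g : K ⧸ Q) := rfl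
      rw [h3, hC0, LL_infl hQ hQc hr, vec_coef]
    rw [h2, hc.cX] at h1
    push_cast at h1
    have h4 : (r (infl Q X) : ℂ) = 4 := by
      linear_combination (a₁ X : ℂ) * h1 - ((r (infl Q X) : ℂ) - 4) * e0
    exact_mod_cast h4
  have hh : blockHeight 2 B' (infl Q X : K → ℂ) ≠ 0 := by
    intro h0
    apply hr3 _ hX' h0
    rw [h0, hX4]; norm_num
  have hev : ∀ ξ : IrrCharacter K, ∃ m : ℤ, classInner (Li Q Ea + Li Q Eb + sh w C0) (ξ : K → ℂ) = 2 * m := by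
    intro ξ
    obtain ⟨ω, hω0, hω, hωn⟩ := H81.CentralVal.exists_central ξ.2 (hQc hw)
    have hω2 : ω ^ 2 = 1 := hωn 2 (by rw [pow_two, hww])
    have hωpm : ω = 1 ∨ ω = -1 := by
      have h1 : (ω - 1) * (ω + 1) = 0 := by linear_combination hω2
      rcases mul_eq_zero.1 h1 with h | h
      · left; linear_combination h
      · right; linear_combination h
    have hsh : sh w (ξ : K → ℂ) = ω • (ξ : K → ℂ) := by
      funext g
      exact hω g
    rw [H18.CharOrtho.inner_add_left, H18.CharOrtho.inner_add_left, sh_inner hww, hsh,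
      H18.CharOrtho.inner_smul_right]
    rcases hωpm with h1 | h1
    · -- even
      obtain ⟨ξ', rfl⟩ := exists_infl (N := Q) (ψ := ξ) (by
        intro s hs
        rcases hQe s hs with rfl | rfl
        · rfl
        · have := hω 1
          rw [mul_one, h1, one_mul] at this
          exact this)
      have h3 : (infl Q ξ' : K → ℂ) = fun g : K => (ξ' : K ⧸ Q → ℂ) (g : K ⧸ Q) := rfl
      have h4 : ∀ f : K ⧸ Q → ℂ, classInner (Li Q f) (infl Q ξ' : K → ℂ) = classInner f (ξ' : K ⧸ Q → ℂ) := by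
        intro f
        exact H79.CentQ.inner_infl Q f _
      rw [h4, h4, h3, hC0, LL_infl hQ hQc hr, vec_coef, D.ha, D.hb, h1, map_one, one_mul]
      have key : ∃ m : ℤ, a₁ ξ' + a₂ ξ' + c ξ' = 2 * m := by
        have h2 : ∀ a : ℤ, ∀ b : ℤ, (a = 1 ∨ a = -1) → (b = 1 ∨ b = -1) → ∃ k : ℤ, a + b = 2 * k := by
          rintro a b (rfl | rfl) (rfl | rfl)
          · exact ⟨1, rfl⟩
          · exact ⟨0, rfl⟩
          · exact ⟨0, rfl⟩
          · exact ⟨-1, rfl⟩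
        by_cases hχ : InL X Y₁ Y₂ Y₃ Y₄ x ξ'
        · rcases hχ with rfl | rfl | rfl | rfl | rfl | ⟨j, rfl⟩
          · rw [tt.hX', hc.cX]; exact ⟨0, by ring⟩
          · rw [tt.z2 _ tt.n1 tt.n13 tt.n14, hc.c1, add_zero]
            exact h2 _ _ tt.h1 tt.h1
          · rw [tt.z2 _ tt.n2 tt.n23 tt.n24, hc.c2, add_zero]
            exact h2 _ _ tt.h2 tt.h2
          · rw [tt.z1 _ tt.n3 tt.n13.symm tt.n23.symm, hc.c3, zero_add]
            exact h2 _ _ tt.h3 tt.h3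
          · rw [tt.z1 _ tt.n4 tt.n14.symm tt.n24.symm, hc.c4, zero_add]
            exact h2 _ _ tt.h4 tt.h4
          · obtain ⟨k1, k2, k3, k4, k5, -, -, -⟩ := D.str.ta j
            rw [tt.z1 _ k1 k2 k3, tt.z2 _ k1 k4 k5, hc.cx j]
            exact ⟨u j (x j), by ring⟩
        · rw [hc.cz _ hχ]
          unfold InL at hχ
          push Not at hχ
          obtain ⟨k0, k1, k2, k3, k4, k5⟩ := hχ
          rw [tt.z1 _ k0 k1 k2, tt.z2 _ k0 k3 k4]
          exact ⟨0, by ring⟩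
      obtain ⟨m, hm'⟩ := key
      refine ⟨m, ?_⟩
      exact_mod_cast hm'
    · -- odd
      have hnot : ∀ ψ' : IrrCharacter (K ⧸ Q), infl Q ψ' ≠ ξ := by
        rintro ψ' rfl
        have h2 := hω 1
        rw [mul_one, h1] at h2
        have h3 := infl_trivial (N := Q) ψ' w hw
        rw [h3] at h2
        have h4 := irr_one_ne_zero (infl Q ψ').2
        apply h4
        linear_combination (1 / 2 : ℂ) * h2
      rw [Li_not hnot cEa, Li_not hnot cEb, h1]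
      have h5 := hCr ξ
      have h6 : (4 : ℤ) ∣ r ξ := by
        by_cases hξ : ξ ∈ B'
        · have h7 : blockHeight 2 B' (ξ : K → ℂ) ≠ 0 := by
            intro h0
            have h8 := hodd ξ hξ h0
            have h9 := hω 1
            rw [mul_one, h1, h8] at h9
            apply irr_one_ne_zero ξ.2
            linear_combination (1 / 2 : ℂ) * h9
          have h8 := hr4 ξ hξ h7
          refine dvd_trans ?_ h8
          have h9 : 2 ≤ blockHeight 2 B' (infl Q X : K → ℂ) + 1 := by omega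
          calc (4 : ℤ) = 2 ^ 2 := by norm_num
            _ ∣ _ := pow_dvd_pow _ h9
        · rw [hr0 ξ hξ]; exact dvd_zero _
      obtain ⟨m, hm'⟩ := h6
      rw [hm'] at h5
      refine ⟨a₁ X * m, ?_⟩
      push_cast at h5 ⊢
      rw [map_neg, map_one]
      linear_combination (-(1 / 2) : ℂ) * h5
  have hcl : IsClassFunction K (Li Q Ea + Li Q Eb + sh w C0) :=
    isClassFunction_add (isClassFunction_add (cl_mk cEa) (cl_mk cEb)) (sh_class hcw cC0)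
  refine ⟨(2 : ℂ)⁻¹ • (Li Q Ea + Li Q Eb + sh w C0), gen_of_int (isClassFunction_smul _ hcl) fun ξ => ?_, ?_⟩
  · obtain ⟨m, hm'⟩ := hev ξ
    refine ⟨m, ?_⟩
    rw [H18.CharOrtho.inner_smul_left, hm']; ring
  · rw [smul_smul]; norm_num

end main

end H5.TEc
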