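import Cfsg.Agent.Lib.H5.TEc

/-!
# Induction of functions above an involution
-/

set_option autoImplicit false
set_option linter.unusedSectionVars false
set_option linter.unusedVariables false

namespace H5.TEd

open Cfsg H20.Loc H20.GA H80.GA H80.GB H80.GD H80.GE H80.GF H80.GJ H80.FS H80.FS3 H84.RG H18.CharBasic H18.CharOrtho H18.CharInd H84.TrR
open H20.Blk H20.Orth H20.Ind H20.Height H20.Defect H80.BR1 H80.BR2 H19.Second H19.Second3 H81.Section H81.Contrib H84.Star
open H5.DBa H5.DBd H5.TBa H5.TBb H5.TBe H5.TBf H5.TBg H5.TBh H5.TBi H5.TBj H78.BlkCount H5.TCa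
open H5.TBc H5.TBd H5.TDa H5.TDb H5.TDe H5.TDf H5.TDg H5.TDi H5.TDj H5.TDk H5.TDl H5.TDm H20.NormQ H5.TEa H5.TEb H5.TEc
open scoped ComplexConjugate

universe u

attribute [local instance 2000] Fintype.ofFinite

variable {G : Type u} [Group G] [Finite G] {z : G}

/-- class functions above `z` -/
structure Ab (z : G) (f : C z → ℂ) : Prop where
  cl : IsClassFunction (C z) f
  sup : ∀ c : C z, f c ≠ 0 → z ∈ Subgroup.zpowers (c : G)

/-- the induced function -/
noncomputable def In (z : G) (f : C z → ℂ) : G → ℂ := indFun (C z) f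

theorem Ab.one (hz : orderOf z = 2) {f : C z → ℂ} (hf : Ab z f) : f 1 = 0 := by
  by_contra h
  have h1 := hf.sup 1 h
  obtain ⟨k, hk⟩ := h1
  have h2 : (1 : G) ^ k = z := hk
  rw [one_zpow] at h2
  rw [← h2, orderOf_one] at hz
  omega

theorem Ab.off {f : C z → ℂ} (hf : Ab z f) (x : C z) (hx : (x : G) ∉ AA z) : f x = 0 := by
  by_contra h
  exact hx (hf.sup x h)

theorem In_inner (hz : orderOf z = 2) {f g : C z → ℂ} (hf : Ab z f) (hg : Ab z g) :
    classInner (In z f) (In z g) = classInner f g :=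
  H4.TI.inner_indFun_of_TI (C z) (AA z) (AA_TI hz) hg.cl hf.off hg.off (hf.one hz)

theorem In_eq (hz : orderOf z = 2) {f : C z → ℂ} (hf : Ab z f) (x : C z) (hx : z ∈ Subgroup.zpowers (x : G)) :
    In z f x = f x := by
  have hx1 : x ≠ 1 := by
    rintro rfl
    obtain ⟨k, hk⟩ := hx
    have h2 : (1 : G) ^ k = z := hk
    rw [one_zpow] at h2
    rw [← h2, orderOf_one] at hz
    omega
  exact H4.TI.indFun_eq_of_TI (C z) (AA z) (AA_TI hz) hf.cl hf.off x hx hx1

theorem In_class (f : C z → ℂ) : IsClassFunction G (In z f) := isClassFunction_indFun _ _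

theorem In_add (f g : C z → ℂ) : In z (f + g) = In z f + In z g := indFun_add _ _ _

theorem In_smul (a : ℂ) (f : C z → ℂ) : In z (a • f) = a • In z f := indFun_smul _ _ _

theorem In_ne {f : C z → ℂ} {g : G} (h : In z f g ≠ 0) : ∃ (x : G) (hx : x⁻¹ * g * x ∈ C z), f ⟨x⁻¹ * g * x, hx⟩ ≠ 0 := by
  classical
  unfold In at h
  rw [indFun_apply] at h
  obtain ⟨x, -, hx⟩ := Finset.exists_ne_zero_of_sum_ne_zero (right_ne_zero_of_mul h)
  by_cases hxm : x⁻¹ * g * x ∈ C z
  · rw [ext_mem _ _ hxm] at hx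
    exact ⟨x, hxm, hx⟩
  · exact absurd (ext_notMem _ _ hxm) hx

theorem ord_cj (x g : G) : orderOf (x⁻¹ * g * x) = orderOf g := by
  have := H20.Orth.orderOf_conj x⁻¹ g
  rwa [inv_inv] at this

theorem In_reg0 (hz : orderOf z = 2) {f : C z → ℂ} (hf : Ab z f) : reg 2 (In z f) = 0 := by
  funext g
  by_cases hg : 2 ∣ orderOf g
  · rw [reg_not hg]; rfl
  · rw [reg_of hg]
    by_contra h
    obtain ⟨x, hx, hfx⟩ := In_ne h
    have h1 := orderOf_dvd_of_mem_zpowers (hf.sup _ hfx)
    have h2 : orderOf ((⟨x⁻¹ * g * x, hx⟩ : C z) : G) = orderOf g := ord_cj x g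
    rw [hz, h2] at h1
    exact hg h1

/-- inner products with a character of the group -/
theorem In_coef (f : C z → ℂ) {χ : G → ℂ} (hχ : IsClassFunction G χ) :
    classInner (In z f) χ = classInner f (fun c : C z => χ c) := frobenius (C z) _ hχ

theorem In_gen {f : C z → ℂ} (hf : IsGeneralizedCharacter (C z) f) : IsGeneralizedCharacter G (In z f) := isGen_ind _ hf

theorem cy_ord (hz : orderOf z = 2) : orderOf (cy z) = 2 := by
  rw [← hz, ← Subgroup.orderOf_coe]; rfl

theorem cy_sq (hz : orderOf z = 2) : cy z * cy z = 1 := by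
  rw [← pow_two, ← cy_ord hz, pow_orderOf_eq_one]

theorem cy_cen (z : G) (y : C z) : y * cy z = cy z * y := cy_comm z y

theorem ab_of_ev {b : Set (IrrCharacter (C z))} {f : C z → ℂ} (hf : EvF b (cy z) f) : Ab z f := by
  refine ⟨class_of_mem_spn hf.mem, fun c hc => ?_⟩
  obtain ⟨k, hk⟩ := (hf.sup c hc).1
  exact ⟨k, congrArg Subtype.val hk⟩

/-- elements with regular translate -/
theorem mem_zp {K : Type u} [Group K] [Finite K] {w c : K} (hw : orderOf w = 2) (hcw : ∀ y : K, y * w = w * y)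
    (hc : ¬ 2 ∣ orderOf (w * c)) : IsPPart 2 c w := by
  have hww : w * w = 1 := by rw [← pow_two, ← hw, pow_orderOf_eq_one]
  refine ⟨w * c, ?_, (hcw _).symm, ⟨1, by rw [hw, pow_one]⟩, hc⟩
  rw [← mul_assoc, hww, one_mul]

theorem ab_of_sh (hz : orderOf z = 2) {f : C z → ℂ} (hf : IsClassFunction (C z) f) (hr : reg 2 f = f) :
    Ab z (sh (cy z) f) := by
  refine ⟨sh_class (cy_cen z) hf, fun c hc => ?_⟩
  have h1 : ¬ 2 ∣ orderOf (cy z * c) := by
    intro h2
    apply hc
    show f (cy z * c) = 0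
    rw [← hr, reg_not h2]
  obtain ⟨k, hk⟩ := H20.First.isPPart_mem_zpowers (mem_zp (cy_ord hz) (cy_cen z) h1)
  exact ⟨k, congrArg Subtype.val hk⟩

theorem sh_sh {w : C z} (hw : w * w = 1) (f : C z → ℂ) : sh w (sh w f) = f := by
  funext c
  show f (w * (w * c)) = f c
  rw [← mul_assoc, hw, one_mul]

theorem sh_inner2 {w : C z} (hw : w * w = 1) (f g : C z → ℂ) : classInner (sh w f) (sh w g) = classInner f g := by
  rw [sh_inner hw, sh_sh hw]

/-- the functions above `z` are perpendicular to the translates of functions on the regular elements -/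
theorem ev_sh {b : Set (IrrCharacter (C z))} (hz : orderOf z = 2) {f g : C z → ℂ} (hf : EvF b (cy z) f)
    (hr : reg 2 g = g) : classInner f (sh (cy z) g) = 0 := by
  unfold classInner
  rw [Finset.sum_eq_zero, mul_zero]
  intro c _
  by_cases h : f c = 0
  · rw [h, zero_mul]
  · have h1 := (hf.sup c h).2
    have h2 : sh (cy z) g c = 0 := by
      show g (cy z * c) = 0
      rw [← hr, reg_not h1]
    rw [h2, map_zero, mul_zero]

theorem sh_gen {K : Type u} [Group K] [Finite K] {w : K} (hw : w * w = 1) (hcw : ∀ y : K, y * w = w * y) {f : K → ℂ}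
    (hf : IsGeneralizedCharacter K f) : IsGeneralizedCharacter K (sh w f) := by
  refine gen_of_int (sh_class hcw (isClassFunction_of_isGen hf)) fun ξ => ?_
  obtain ⟨ω, hω0, hω, hωn⟩ := H81.CentralVal.exists_central ξ.2 (Subgroup.mem_center_iff.2 hcw)
  have hω2 : ω ^ 2 = 1 := hωn 2 (by rw [pow_two, hw])
  have hωpm : ω = 1 ∨ ω = -1 := by
    have h1 : (ω - 1) * (ω + 1) = 0 := by linear_combination hω2
    rcases mul_eq_zero.1 h1 with h | h
    · left; linear_combination h
    · right; linear_combination h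
  have hsh : sh w (ξ : K → ℂ) = ω • (ξ : K → ℂ) := by
    funext g
    exact hω g
  obtain ⟨m, hm⟩ := coef_int hf ξ
  rw [sh_inner hw, hsh, H18.CharOrtho.inner_smul_right, hm]
  rcases hωpm with rfl | rfl
  · exact ⟨m, by simp⟩
  · exact ⟨-m, by simp⟩

end H5.TEd
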