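import Cfsg.Agent.Lib.H5.TCb
import Cfsg.Agent.Lib.H81.OddHt
import Cfsg.Agent.Lib.H81.SpnE
import Cfsg.Agent.Lib.H81.HtF
import Cfsg.Agent.Lib.H83.SdA
import Cfsg.Agent.Lib.H83.SdB
import Cfsg.Agent.Lib.H67.OddCh
import Cfsg.Agent.Lib.H83.SdG
import Cfsg.Agent.Lib.H84.QR1
import Cfsg.Agent.Lib.H81.NoBoth

/-!
# Collected lemmas
-/

set_option autoImplicit false
set_option linter.unusedSectionVars false
set_option linter.unusedVariables false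

namespace H5.TEx

open Cfsg H20.Loc H20.GA H80.GA H80.GB H80.GD H80.GE H80.GF H80.GJ H80.FS H80.FS3 H84.RG H18.CharBasic H18.CharOrtho H18.CharInd H84.TrR
open H78.BlkCount H20.Blk H20.Orth H20.Ind H20.Height H20.Defect H80.BR1 H80.BR2 H19.Second H19.Second3 H81.Section H81.Contrib H84.Star

universe u
attribute [local instance 2000] Fintype.ofFinite

variable {M : Ideal AlgInt} [M.IsMaximal] {G : Type u} [Group G] [Finite G]
variable [CharP (ResF M) 2] [Algebra (ZMod 2) (ResF M)] [Algebra.IsAlgebraic (ZMod 2) (ResF M)]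
  [IsAlgClosed (ResF M)]

/-- (A) -/
theorem exists_H (hM : IsPModular 2 M) {B : Set (IrrCharacter G)} (hB : IsPBlock M B) {D : Subgroup G}
    (hD : IsDefectGroup 2 M B D) {t : G} (ht : t ∈ D) (ho : orderOf t = 4)
    (hn : ∀ d ∈ D, d * t * d⁻¹ = t ∨ d * t * d⁻¹ = t⁻¹) (hy : ∃ y ∈ D, y * t * y⁻¹ = t⁻¹)
    (hcyc : ∃ s : G, D ⊓ Subgroup.centralizer {t} = Subgroup.zpowers s) :
    ∃ (H : Subgroup G) (β : Set (IrrCharacter H)), (∀ g : G, g ∈ H ↔ g * t * g⁻¹ = t ∨ g * t * g⁻¹ = t⁻¹) ∧ D ≤ H ∧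
      IsInducedBlock M H β B ∧ IsDefectGroup 2 M β (D.subgroupOf H) ∧ Nilp 2 ⊤ (ebar M β) :=
  H83.SdA.exists_H hM hB hD ht ho hn hy hcyc

/-- (B) -/
theorem unique_local (hM : IsPModular 2 M) {B : Set (IrrCharacter G)} (hB : IsPBlock M B) {D : Subgroup G}
    (hD : IsDefectGroup 2 M B D) {u : G} (hu : u ∈ D)
    (hc : ∀ g : G, g * u * g⁻¹ ∈ D → ∃ d ∈ D, g * u * g⁻¹ = d * u * d⁻¹) {f f' : Set (IrrCharacter (C u))}
    (hf : IsInducedBlock M (C u) f B) (hf' : IsInducedBlock M (C u) f' B) : f = f' :=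
  H83.SdB.unique_local hM hB hD hu hc hf hf'

/-- (E1) -/
theorem ind_spn {p : ℕ} (hM : IsPModular p M) {H : Subgroup G} {b : Set (IrrCharacter H)} {B : Set (IrrCharacter G)}
    (hind : IsInducedBlock M H b B) {F : H → ℂ} (hF : F ∈ spn b)
    (hs : ∀ h : H, F h ≠ 0 → ∀ x : G, IsPPart p (h : G) x → Subgroup.centralizer ({x} : Set G) ≤ H) :
    indFun H F ∈ spn B :=
  H81.SpnE.ind_spn hM hind hF hs

/-- (E2) -/
theorem restr_spn {p : ℕ} (hM : IsPModular p M) {B : Set (IrrCharacter G)} (hB : IsPBlock M B) {F : G → ℂ} (hF : F ∈ spn B)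
    {T : Set G} (hT : ∀ g x : G, IsPPart p g x → (g ∈ T ↔ x ∈ T)) (hTc : ∀ g x : G, x ∈ T → g * x * g⁻¹ ∈ T) :
    T.indicator F ∈ spn B :=
  H81.SpnE.restr_spn hM hB hF hT hTc


/-- (F) -/
theorem height_val2 {p : ℕ} (hM : IsPModular p M) {z : G} (hz : ∃ k : ℕ, orderOf z = p ^ k)
    {b : Set (IrrCharacter (C z))} {B : Set (IrrCharacter G)} (hind : IsInducedBlock M (C z) b B)
    (hd : blockDefect p b = blockDefect p B) {χ ψ : IrrCharacter G} (hχ : χ ∈ B) (hψ : ψ ∈ B)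
    (h0 : blockHeight p B (ψ : G → ℂ) = 0) : ∃ v : ℂ, MemLocalRing M v ∧ ¬ MemLocalIdeal M v ∧
      (p : ℂ) ^ blockDefect p b * classInner (comp p z b (χ : G → ℂ)) (comp p z b (ψ : G → ℂ)) =
        (p : ℂ) ^ blockHeight p B (χ : G → ℂ) * v :=
  H81.HtF.height_val2 hM hz hind hd hχ hψ h0

/-- (G) -/
theorem odd_family (hM : IsPModular 2 M) {B : Set (IrrCharacter G)} (hB : IsPBlock M B) {D : Subgroup G}
    (hD : IsDefectGroup 2 M B D) {q : ℕ} (hq : 2 ≤ q) (hcard : Nat.card D = 8 * q) {s t z y : G} (hs : s ∈ D)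
    (hso : orderOf s = 4 * q) (hts : t ∈ Subgroup.zpowers s) (hto : orderOf t = 4) (htz : t * t = z)
    (hcen : ∀ d ∈ D, d * t * d⁻¹ = t ∨ d * t * d⁻¹ = t⁻¹) (hy : y ∈ D) (hyt : y * t * y⁻¹ = t⁻¹) :
    ∃ o : Fin (q - 1) → G → ℂ, LinearIndependent ℂ o ∧ (∀ i, o i ∈ spn B) ∧ (∀ i, reg 2 (o i) = 0) ∧
      (∀ i (f : C z → ℂ), IsClassFunction (C z) f → (∀ c : C z, f c ≠ 0 → z ∈ Subgroup.zpowers (c : G)) →
        (∀ c c' : C z, (c' : G) = z * c → f c' = f c) → classInner (o i) (indFun (C z) f) = 0) ∧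
      (∀ i (f : C z → ℂ), (∀ c : C z, f c ≠ 0 → ¬ 2 ∣ orderOf (z * (c : G))) →
        classInner (o i) (indFun (C z) f) = 0) :=
  H83.SdG.odd_family hM hB hD hq hcard hs hso hts hto htz hcen hy hyt

/-- (R) -/
theorem rank_ne_one (hM : IsPModular 2 M) {B : Set (IrrCharacter G)} (hB : IsPBlock M B) {n : ℕ}
    (hd : blockDefect 2 B = n) (hn : 4 ≤ n) {T : IrrCharacter G} (hT : T ∈ B)
    (hht : blockHeight 2 B (T : G → ℂ) = n - 2) : blockRank 2 B ≠ 1 :=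
  H84.QR1.rank_ne_one hM hB hd hn hT hht

/-- (Y) -/
theorem no_both (hM : IsPModular 2 M) {B : Set (IrrCharacter G)} (hB : IsPBlock M B) {D : Subgroup G}
    (hD : IsDefectGroup 2 M B D) {w τ : G} (hτ : τ ∈ D) (hτ2 : orderOf τ = 2) (hw2 : orderOf w = 2)
    (hwc : ∀ g : G, g * w = w * g) (hτw : τ ≠ w)
    (hall : ∀ d ∈ D, d ≠ 1 → w ∈ Subgroup.zpowers d ∨ ∃ x ∈ D, d = x * τ * x⁻¹)
    {E E' : G → ℂ} (hE : E ∈ spn B) (hE' : E' ∈ spn B) (hr : reg 2 E = 0) (hr' : reg 2 E' = 0)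
    (ho : classInner E E' = 0) (hA : ∀ c, w ∈ Subgroup.zpowers c → E c = 0) (hA' : ∀ c, w ∈ Subgroup.zpowers c → E' c = 0)
    {Y Y' : IrrCharacter G} (hY : Y ∈ B) (hY' : Y' ∈ B) (h0 : blockHeight 2 B (Y : G → ℂ) = 0)
    (h0' : blockHeight 2 B (Y' : G → ℂ) = 0) {a a' : ℂ} (ha : ∀ c, IsPPart 2 c τ → (Y : G → ℂ) c = a * E c)
    (ha' : ∀ c, IsPPart 2 c τ → (Y' : G → ℂ) c = a' * E' c) : False :=
  H81.NoBoth.no_both hM hB hD hτ hτ2 hw2 hwc hτw hall hE hE' hr hr' ho hA hA' hY hY' h0 h0' ha ha'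

end H5.TEx

namespace H5.TExD
universe u
open Cfsg
/-- (D) -/
theorem odd_chars {P : Type u} [Group P] [Finite P] {q : ℕ} (hq : 1 ≤ q) (hcard : Nat.card P = 8 * q) {s t y z : P}
    (hs : orderOf s = 4 * q) (ht : t ∈ Subgroup.zpowers s) (htz : t * t = z) (hz1 : z ≠ 1) (hzz : z * z = 1)
    (hcen : ∀ g : P, g * t * g⁻¹ = t ∨ g * t * g⁻¹ = t⁻¹) (hy : y * t * y⁻¹ = t⁻¹) :
    ∃ ξ : Fin q → IrrCharacter P, Function.Injective ξ ∧ (∀ i, (ξ i : P → ℂ) 1 = 2) ∧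
      (∀ i g, (ξ i : P → ℂ) (z * g) = - (ξ i : P → ℂ) g) ∧ ∀ i g, g ∉ Subgroup.zpowers s → (ξ i : P → ℂ) g = 0 :=
  H67.OddCh.odd_chars hq hcard hs ht htz hz1 hzz hcen hy
end H5.TExD
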