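import Cfsg.Agent.Lib.H5.TEd
import Cfsg.Agent.Lib.H5.TEg
import Cfsg.Agent.Lib.H5.TEx

/-!
# The numerical data of the block
-/

set_option autoImplicit false
set_option linter.unusedSectionVars false
set_option linter.unusedVariables false

namespace H5.TEf

open Cfsg H20.Loc H20.GA H80.GA H80.GB H80.GD H80.GE H80.GF H80.GJ H80.FS H80.FS3 H84.RG H18.CharBasic H18.CharOrtho H18.CharInd H84.TrR
open H20.Blk H20.Orth H20.Ind H20.Height H20.Defect H80.BR1 H80.BR2 H19.Second H19.Second3 H81.Section H81.Contrib H84.Star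
open H5.DBa H5.DBd H5.TBa H5.TBb H5.TBe H5.TBf H5.TBg H5.TBh H5.TBi H5.TBj H78.BlkCount H5.TCa
open H5.TBc H5.TBd H5.TDa H5.TDb H5.TDe H5.TDf H5.TDg H5.TDi H5.TDj H5.TDk H5.TDl H5.TDm H20.NormQ H5.TEa H5.TEb H5.TEc
open H5.TEd H5.TEg H5.TEx
open scoped ComplexConjugate

universe u

attribute [local instance 2000] Fintype.ofFinite

/-- the regular relations exclude equal supports -/
theorem hodd_of {I V : Type*} [Fintype I] [DecidableEq I] [AddCommGroup V] [Module ℂ V] {a₁ a₂ : I → ℤ}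
    (h1 : ∑ i, a₁ i * a₁ i = 3) (h2 : ∑ i, a₂ i * a₂ i = 3) (h12 : ∑ i, a₁ i * a₂ i = 1)
    {r : I → V} (hr : ∀ i, r i ≠ 0) (r1 : ∑ i, (a₁ i : ℂ) • r i = 0) (r2 : ∑ i, (a₂ i : ℂ) • r i = 0) :
    ∃ i, (a₁ i + a₂ i) % 2 = 1 := by
  by_contra hno
  push Not at hno
  set s : I → ℤ := fun i => (a₁ i - a₂ i) / 2 with hs
  have hs2 : ∀ i, 2 * s i = a₁ i - a₂ i := by
    intro i
    have := hno i
    simp only [hs]
    omega
  have h3 : ∑ i, s i * s i = 1 := by
    have h4 : 4 * ∑ i, s i * s i = 4 := by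
      calc 4 * ∑ i, s i * s i = ∑ i, (a₁ i * a₁ i + a₂ i * a₂ i - 2 * (a₁ i * a₂ i)) := by
            rw [Finset.mul_sum]
            refine Finset.sum_congr rfl fun i _ => ?_
            linear_combination (2 * s i + (a₁ i - a₂ i)) * hs2 i
        _ = 4 := by
            rw [Finset.sum_sub_distrib, Finset.sum_add_distrib, ← Finset.mul_sum, h1, h2, h12]; norm_num
    omega
  obtain ⟨v, hc⟩ := small (n := 1) (by norm_num) h3
  obtain ⟨i0, hi0⟩ := Finset.card_eq_one.1 hc
  have hz : ∀ i, i ≠ i0 → s i = 0 := by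
    intro i hi
    by_contra hne
    have : i ∈ Finset.univ.filter (fun i => s i ≠ 0) := by simp [hne]
    rw [hi0] at this
    exact hi (Finset.mem_singleton.1 this)
  have hs0 : s i0 ≠ 0 := by
    have : i0 ∈ Finset.univ.filter (fun i => s i ≠ 0) := by rw [hi0]; simp
    simpa using this
  have h5 : ∑ i, (s i : ℂ) • r i = 0 := by
    have h6 : (2 : ℂ) • ∑ i, (s i : ℂ) • r i = 0 := by
      rw [Finset.smul_sum]
      calc ∑ i, (2 : ℂ) • (s i : ℂ) • r i = ∑ i, ((a₁ i : ℂ) • r i - (a₂ i : ℂ) • r i) := by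
            refine Finset.sum_congr rfl fun i _ => ?_
            rw [smul_smul, ← sub_smul]
            congr 1
            exact_mod_cast hs2 i
        _ = 0 := by rw [Finset.sum_sub_distrib, r1, r2, sub_zero]
    exact (smul_eq_zero.1 h6).resolve_left two_ne_zero
  rw [Finset.sum_eq_single i0 (fun i _ hi => by rw [hz i hi]; simp) (fun h => absurd (Finset.mem_univ _) h)] at h5
  rcases smul_eq_zero.1 h5 with h6 | h6
  · exact hs0 (by exact_mod_cast h6)
  · exact hr _ h6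

variable {M : Ideal AlgInt} [M.IsMaximal] {G : Type u} [Group G] [Finite G] {z : G}
variable [CharP (ResF M) 2] [Algebra (ZMod 2) (ResF M)] [Algebra.IsAlgebraic (ZMod 2) (ResF M)]
  [IsAlgClosed (ResF M)]
variable {B : Set (IrrCharacter G)} {b : Set (IrrCharacter (C z))}

theorem exists_co {f : C z → ℂ} (hf : IsGeneralizedCharacter (C z) f) :
    ∃ a : IrrCharacter G → ℤ, ∀ χ : IrrCharacter G, classInner (In z f) (χ : G → ℂ) = a χ := by
  have h1 := In_gen hf
  choose a ha using fun χ : IrrCharacter G => inner_gen_intCast h1 (isGen_of_isIrr χ.2)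
  exact ⟨a, ha⟩

theorem sum_co (hz : orderOf z = 2) {f g : C z → ℂ} (hf : Ab z f) (hg : Ab z g) {a c : IrrCharacter G → ℤ}
    (ha : ∀ χ : IrrCharacter G, classInner (In z f) (χ : G → ℂ) = a χ)
    (hc : ∀ χ : IrrCharacter G, classInner (In z g) (χ : G → ℂ) = c χ) {k : ℤ}
    (hk : classInner f g = k) : ∑ χ, a χ * c χ = k := by
  have h1 := inner_int_sum (In_class f) ha hc
  rw [In_inner hz hf hg, hk] at h1
  exact_mod_cast h1.symm

theorem rel_co (hz : orderOf z = 2) {f : C z → ℂ} (hf : Ab z f) {a : IrrCharacter G → ℤ}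
    (ha : ∀ χ : IrrCharacter G, classInner (In z f) (χ : G → ℂ) = a χ) :
    ∑ χ : IrrCharacter G, (a χ : ℂ) • pRegularPart 2 (χ : G → ℂ) = 0 := by
  have h1 := mem_classFun_expand (In_class f)
  have h0 := In_reg0 hz hf
  funext g
  rw [Finset.sum_apply]
  by_cases hg : 2 ∣ orderOf g
  · apply Finset.sum_eq_zero
    intro χ _
    rw [Pi.smul_apply, H81.Contrib.pRegularPart_eq, reg_not hg, smul_zero]
  · have h2 := congrFun h0 g
    rw [reg_of hg, h1, Finset.sum_apply] at h2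
    rw [← h2]
    apply Finset.sum_congr rfl
    intro χ _
    rw [Pi.smul_apply, Pi.smul_apply, H81.Contrib.pRegularPart_eq, reg_of hg, ha]

theorem co_comp (hM : IsPModular 2 M) (hz : orderOf z = 2) (hb : IsPBlock M b) {f : C z → ℂ} (hf : f ∈ Vb 2 b)
    (χ : IrrCharacter G) : classInner (In z (sh (cy z) f)) (χ : G → ℂ) = classInner f (comp 2 z b (χ : G → ℂ)) := by
  haveI := pm_isPrime hM
  rw [In_coef _ (isClassFunction_of_isIrr χ.2), sh_inner (cy_sq hz)]
  unfold comp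
  rw [inner_Vb hM (isUnion_of_isPBlock hb) hf]
  rfl

theorem Vb_reg (hM : IsPModular 2 M) (hb : IsPBlock M b) {f : C z → ℂ} (hf : f ∈ Vb 2 b) : reg 2 f = f ∧
    IsClassFunction (C z) f := by
  haveI := pm_isPrime hM
  obtain ⟨h1, h2, h3⟩ := mem_Vb hM (isUnion_of_isPBlock hb) hf
  exact ⟨h2, h1⟩

end H5.TEf
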