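import Cfsg.Agent.Lib.H5.TEf

/-!
# The numerical data of the block, continued
-/

set_option autoImplicit false
set_option linter.unusedSectionVars false
set_option linter.unusedVariables false

namespace H5.TEh

open Cfsg H20.Loc H20.GA H80.GA H80.GB H80.GD H80.GE H80.GF H80.GJ H80.FS H80.FS3 H84.RG H18.CharBasic H18.CharOrtho H18.CharInd H84.TrR
open H20.Blk H20.Orth H20.Ind H20.Height H20.Defect H80.BR1 H80.BR2 H19.Second H19.Second3 H81.Section H81.Contrib H84.Star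
open H5.DBa H5.DBd H5.TBa H5.TBb H5.TBe H5.TBf H5.TBg H5.TBh H5.TBi H5.TBj H78.BlkCount H5.TCa
open H5.TBc H5.TBd H5.TDa H5.TDb H5.TDe H5.TDf H5.TDg H5.TDi H5.TDj H5.TDk H5.TDl H5.TDm H20.NormQ H5.TEa H5.TEb H5.TEc
open H5.TEd H5.TEg H5.TEx H5.TEf
open scoped ComplexConjugate

universe u

attribute [local instance 2000] Fintype.ofFinite

variable {M : Ideal AlgInt} [M.IsMaximal] {G : Type u} [Group G] [Finite G] {z : G}
variable [CharP (ResF M) 2] [Algebra (ZMod 2) (ResF M)] [Algebra.IsAlgebraic (ZMod 2) (ResF M)]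
  [IsAlgClosed (ResF M)]
variable {B : Set (IrrCharacter G)} {b : Set (IrrCharacter (C z))} {k : ℕ} {C0 Ea Eb : C z → ℂ}
  {Ec : Fin (2 ^ (k - 2) - 2) → C z → ℂ}

/-- induced functions belong to the induced block -/
theorem In_spn (hM : IsPModular 2 M) (hz : orderOf z = 2) (hind : IsInducedBlock M (C z) b B) {f : C z → ℂ}
    (hf : Ab z f) (hfs : f ∈ spn b) : In z f ∈ spn B := by
  apply ind_spn hM hind hfs
  intro h hne x hx
  have h1 := hf.sup h hne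
  have h2 : z ∈ Subgroup.zpowers x := by
    haveI : Fact (Nat.Prime 2) := ⟨Nat.prime_two⟩
    obtain ⟨y, h3, h4, h5, h6⟩ := hx
    rw [← h3] at h1
    obtain ⟨n, hn⟩ := h1
    have hn' : (x * y) ^ n = z := hn
    rw [h4.mul_zpow] at hn'
    -- raise to the odd order of y
    set r := orderOf y with hr
    have h7 : z ^ r = z := by
      have hodd : r % 2 = 1 := by omega
      have : z ^ 2 = 1 := by rw [← hz, pow_orderOf_eq_one]
      have h8 : r = 2 * (r / 2) + 1 := by omega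
      rw [h8, pow_succ, pow_mul, this, one_pow, one_mul]
    refine ⟨n * r, ?_⟩
    change x ^ (n * (r : ℤ)) = z
    rw [← h7, ← hn', (((h4.zpow_zpow n n)).mul_pow r), ← zpow_natCast, ← zpow_mul, ← zpow_natCast (y ^ n) r, ← zpow_mul,
      mul_comm n (r : ℤ), zpow_mul y, zpow_natCast y r, hr, pow_orderOf_eq_one, one_zpow, mul_one]
  intro g hg
  rw [Subgroup.mem_centralizer_singleton_iff] at hg ⊢
  obtain ⟨n, hn⟩ := h2
  have hn' : x ^ n = z := hn
  rw [← hn']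
  have hc : Commute g x := hg
  exact (hc.zpow_right n).eq

theorem co_zero (hM : IsPModular 2 M) (hz : orderOf z = 2) (hind : IsInducedBlock M (C z) b B) {f : C z → ℂ}
    (hf : Ab z f) (hfs : f ∈ spn b) {a : IrrCharacter G → ℤ}
    (ha : ∀ χ : IrrCharacter G, classInner (In z f) (χ : G → ℂ) = a χ) {χ : IrrCharacter G} (hχ : χ ∉ B) : a χ = 0 := by
  have h1 := coef_zero (In_spn hM hz hind hf hfs) hχ
  rw [ha] at h1
  exact_mod_cast h1

theorem sh_spn {K : Type u} [Group K] [Finite K] {w : K} (hw : w * w = 1) (hcw : ∀ y : K, y * w = w * y)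
    {b : Set (IrrCharacter K)} {f : K → ℂ}
    (hf : f ∈ spn b) : sh w f ∈ spn b := by
  refine mem_spn_of (sh_class hcw (class_of_mem_spn hf)) fun ξ hξ => ?_
  obtain ⟨ω, hω0, hω, hωn⟩ := H81.CentralVal.exists_central ξ.2 (Subgroup.mem_center_iff.2 hcw)
  have hsh : sh w (ξ : K → ℂ) = ω • (ξ : K → ℂ) := by
    funext g
    exact hω g
  rw [sh_inner hw, hsh, H18.CharOrtho.inner_smul_right, coef_zero hf hξ, mul_zero]

theorem Vb_spn (hM : IsPModular 2 M) {K : Type u} [Group K] [Finite K] {b : Set (IrrCharacter K)} (hb : IsPBlock M b)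
    {f : K → ℂ} (hf : f ∈ Vb 2 b) : f ∈ spn b := by
  haveI := pm_isPrime hM
  obtain ⟨h1, h2, h3⟩ := mem_Vb hM (isUnion_of_isPBlock hb) hf
  rw [← h3]
  exact proj_mem_spn b _

theorem sum_S [DecidablePred (· ∈ B)] {c d : IrrCharacter G → ℤ} (h : ∀ χ, χ ∉ B → c χ = 0) :
    ∑ χ ∈ Finset.univ.filter (· ∈ B), c χ * d χ = ∑ χ, c χ * d χ := by
  apply Finset.sum_subset (Finset.subset_univ _)
  intro χ _ hχ
  rw [Finset.mem_filter, not_and] at hχ
  rw [h χ (hχ (Finset.mem_univ _)), zero_mul]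

/-- the numerical data -/
structure GN (B : Set (IrrCharacter G)) (z : G) (Ea Eb C0 : C z → ℂ) (a₁ a₂ c : IrrCharacter G → ℤ)
    (X Y₁ Y₂ Y₃ Y₄ : IrrCharacter G) : Prop where
  ha : ∀ χ : IrrCharacter G, classInner (In z Ea) (χ : G → ℂ) = a₁ χ
  hb : ∀ χ : IrrCharacter G, classInner (In z Eb) (χ : G → ℂ) = a₂ χ
  hc : ∀ χ : IrrCharacter G, classInner (In z (sh (cy z) C0)) (χ : G → ℂ) = c χ
  two : Two a₁ a₂ X Y₁ Y₂ Y₃ Y₄
  O : ∀ i, (i ∈ B ∧ c i % 2 = 1) ↔ i = Y₁ ∨ i = Y₂ ∨ i = Y₃ ∨ i = Y₄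
  mX : X ∈ B
  z0 : ∀ χ, χ ∉ B → c χ = 0

theorem exists_gn (hM : IsPModular 2 M) (hz : orderOf z = 2) (hind : IsInducedBlock M (C z) b B)
    (pk : Pk b (cy z) k C0 Ea Eb Ec)
    (hpar : ∃ W, IsGeneralizedCharacter (C z) W ∧ Ea + Eb + sh (cy z) C0 = (2 : ℂ) • W) :
    ∃ a₁ a₂ c X Y₁ Y₂ Y₃ Y₄, GN B z Ea Eb C0 a₁ a₂ c X Y₁ Y₂ Y₃ Y₄ := by
  classical
  have abA := ab_of_ev pk.ea
  have abB := ab_of_ev pk.eb
  obtain ⟨rC, cC⟩ := Vb_reg hM hind.1 pk.cV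
  have abC : Ab z (sh (cy z) C0) := ab_of_sh hz cC rC
  obtain ⟨a₁, ha⟩ := exists_co (G := G) pk.ga
  obtain ⟨a₂, hb⟩ := exists_co (G := G) pk.gb
  obtain ⟨c, hc⟩ := exists_co (G := G) (sh_gen (cy_sq hz) (cy_cen z) pk.cg)
  obtain ⟨W, hW, hWe⟩ := hpar
  obtain ⟨w, hw⟩ := exists_co (G := G) hW
  have h11 := sum_co hz abA abA ha ha (k := 3) (by rw [pk.aa]; norm_num)
  have h22 := sum_co hz abB abB hb hb (k := 3) (by rw [pk.bb]; norm_num)
  have h12 := sum_co hz abA abB ha hb (k := 1) (by rw [pk.ab]; norm_num)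
  have hr : ∀ χ : IrrCharacter G, pRegularPart 2 (χ : G → ℂ) ≠ 0 := by
    intro χ h0
    have h1 := congrFun h0 1
    rw [H81.Contrib.pRegularPart_eq, reg_of (by rw [orderOf_one]; norm_num)] at h1
    exact irr_one_ne_zero χ.2 h1
  obtain ⟨X, Y₁, Y₂, Y₃, Y₄, t⟩ := exists_two h11 h22 h12 (hodd_of h11 h22 h12 hr (rel_co hz abA ha) (rel_co hz abB hb))
  have hpar' : ∀ χ, a₁ χ + a₂ χ + c χ = 2 * w χ := by
    intro χ
    have h1 : ((a₁ χ + a₂ χ + c χ : ℤ) : ℂ) = ((2 * w χ : ℤ) : ℂ) := by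
      push_cast
      rw [← ha, ← hb, ← hc, ← hw, ← H18.CharOrtho.inner_add_left, ← H18.CharOrtho.inner_add_left, ← In_add, ← In_add,
        hWe, In_smul, H18.CharOrtho.inner_smul_left]
    exact_mod_cast h1
  have hza : ∀ χ, χ ∉ B → a₁ χ = 0 := fun χ hχ => co_zero hM hz hind abA pk.ea.mem ha hχ
  have hzb : ∀ χ, χ ∉ B → a₂ χ = 0 := fun χ hχ => co_zero hM hz hind abB pk.eb.mem hb hχ
  have hzc : ∀ χ, χ ∉ B → c χ = 0 := fun χ hχ =>
    co_zero hM hz hind abC (sh_spn (cy_sq hz) (cy_cen z) (Vb_spn hM hind.1 pk.cV)) hc hχ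
  refine ⟨a₁, a₂, c, X, Y₁, Y₂, Y₃, Y₄, ha, hb, hc, t, ?_, ?_, hzc⟩
  · intro i
    have hp := hpar' i
    constructor
    · rintro ⟨-, h1⟩
      by_contra hno
      push Not at hno
      obtain ⟨n1, n2, n3, n4⟩ := hno
      by_cases hX : i = X
      · rw [hX, t.hX'] at hp
        rw [hX] at h1
        omega
      · rw [t.z1 i hX n1 n2, t.z2 i hX n3 n4] at hp
        omega
    · have key : ∀ Y, (a₁ Y + a₂ Y = 1 ∨ a₁ Y + a₂ Y = -1) → Y ∈ B ∧ c Y % 2 = 1 := by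
        intro Y hY
        have hp := hpar' Y
        refine ⟨?_, by omega⟩
        by_contra hno
        rw [hza Y hno, hzb Y hno] at hY
        norm_num at hY
      rintro (rfl | rfl | rfl | rfl)
      · apply key
        rw [t.z2 _ t.n1 t.n13 t.n14, add_zero]; exact t.h1
      · apply key
        rw [t.z2 _ t.n2 t.n23 t.n24, add_zero]; exact t.h2
      · apply key
        rw [t.z1 _ t.n3 t.n13.symm t.n23.symm, zero_add]; exact t.h3
      · apply key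
        rw [t.z1 _ t.n4 t.n14.symm t.n24.symm, zero_add]; exact t.h4
  · by_contra hno
    have h1 := hza X hno
    rcases t.hX with h2 | h2 <;> omega

variable {a₁ a₂ c : IrrCharacter G → ℤ} {X Y₁ Y₂ Y₃ Y₄ : IrrCharacter G}

/-- relations for the functions on the section of `z` -/
theorem rel_f (hM : IsPModular 2 M) (hz : orderOf z = 2) (hind : IsInducedBlock M (C z) b B)
    (pk : Pk b (cy z) k C0 Ea Eb Ec) (N : GN B z Ea Eb C0 a₁ a₂ c X Y₁ Y₂ Y₃ Y₄) {f : C z → ℂ} (hf : f ∈ Vb 2 b)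
    {α : IrrCharacter G → ℤ} (hα : ∀ χ : IrrCharacter G, classInner (In z (sh (cy z) f)) (χ : G → ℂ) = α χ) :
    a₁ X * α X + a₁ Y₁ * α Y₁ + a₁ Y₂ * α Y₂ = 0 ∧ a₁ X * α X + a₂ Y₃ * α Y₃ + a₂ Y₄ * α Y₄ = 0 := by
  classical
  have abA := ab_of_ev pk.ea
  have abB := ab_of_ev pk.eb
  obtain ⟨rC, cC⟩ := Vb_reg hM hind.1 hf
  have abF : Ab z (sh (cy z) f) := ab_of_sh hz cC rC
  have t := N.two
  have h1 := sum_co hz abA abF N.ha hα (k := 0) (by rw [ev_sh hz pk.ea rC]; norm_num)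
  have h2 := sum_co hz abB abF N.hb hα (k := 0) (by rw [ev_sh hz pk.eb rC]; norm_num)
  rw [sum3 _ t.n1.symm t.n2.symm t.n12 (fun i i1 i2 i3 => by rw [t.z1 i i1 i2 i3, zero_mul])] at h1
  rw [sum3 _ t.n3.symm t.n4.symm t.n34 (fun i i1 i2 i3 => by rw [t.z2 i i1 i2 i3, zero_mul]), t.hX'] at h2
  exact ⟨h1, h2⟩

theorem sum_f (hM : IsPModular 2 M) (hz : orderOf z = 2) (hb : IsPBlock M b) {f g : C z → ℂ} (hf : f ∈ Vb 2 b)
    (hg : g ∈ Vb 2 b) {α β : IrrCharacter G → ℤ}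
    (hα : ∀ χ : IrrCharacter G, classInner (In z (sh (cy z) f)) (χ : G → ℂ) = α χ)
    (hβ : ∀ χ : IrrCharacter G, classInner (In z (sh (cy z) g)) (χ : G → ℂ) = β χ) {m : ℤ}
    (hm : classInner f g = m) : ∑ χ, α χ * β χ = m := by
  obtain ⟨rf, cf⟩ := Vb_reg hM hb hf
  obtain ⟨rg, cg⟩ := Vb_reg hM hb hg
  exact sum_co hz (ab_of_sh hz cf rf) (ab_of_sh hz cg rg) hα hβ (by rw [sh_inner2 (cy_sq hz), hm])

theorem odd4 [DecidablePred (· ∈ B)] [DecidableEq (IrrCharacter G)] (N : GN B z Ea Eb C0 a₁ a₂ c X Y₁ Y₂ Y₃ Y₄) :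
    ((Finset.univ.filter (· ∈ B)).filter (fun i => c i % 2 = 1)).card = 4 := by
  have t := N.two
  have h1 : (Finset.univ.filter (· ∈ B)).filter (fun i => c i % 2 = 1) = {Y₁, Y₂, Y₃, Y₄} := by
    ext i
    rw [Finset.mem_filter, Finset.mem_filter]
    have := N.O i
    simp only [Finset.mem_univ, true_and, Finset.mem_insert, Finset.mem_singleton]
    exact this
  rw [h1, Finset.card_insert_of_notMem, Finset.card_insert_of_notMem, Finset.card_insert_of_notMem,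
    Finset.card_singleton]
  · simp [t.n34]
  · simp [t.n23, t.n24]
  · simp [t.n12, t.n13, t.n14]

/-- the numerical data in terms of a matrix -/
theorem num_of (hM : IsPModular 2 M) (hz : orderOf z = 2) (hind : IsInducedBlock M (C z) b B)
    (hd : blockDefect 2 b = blockDefect 2 B) (hd' : blockDefect 2 b = k + 1) (hk : 3 ≤ k)
    (pk : Pk b (cy z) k C0 Ea Eb Ec) (N : GN B z Ea Eb C0 a₁ a₂ c X Y₁ Y₂ Y₃ Y₄)
    [DecidablePred (· ∈ B)] [DecidableEq (IrrCharacter G)] {Mz : IrrCharacter G → IrrCharacter G → ℤ}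
    (hMz : ∀ i j : IrrCharacter G, (2 : ℂ) ^ (k + 1) * classInner (comp 2 z b (i : G → ℂ)) (comp 2 z b (j : G → ℂ)) = Mz i j)
    (hp : ∀ i j, (Mz i j - c i * c j) % 2 = 0) :
    Num (Finset.univ.filter (· ∈ B)) (fun i => blockHeight 2 B (i : G → ℂ)) (2 ^ (k - 2)) c Mz := by
  obtain ⟨rC, cC⟩ := Vb_reg hM hind.1 pk.cV
  refine ⟨?_, odd4 N, ?_, ?_, hp⟩
  · rw [sum_S N.z0, sum_f hM hz hind.1 pk.cV pk.cV N.hc N.hc (m := 8 * ((2 ^ (k - 2) : ℕ) : ℤ))]
    rw [pk.cn]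
    have h1 : (2 : ℂ) ^ k = 2 ^ (k - 2) * 4 := by
      rw [show (4 : ℂ) = 2 ^ 2 by norm_num, ← pow_add]; congr 1; omega
    rw [h1]; push_cast; ring
  · intro i hi j hj hj0
    rw [Finset.mem_filter] at hi hj
    have hzp : ∃ k : ℕ, orderOf z = 2 ^ k := ⟨1, by rw [hz, pow_one]⟩
    obtain ⟨v, v1, v2, v3⟩ := height_val2 hM hzp hind hd hi.2 hj.2 hj0
    rw [hd', Nat.cast_ofNat, hMz] at v3
    have := int_val hM v1 v2 (h := blockHeight 2 B (i : G → ℂ)) (d := Mz i j) (by rw [v3]; norm_num)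
    exact_mod_cast this
  · obtain ⟨χ, hχ, h0⟩ := exists_height_zero hM hind.2.1
    exact ⟨χ, by rw [Finset.mem_filter]; exact ⟨Finset.mem_univ _, hχ⟩, h0⟩

end H5.TEh
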