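import Cfsg.Agent.Lib.H5.TEh

/-!
# Counting characters with families of functions vanishing on the regular elements
-/

set_option autoImplicit false
set_option linter.unusedSectionVars false
set_option linter.unusedVariables false

namespace H5.TEi

open Cfsg H20.Loc H20.GA H80.GA H80.GB H80.GD H80.GE H80.GF H80.GJ H80.FS H80.FS3 H84.RG H18.CharBasic H18.CharOrtho H18.CharInd H84.TrR
open H20.Blk H20.Orth H20.Ind H20.Height H20.Defect H80.BR1 H80.BR2 H19.Second H19.Second3 H81.Section H81.Contrib H84.Star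
open H5.DBa H5.DBd H5.TBa H5.TBb H5.TBe H5.TBf H5.TBg H5.TBh H5.TBi H5.TBj H78.BlkCount H5.TCa
open H5.TBc H5.TBd H5.TDa H5.TDb H5.TDe H5.TDf H5.TDg H5.TDi H5.TDj H5.TDk H5.TDl H5.TDm H20.NormQ H5.TEa H5.TEb H5.TEc
open H5.TEd H5.TEg H5.TEx H5.TEf H5.TEh
open scoped ComplexConjugate

universe u

attribute [local instance 2000] Fintype.ofFinite

section
variable {G : Type u} [Group G] [Finite G]

theorem indep_sum {ι κ : Type*} [Fintype ι] [Fintype κ] {v : ι → G → ℂ} {w : κ → G → ℂ} (hv : LinearIndependent ℂ v)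
    (hw : LinearIndependent ℂ w) (ho : ∀ i j, classInner (v i) (w j) = 0) : LinearIndependent ℂ (Sum.elim v w) := by
  classical
  apply hv.sum_type hw
  rw [Submodule.disjoint_def]
  intro x hx hy
  obtain ⟨c, hc⟩ := (Submodule.mem_span_range_iff_exists_fun ℂ).1 hx
  obtain ⟨d, hd⟩ := (Submodule.mem_span_range_iff_exists_fun ℂ).1 hy
  apply inner_self_zero
  have e : classInner x x = classInner (∑ i, c i • v i) (∑ j, d j • w j) := by rw [hc, hd]
  rw [e, inner_sum_left]
  refine Finset.sum_eq_zero fun i _ => ?_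
  rw [inner_sum_right]
  refine Finset.sum_eq_zero fun j _ => ?_
  rw [H18.CharOrtho.inner_smul_left, H18.CharOrtho.inner_smul_right, ho, mul_zero, mul_zero]

theorem indep_one {x : G → ℂ} (hx : x ≠ 0) : LinearIndependent ℂ (fun _ : Unit => x) := by
  apply indep_of_orth (fun _ => hx)
  intro i j hij
  exact absurd (Subsingleton.elim _ _) hij

end

variable {M : Ideal AlgInt} [M.IsMaximal] {G : Type u} [Group G] [Finite G] {z : G}
variable [CharP (ResF M) 2] [Algebra (ZMod 2) (ResF M)] [Algebra.IsAlgebraic (ZMod 2) (ResF M)]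
  [IsAlgClosed (ResF M)]
variable {B : Set (IrrCharacter G)} {b : Set (IrrCharacter (C z))} {k : ℕ} {C0 Ea Eb : C z → ℂ}
  {Ec : Fin (2 ^ (k - 2) - 2) → C z → ℂ}

/-- the odd functions -/
structure Odd (B : Set (IrrCharacter G)) (z : G) (q : ℕ) (o : Fin (q - 1) → G → ℂ) : Prop where
  lin : LinearIndependent ℂ o
  mem : ∀ i, o i ∈ spn B
  reg : ∀ i, reg 2 (o i) = 0
  ev : ∀ i (f : C z → ℂ), IsClassFunction (C z) f → (∀ c : C z, f c ≠ 0 → z ∈ Subgroup.zpowers (c : G)) →
        (∀ c c' : C z, (c' : G) = z * c → f c' = f c) → classInner (o i) (indFun (C z) f) = 0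
  sec : ∀ i (f : C z → ℂ), (∀ c : C z, f c ≠ 0 → ¬ 2 ∣ orderOf (z * (c : G))) →
        classInner (o i) (indFun (C z) f) = 0

theorem odd_ev {q : ℕ} {o : Fin (q - 1) → G → ℂ} (h : Odd B z q o) {f : C z → ℂ} (hf : EvF b (cy z) f) (i : Fin (q - 1)) :
    classInner (o i) (In z f) = 0 := by
  have hab := ab_of_ev hf
  apply h.ev i f hab.cl hab.sup
  intro c c' hcc
  have : c' = cy z * c := Subtype.ext hcc
  rw [this, hf.inv]

theorem odd_sec {q : ℕ} {o : Fin (q - 1) → G → ℂ} (h : Odd B z q o) {f : C z → ℂ} (hf : H20.Orth.reg 2 f = f)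
    (i : Fin (q - 1)) : classInner (o i) (In z (sh (cy z) f)) = 0 := by
  apply h.sec i
  intro c hc h2
  apply hc
  show f (cy z * c) = 0
  rw [← hf, reg_not]
  rw [← Subgroup.orderOf_coe]
  exact h2

/-- the family -/
noncomputable def Fam (z : G) {m : ℕ} (C0 Ea Eb : C z → ℂ) (Ec : Fin m → C z → ℂ) :
    Option (Option (Option (Fin m))) → G → ℂ :=
  fam (In z (sh (cy z) C0)) (In z Ea) (In z Eb) (fun j => In z (Ec j))

/-- the linear functional given by a function -/
noncomputable def fun_of {G : Type u} [Group G] [Finite G] (x : G → ℂ) : (G → ℂ) →ₗ[ℂ] ℂ where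
  toFun f := classInner f x
  map_add' f g := H18.CharOrtho.inner_add_left f g _
  map_smul' c f := by rw [H18.CharOrtho.inner_smul_left]; rfl

theorem fam_lin (hM : IsPModular 2 M) (hz : orderOf z = 2) (hb : IsPBlock M b)
    (pk : Pk b (cy z) k C0 Ea Eb Ec) : LinearIndependent ℂ (Fam z C0 Ea Eb Ec) := by
  have abA := ab_of_ev pk.ea
  have abB := ab_of_ev pk.eb
  have abc := fun j => ab_of_ev (pk.ec j)
  obtain ⟨rC, cC⟩ := Vb_reg hM hb pk.cV
  have abC : Ab z (sh (cy z) C0) := ab_of_sh hz cC rC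
  have sw : ∀ f g : C z → ℂ, classInner f g = 1 → classInner g f = 1 := by
    intro f g h1
    rw [← H18.CharOrtho.inner_conj_symm, h1, map_one]
  unfold Fam
  apply indep (fun_of (In z (sh (cy z) C0)))
  · change classInner _ _ ≠ 0
    rw [In_inner hz abC abC, sh_inner2 (cy_sq hz), pk.cn]
    exact mul_ne_zero two_ne_zero (pow_ne_zero _ two_ne_zero)
  · change classInner _ _ = 0
    rw [In_inner hz abA abC, ev_sh hz pk.ea rC]
  · change classInner _ _ = 0
    rw [In_inner hz abB abC, ev_sh hz pk.eb rC]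
  · intro j
    change classInner _ _ = 0
    rw [In_inner hz (abc j) abC, ev_sh hz (pk.ec j) rC]
  · rw [In_inner hz abA abA, pk.aa]
  · rw [In_inner hz abB abB, pk.bb]
  · rw [In_inner hz abA abB, pk.ab]
  · rw [In_inner hz abB abA]; exact sw _ _ pk.ab
  · intro j; rw [In_inner hz (abc j) abA]; exact sw _ _ (pk.ac j)
  · intro j; rw [In_inner hz (abc j) abB]; exact sw _ _ (pk.bc j)
  · intro j; rw [In_inner hz abA (abc j), pk.ac]
  · intro j; rw [In_inner hz abB (abc j), pk.bc]
  · intro i j; rw [In_inner hz (abc i) (abc j), pk.cc]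

theorem count_fam (hM : IsPModular 2 M) (hz : orderOf z = 2) (hind : IsInducedBlock M (C z) b B) (hk : 3 ≤ k)
    (pk : Pk b (cy z) k C0 Ea Eb Ec) {o : Fin (2 ^ (k - 2) - 1) → G → ℂ} (ho : Odd B z (2 ^ (k - 2)) o)
    {x : C z → ℂ} (hx : Ab z x) (hxs : x ∈ spn b) (hx0 : x ≠ 0)
    (xC : classInner (sh (cy z) C0) x = 0) (xa : classInner Ea x = 0) (xb : classInner Eb x = 0)
    (xc : ∀ j, classInner (Ec j) x = 0) (xo : ∀ i, classInner (o i) (In z x) = 0) :
    2 * 2 ^ (k - 2) + 1 + blockRank 2 B ≤ Nat.card B := by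
  have abA := ab_of_ev pk.ea
  have abB := ab_of_ev pk.eb
  have abc := fun j => ab_of_ev (pk.ec j)
  obtain ⟨rC, cC⟩ := Vb_reg hM hind.1 pk.cV
  have abC : Ab z (sh (cy z) C0) := ab_of_sh hz cC rC
  have cs : sh (cy z) C0 ∈ spn b := sh_spn (cy_sq hz) (cy_cen z) (Vb_spn hM hind.1 pk.cV)
  have h1 := fam_lin hM hz hind.1 pk
  have hfo : ∀ i j, classInner (Fam z C0 Ea Eb Ec i) (o j) = 0 := by
    intro i j
    apply zero_swap'
    match i with
    | none => exact odd_sec ho rC j
    | some none => exact odd_ev ho pk.ea j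
    | some (some none) => exact odd_ev ho pk.eb j
    | some (some (some l)) => exact odd_ev ho (pk.ec l) j
  have h2 := indep_sum h1 ho.lin hfo
  have hxne : In z x ≠ 0 := by
    intro h0
    have h3 := In_inner hz hx hx
    rw [h0, H18.CharOrtho.inner_zero_left] at h3
    exact hx0 (inner_self_zero h3.symm)
  have h3 : ∀ i, ∀ j : Unit, classInner (Sum.elim (Fam z C0 Ea Eb Ec) o i) ((fun _ : Unit => In z x) j) = 0 := by
    rintro (i | i) j
    · change classInner (Fam z C0 Ea Eb Ec i) (In z x) = 0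
      match i with
      | none => exact (In_inner hz abC hx).trans xC
      | some none => exact (In_inner hz abA hx).trans xa
      | some (some none) => exact (In_inner hz abB hx).trans xb
      | some (some (some l)) => exact (In_inner hz (abc l) hx).trans (xc l)
    · exact xo i
  have h4 := indep_sum h2 (indep_one hxne) h3
  have h5 := rank_add_le (p := 2) (B := B) h4 (by
    rintro ((i | i) | i)
    · match i with
      | none => exact In_spn hM hz hind abC cs
      | some none => exact In_spn hM hz hind abA pk.ea.mem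
      | some (some none) => exact In_spn hM hz hind abB pk.eb.mem
      | some (some (some l)) => exact In_spn hM hz hind (abc l) (pk.ec l).mem
    · exact ho.mem i
    · exact In_spn hM hz hind hx hxs) (by
    rintro ((i | i) | i)
    · match i with
      | none => exact In_reg0 hz abC
      | some none => exact In_reg0 hz abA
      | some (some none) => exact In_reg0 hz abB
      | some (some (some l)) => exact In_reg0 hz (abc l)
    · exact ho.reg i
    · exact In_reg0 hz hx)
  have h6 : Nat.card ((Option (Option (Option (Fin (2 ^ (k - 2) - 2)))) ⊕ Fin (2 ^ (k - 2) - 1)) ⊕ Unit) =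
      ((2 ^ (k - 2) - 2) + 3) + (2 ^ (k - 2) - 1) + 1 := by
    rw [Nat.card_sum, Nat.card_sum, Finite.card_option, Finite.card_option, Finite.card_option, Nat.card_fin,
      Nat.card_fin, Nat.card_unique]
  rw [h6] at h5
  have h7 : 2 ≤ 2 ^ (k - 2) := by
    calc 2 = 2 ^ 1 := by norm_num
      _ ≤ 2 ^ (k - 2) := Nat.pow_le_pow_right (by norm_num) (by omega)
  omega

end H5.TEi
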