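import Cfsg.Agent.Lib.H5.TEi
import Cfsg.Agent.Lib.H79.KLOne

/-!
# Block invariants of semidihedral defect groups: the cases
-/

set_option autoImplicit false
set_option linter.unusedSectionVars false
set_option linter.unusedVariables false

namespace H5.TEj

open Cfsg H20.Loc H20.GA H80.GA H80.GB H80.GD H80.GE H80.GF H80.GJ H80.FS H80.FS3 H84.RG H18.CharBasic H18.CharOrtho H18.CharInd H84.TrR
open H20.Blk H20.Orth H20.Ind H20.Height H20.Defect H80.BR1 H80.BR2 H19.Second H19.Second3 H81.Section H81.Contrib H84.Star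
open H5.DBa H5.DBd H5.TBa H5.TBb H5.TBe H5.TBf H5.TBg H5.TBh H5.TBi H5.TBj H78.BlkCount H5.TCa
open H5.TBc H5.TBd H5.TDa H5.TDb H5.TDe H5.TDf H5.TDg H5.TDi H5.TDj H5.TDk H5.TDl H5.TDm H20.NormQ H5.TEa H5.TEb H5.TEc
open H5.TEd H5.TEg H5.TEx H5.TEf H5.TEh H5.TEi
open scoped ComplexConjugate

universe u

attribute [local instance 2000] Fintype.ofFinite

/-- the conclusion -/
def Concl {G : Type u} [Group G] [Finite G] (B : Set (IrrCharacter G)) (n : ℕ) : Prop :=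
  (Nat.card B = 2 ^ (n - 2) + 3 ∨ Nat.card B = 2 ^ (n - 2) + 4) ∧ 1 ≤ Cfsg.blockRank 2 B ∧ Cfsg.blockRank 2 B ≤ 3 ∧ (Cfsg.blockRank 2 B = 3 → Nat.card B = 2 ^ (n - 2) + 4) ∧ (Cfsg.blockRank 2 B = 1 → Nat.card B = 2 ^ (n - 2) + 3) ∧ Nat.card {χ : Cfsg.IrrCharacter G // χ ∈ B ∧ Cfsg.blockHeight 2 B (χ : G → ℂ) = 0} = 4 ∧ Nat.card {χ : Cfsg.IrrCharacter G // χ ∈ B ∧ Cfsg.blockHeight 2 B (χ : G → ℂ) = 1} = 2 ^ (n - 2) - 1 ∧ ∀ χ ∈ B, Cfsg.blockHeight 2 B (χ : G → ℂ) = 0 ∨ Cfsg.blockHeight 2 B (χ : G → ℂ) = 1 ∨ Cfsg.blockHeight 2 B (χ : G → ℂ) = n - 2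

section card
variable {G : Type u} [Group G] [Finite G] {B : Set (IrrCharacter G)}

theorem card_B [DecidablePred (· ∈ B)] : Nat.card B = (Finset.univ.filter (· ∈ B)).card := by
  rw [← Fintype.card_subtype, ← Nat.card_eq_fintype_card]

theorem card_ht [DecidablePred (· ∈ B)] (m : ℕ) : Nat.card {χ : IrrCharacter G // χ ∈ B ∧ blockHeight 2 B (χ : G → ℂ) = m} =
    ((Finset.univ.filter (· ∈ B)).filter (fun χ : IrrCharacter G => blockHeight 2 B (χ : G → ℂ) = m)).card := by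
  rw [Finset.filter_filter, ← Fintype.card_subtype, ← Nat.card_eq_fintype_card]

end card

variable {M : Ideal AlgInt} [M.IsMaximal] {G : Type u} [Group G] [Finite G] {z : G}
variable [CharP (ResF M) 2] [Algebra (ZMod 2) (ResF M)] [Algebra.IsAlgebraic (ZMod 2) (ResF M)]
  [IsAlgClosed (ResF M)]
variable {B : Set (IrrCharacter G)} {b : Set (IrrCharacter (C z))} {k : ℕ} {C0 Ea Eb : C z → ℂ}
  {Ec : Fin (2 ^ (k - 2) - 2) → C z → ℂ}
variable {a₁ a₂ c : IrrCharacter G → ℤ} {X Y₁ Y₂ Y₃ Y₄ : IrrCharacter G}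

theorem two_pow (hk : 3 ≤ k) : 2 * 2 ^ (k - 2) = 2 ^ (k + 1 - 2) := by
  rw [← pow_succ']; congr 1; omega

theorem q_two (hk : 3 ≤ k) : 2 ^ (k - 2) % 2 = 0 := by
  have : k - 2 = (k - 3) + 1 := by omega
  rw [this, pow_succ]; omega

/-- all characters are at most of height one -/
theorem concl_a (hM : IsPModular 2 M) (hB : IsPBlock M B) (hk : 3 ≤ k)
    [DecidablePred (· ∈ B)] [DecidableEq (IrrCharacter G)] {Mz : IrrCharacter G → IrrCharacter G → ℤ}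
    (hnum : Num (Finset.univ.filter (· ∈ B)) (fun i : IrrCharacter G => blockHeight 2 B (i : G → ℂ)) (2 ^ (k - 2)) c Mz)
    (h4 : ∀ i j, (Mz i j - c i * c j) % 4 = 0) (h0 : ∀ i ∈ B, c i ≠ 0)
    (hN : 2 * 2 ^ (k - 2) + 1 + blockRank 2 B ≤ Nat.card B) : Concl B (k + 1) := by
  have hr := H79.KLOne.rank_pos (p := 2) hM hB
  rw [card_B] at hN
  obtain ⟨k1, k2, k3⟩ := conc1 hnum h4 (fun i hi => h0 i (Finset.mem_filter.1 hi).2) (by omega)
  have hc0 := hnum.card0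
  have e := two_pow hk
  unfold Concl
  rw [card_ht, card_ht, card_B, ← e]
  refine ⟨Or.inl k1, hr, by omega, by omega, fun _ => k1, hc0, k2, ?_⟩
  intro χ hχ
  rcases k3 χ (Finset.mem_filter.2 ⟨Finset.mem_univ _, hχ⟩) with h | h
  · exact Or.inl h
  · exact Or.inr (Or.inl h)

/-- the main case -/
theorem concl_b (hM : IsPModular 2 M) (hB : IsPBlock M B) (hk : 3 ≤ k) (hd : blockDefect 2 B = k + 1)
    [DecidablePred (· ∈ B)] [DecidableEq (IrrCharacter G)] {Mz : IrrCharacter G → IrrCharacter G → ℤ}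
    (hnum : Num (Finset.univ.filter (· ∈ B)) (fun i : IrrCharacter G => blockHeight 2 B (i : G → ℂ)) (2 ^ (k - 2)) c Mz)
    {A : IrrCharacter G → ℤ}
    (hMz : ∀ i j, Mz i j = c i * c j + (2 ^ (k - 2) : ℕ) * (A i * A j))
    (hA : ∑ i ∈ Finset.univ.filter (· ∈ B), A i * A i = 8) (hAc : ∀ i ∈ Finset.univ.filter (· ∈ B), (A i + c i) % 2 = 0)
    (hoc : ∑ i ∈ Finset.univ.filter (· ∈ B), A i * c i = 0)
    (t : Two a₁ a₂ X Y₁ Y₂ Y₃ Y₄)
    (hO : ∀ i, (i ∈ B ∧ c i % 2 = 1) ↔ i = Y₁ ∨ i = Y₂ ∨ i = Y₃ ∨ i = Y₄) (hX : X ∈ B)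
    (c1 : a₁ X * c X + a₁ Y₁ * c Y₁ + a₁ Y₂ * c Y₂ = 0 ∧ a₁ X * c X + a₂ Y₃ * c Y₃ + a₂ Y₄ * c Y₄ = 0)
    (A1 : a₁ X * A X + a₁ Y₁ * A Y₁ + a₁ Y₂ * A Y₂ = 0 ∧ a₁ X * A X + a₂ Y₃ * A Y₃ + a₂ Y₄ * A Y₄ = 0)
    (hN : 2 * 2 ^ (k - 2) + 1 + blockRank 2 B ≤ Nat.card B) : Concl B (k + 1) := by
  have hr := H79.KLOne.rank_pos (p := 2) hM hB
  rw [card_B] at hN
  obtain ⟨k1, k2, ⟨T, hT, hTh⟩, k3⟩ := conc2 (N := k - 2) (by omega) rfl hnum hMz hA hAc hoc (by omega) t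
    (fun i => by
      rw [Finset.mem_filter]
      have := hO i
      simp only [Finset.mem_univ, true_and]
      exact this) (Finset.mem_filter.2 ⟨Finset.mem_univ _, hX⟩) c1.1 c1.2 A1.1 A1.2
  have hc0 := hnum.card0
  have e := two_pow hk
  have hne : blockRank 2 B ≠ 1 := rank_ne_one hM hB hd (by omega) (Finset.mem_filter.1 hT).2 (by rw [hTh]; omega)
  unfold Concl
  rw [card_ht, card_ht, card_B, ← e]
  refine ⟨Or.inr k1, hr, by omega, fun _ => k1, fun h => absurd h hne, hc0, k2, ?_⟩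
  intro χ hχ
  rcases k3 χ (Finset.mem_filter.2 ⟨Finset.mem_univ _, hχ⟩) with h | h | h
  · exact Or.inl h
  · exact Or.inr (Or.inl h)
  · exact Or.inr (Or.inr (by rw [h]; omega))

/-- the contributions with one function -/
theorem mz1 (hM : IsPModular 2 M) (hz : orderOf z = 2) (hb : IsPBlock M b) (hk : 3 ≤ k) (hr : blockRank 2 b = 1)
    (cV : C0 ∈ Vb 2 b) (cn : classInner C0 C0 = 2 * 2 ^ k)
    (hc : ∀ χ : IrrCharacter G, classInner (In z (sh (cy z) C0)) (χ : G → ℂ) = c χ) (i j : IrrCharacter G) :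
    (2 : ℂ) ^ (k + 1) * classInner (comp 2 z b (i : G → ℂ)) (comp 2 z b (j : G → ℂ)) = ((c i * c j : ℤ) : ℂ) := by
  have hne : C0 ≠ 0 := by
    intro h0
    rw [h0, H18.CharOrtho.inner_zero_left] at cn
    exact (mul_ne_zero two_ne_zero (pow_ne_zero k two_ne_zero)) cn.symm
  have h1 := expand (W := Vb 2 b) (v := fun _ : Fin 1 => C0) (fun _ => cV) (fun _ => hne)
    (fun i j hij => absurd (Subsingleton.elim _ _) hij)
    (by rw [← Nat.card_eq_fintype_card, Nat.card_fin]; exact hr.le) (comp_mem (p := 2) (y := z) (b := b) (i : G → ℂ))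
    (comp 2 z b (j : G → ℂ))
  have h2 : classInner (comp 2 z b (i : G → ℂ)) C0 = c i := by
    rw [← H18.CharOrtho.inner_conj_symm, ← co_comp hM hz hb cV, hc, map_intCast]
  have h3 : classInner C0 (comp 2 z b (j : G → ℂ)) = c j := by rw [← co_comp hM hz hb cV, hc]
  rw [h1, Fintype.sum_unique, h2, h3, cn]
  have h4 : (2 : ℂ) ^ k ≠ 0 := pow_ne_zero _ two_ne_zero
  rw [pow_succ]
  push_cast
  field_simp

/-- the contributions with two functions -/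
theorem mz2 (hM : IsPModular 2 M) (hz : orderOf z = 2) (hb : IsPBlock M b) (hk : 3 ≤ k) (hr : blockRank 2 b = 2)
    (cV : C0 ∈ Vb 2 b) (cn : classInner C0 C0 = 2 * 2 ^ k) {A0 : C z → ℂ} (aV : A0 ∈ Vb 2 b) {r s : ℕ}
    (an : classInner A0 A0 = r) (hr0 : r ≠ 0) (hrs : 2 ^ (k + 1) = r * s) (hac : classInner A0 C0 = 0)
    (hc : ∀ χ : IrrCharacter G, classInner (In z (sh (cy z) C0)) (χ : G → ℂ) = c χ)
    {A : IrrCharacter G → ℤ}
    (hA : ∀ χ : IrrCharacter G, classInner (In z (sh (cy z) A0)) (χ : G → ℂ) = A χ) (i j : IrrCharacter G) :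
    (2 : ℂ) ^ (k + 1) * classInner (comp 2 z b (i : G → ℂ)) (comp 2 z b (j : G → ℂ)) =
      ((c i * c j + s * (A i * A j) : ℤ) : ℂ) := by
  have hne : C0 ≠ 0 := by
    intro h0
    rw [h0, H18.CharOrtho.inner_zero_left] at cn
    exact (mul_ne_zero two_ne_zero (pow_ne_zero k two_ne_zero)) cn.symm
  have hne' : A0 ≠ 0 := by
    intro h0
    rw [h0, H18.CharOrtho.inner_zero_left] at an
    exact hr0 (by exact_mod_cast an.symm)
  have hca : classInner C0 A0 = 0 := zero_swap' hac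
  have h1 := expand (W := Vb 2 b) (v := ![C0, A0])
    (fun ⟨i, hi⟩ => by interval_cases i; exacts [cV, aV])
    (fun ⟨i, hi⟩ => by interval_cases i; exacts [hne, hne'])
    (fun ⟨i, hi⟩ ⟨j, hj⟩ hij => by
      interval_cases i <;> interval_cases j <;>
        first | exact absurd rfl hij | exact hca | exact hac)
    (by rw [← Nat.card_eq_fintype_card, Nat.card_fin]; exact hr.le) (comp_mem (p := 2) (y := z) (b := b) (i : G → ℂ))
    (comp 2 z b (j : G → ℂ))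
  have key : ∀ (f : C z → ℂ) (hf : f ∈ Vb 2 b) (α : IrrCharacter G → ℤ),
      (∀ χ : IrrCharacter G, classInner (In z (sh (cy z) f)) (χ : G → ℂ) = α χ) →
      classInner (comp 2 z b (i : G → ℂ)) f = α i ∧ classInner f (comp 2 z b (j : G → ℂ)) = α j := by
    intro f hf α hα
    constructor
    · rw [← H18.CharOrtho.inner_conj_symm, ← co_comp hM hz hb hf, hα, map_intCast]
    · rw [← co_comp hM hz hb hf, hα]
  obtain ⟨e1, e2⟩ := key C0 cV c hc
  obtain ⟨e3, e4⟩ := key A0 aV A hA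
  have h5 : ∑ l, classInner (comp 2 z b (i : G → ℂ)) (![C0, A0] l) * (classInner (![C0, A0] l) (![C0, A0] l))⁻¹ *
      classInner (![C0, A0] l) (comp 2 z b (j : G → ℂ)) = (c i : ℂ) * (2 * 2 ^ k : ℂ)⁻¹ * c j + (A i : ℂ) * (r : ℂ)⁻¹ * A j := by
    rw [Fin.sum_univ_two]
    change classInner _ C0 * (classInner C0 C0)⁻¹ * classInner C0 _ + classInner _ A0 * (classInner A0 A0)⁻¹ * classInner A0 _ = _
    rw [e1, e2, e3, e4, cn, an]
  rw [h1, h5]
  have h4 : (2 : ℂ) ^ k ≠ 0 := pow_ne_zero _ two_ne_zero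
  have h6 : (r : ℂ) ≠ 0 := by exact_mod_cast hr0
  have h7 : (2 : ℂ) ^ (k + 1) = r * s := by exact_mod_cast hrs
  have h8 : (2 : ℂ) ^ (k + 1) * ((A i : ℂ) * (r : ℂ)⁻¹ * A j) = s * (A i * A j) := by
    rw [h7]; field_simp
  have h9 : (2 : ℂ) ^ (k + 1) * ((c i : ℂ) * (2 * 2 ^ k : ℂ)⁻¹ * c j) = c i * c j := by
    rw [pow_succ]; field_simp
  rw [mul_add, h8, h9]
  push_cast
  ring

end H5.TEj
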