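import Cfsg.Agent.Lib.H5.TEj

/-!
# Block invariants of semidihedral defect groups: the three cases
-/

set_option autoImplicit false
set_option linter.unusedSectionVars false
set_option linter.unusedVariables false

namespace H5.TEk

open Cfsg H20.Loc H20.GA H80.GA H80.GB H80.GD H80.GE H80.GF H80.GJ H80.FS H80.FS3 H84.RG H18.CharBasic H18.CharOrtho H18.CharInd H84.TrR
open H20.Blk H20.Orth H20.Ind H20.Height H20.Defect H80.BR1 H80.BR2 H19.Second H19.Second3 H81.Section H81.Contrib H84.Star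
open H5.DBa H5.DBd H5.TBa H5.TBb H5.TBe H5.TBf H5.TBg H5.TBh H5.TBi H5.TBj H78.BlkCount H5.TCa
open H5.TBc H5.TBd H5.TDa H5.TDb H5.TDe H5.TDf H5.TDg H5.TDi H5.TDj H5.TDk H5.TDl H5.TDm H20.NormQ H5.TEa H5.TEb H5.TEc
open H5.TEd H5.TEg H5.TEx H5.TEf H5.TEh H5.TEi H5.TEj
open scoped ComplexConjugate

universe u

attribute [local instance 2000] Fintype.ofFinite

variable {M : Ideal AlgInt} [M.IsMaximal] {G : Type u} [Group G] [Finite G] {z : G}
variable [CharP (ResF M) 2] [Algebra (ZMod 2) (ResF M)] [Algebra.IsAlgebraic (ZMod 2) (ResF M)]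
  [IsAlgClosed (ResF M)]
variable {B : Set (IrrCharacter G)} {b : Set (IrrCharacter (C z))} {k : ℕ} {C0 Ea Eb : C z → ℂ}
  {Ec : Fin (2 ^ (k - 2) - 2) → C z → ℂ}

theorem nz_of {S : Finset (IrrCharacter G)} {ht : IrrCharacter G → ℕ} {q : ℕ} {c : IrrCharacter G → ℤ}
    {Mz : IrrCharacter G → IrrCharacter G → ℤ} (h : Num S ht q c Mz) {i j : IrrCharacter G} (hi : i ∈ S) (hj : j ∈ S)
    (hj0 : ht j = 0) : Mz i j ≠ 0 := by
  intro h0
  apply (h.val i hi j hj hj0).2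
  rw [h0]; exact dvd_zero _

/-- the first case -/
theorem case_one (hM : IsPModular 2 M) (hB : IsPBlock M B) (hz : orderOf z = 2) (hind : IsInducedBlock M (C z) b B)
    (hk : 3 ≤ k) (hd : blockDefect 2 b = blockDefect 2 B) (hd' : blockDefect 2 b = k + 1) (hr : blockRank 2 b = 1)
    (pk : Pk b (cy z) k C0 Ea Eb Ec)
    (hpar : ∃ W, IsGeneralizedCharacter (C z) W ∧ Ea + Eb + sh (cy z) C0 = (2 : ℂ) • W)
    {o : Fin (2 ^ (k - 2) - 1) → G → ℂ} (ho : Odd B z (2 ^ (k - 2)) o)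
    {φ : C z → ℂ} (hφ : EvF b (cy z) φ) (hφ0 : φ ≠ 0) (xa : classInner Ea φ = 0) (xb : classInner Eb φ = 0)
    (xc : ∀ j, classInner (Ec j) φ = 0) : Concl B (k + 1) := by
  classical
  obtain ⟨a₁, a₂, c, X, Y₁, Y₂, Y₃, Y₄, N⟩ := exists_gn hM hz hind pk hpar
  obtain ⟨rC, cC⟩ := Vb_reg hM hind.1 pk.cV
  have num := num_of (Mz := fun i j => c i * c j) hM hz hind hd hd' hk pk N
    (mz1 hM hz hind.1 hk hr pk.cV pk.cn N.hc) (fun i j => by simp)
  have hN := count_fam hM hz hind hk pk ho (ab_of_ev hφ) hφ.mem hφ0 (zero_swap' (ev_sh hz hφ rC)) xa xb xc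
    (odd_ev ho hφ)
  refine concl_a hM hB hk num (fun i j => by simp) ?_ hN
  intro i hi h0
  obtain ⟨j, hj, hj0⟩ := num.ex0
  apply nz_of num (Finset.mem_filter.2 ⟨Finset.mem_univ _, hi⟩) hj hj0
  show c i * c j = 0
  rw [h0, zero_mul]

/-- the second function of the count -/
theorem count_two (hM : IsPModular 2 M) (hz : orderOf z = 2) (hind : IsInducedBlock M (C z) b B) (hk : 3 ≤ k)
    (pk : Pk b (cy z) k C0 Ea Eb Ec) {o : Fin (2 ^ (k - 2) - 1) → G → ℂ} (ho : Odd B z (2 ^ (k - 2)) o)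
    {A0 : C z → ℂ} (aV : A0 ∈ Vb 2 b) (hA0 : A0 ≠ 0) (hac : classInner A0 C0 = 0) :
    2 * 2 ^ (k - 2) + 1 + blockRank 2 B ≤ Nat.card B := by
  obtain ⟨rA, cA⟩ := Vb_reg hM hind.1 aV
  refine count_fam hM hz hind hk pk ho (ab_of_sh hz cA rA) (sh_spn (cy_sq hz) (cy_cen z) (Vb_spn hM hind.1 aV)) ?_ ?_
    (ev_sh hz pk.ea rA) (ev_sh hz pk.eb rA) (fun j => ev_sh hz (pk.ec j) rA) (odd_sec ho rA)
  · intro h0
    apply hA0
    rw [← sh_sh (cy_sq hz) A0, h0]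
    rfl
  · rw [sh_inner2 (cy_sq hz)]
    exact zero_swap' hac

/-- the second case -/
theorem case_two (hM : IsPModular 2 M) (hB : IsPBlock M B) (hz : orderOf z = 2) (hind : IsInducedBlock M (C z) b B)
    (hk : 3 ≤ k) (hd : blockDefect 2 b = blockDefect 2 B) (hd' : blockDefect 2 b = k + 1) (hr : blockRank 2 b = 2)
    (pk : Pk b (cy z) k C0 Ea Eb Ec)
    (hpar : ∃ W, IsGeneralizedCharacter (C z) W ∧ Ea + Eb + sh (cy z) C0 = (2 : ℂ) • W)
    {o : Fin (2 ^ (k - 2) - 1) → G → ℂ} (ho : Odd B z (2 ^ (k - 2)) o)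
    {A0 : C z → ℂ} (hA : KA b C0 A0) : Concl B (k + 1) := by
  classical
  obtain ⟨a₁, a₂, c, X, Y₁, Y₂, Y₃, Y₄, N⟩ := exists_gn hM hz hind pk hpar
  obtain ⟨A, hAc⟩ := exists_co (G := G) (sh_gen (cy_sq hz) (cy_cen z) hA.g)
  obtain ⟨H, hH⟩ := exists_co (G := G) (sh_gen (cy_sq hz) (cy_cen z) hA.half)
  obtain ⟨rA, cA⟩ := Vb_reg hM hind.1 hA.mV
  have hne : A0 ≠ 0 := by
    intro h0
    have := hA.nn
    rw [h0, H18.CharOrtho.inner_zero_left] at this
    norm_num at this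
  have hp : 2 ^ (k + 1) = 8 * 2 ^ (k - 2) := by
    rw [show (8 : ℕ) = 2 ^ 3 by norm_num, ← pow_add]; congr 1; omega
  have num := num_of (Mz := fun i j => c i * c j + (2 ^ (k - 2) : ℕ) * (A i * A j)) hM hz hind hd hd' hk pk N
    (mz2 (r := 8) (s := 2 ^ (k - 2)) hM hz hind.1 hk hr pk.cV pk.cn hA.mV (by rw [hA.nn]; norm_num) (by norm_num) hp
      hA.oC N.hc hAc) (fun i j => by
      have h1 := q_two hk
      have h2 : (((2 ^ (k - 2) : ℕ) : ℤ)) % 2 = 0 := by exact_mod_cast h1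
      have h3 := mul_even (b := A i * A j) h2
      rw [add_sub_cancel_left]
      exact h3)
  have hAz : ∀ χ, χ ∉ B → A χ = 0 := fun χ hχ =>
    co_zero hM hz hind (ab_of_sh hz cA rA) (sh_spn (cy_sq hz) (cy_cen z) (Vb_spn hM hind.1 hA.mV)) hAc hχ
  have hN := count_two hM hz hind hk pk ho hA.mV hne hA.oC
  refine concl_b hM hB hk (hd ▸ hd') num (A := A) (fun i j => rfl) ?_ ?_ ?_ N.two N.O N.mX
    (rel_f hM hz hind pk N pk.cV N.hc) (rel_f hM hz hind pk N hA.mV hAc) hN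
  · rw [sum_S hAz]
    exact sum_f hM hz hind.1 hA.mV hA.mV hAc hAc (by rw [hA.nn]; norm_num)
  · intro i _
    have h1 : ((c i + A i : ℤ) : ℂ) = ((2 * H i : ℤ) : ℂ) := by
      push_cast
      rw [← N.hc, ← hAc, ← hH, ← H18.CharOrtho.inner_add_left, ← In_add]
      have h2 : sh (cy z) C0 + sh (cy z) A0 = (2 : ℂ) • sh (cy z) ((2 : ℂ)⁻¹ • (C0 + A0)) := by
        funext g
        simp only [sh, Pi.add_apply, Pi.smul_apply, smul_eq_mul]
        ring
      rw [h2, In_smul, H18.CharOrtho.inner_smul_left]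
    have h2 : c i + A i = 2 * H i := by exact_mod_cast h1
    omega
  · rw [sum_S hAz]
    exact sum_f hM hz hind.1 hA.mV pk.cV hAc N.hc (by rw [hA.oC]; norm_num)

/-- the third case -/
theorem case_three (hM : IsPModular 2 M) (hB : IsPBlock M B) (hz : orderOf z = 2) (hind : IsInducedBlock M (C z) b B)
    (hk : 3 ≤ k) (hd : blockDefect 2 b = blockDefect 2 B) (hd' : blockDefect 2 b = k + 1) (hr : blockRank 2 b = 2)
    (pk : Pk b (cy z) k C0 Ea Eb Ec)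
    (hpar : ∃ W, IsGeneralizedCharacter (C z) W ∧ Ea + Eb + sh (cy z) C0 = (2 : ℂ) • W)
    {o : Fin (2 ^ (k - 2) - 1) → G → ℂ} (ho : Odd B z (2 ^ (k - 2)) o)
    {A0 : C z → ℂ} (hA : KB b C0 A0) : Concl B (k + 1) := by
  classical
  obtain ⟨a₁, a₂, c, X, Y₁, Y₂, Y₃, Y₄, N⟩ := exists_gn hM hz hind pk hpar
  obtain ⟨A, hAc⟩ := exists_co (G := G) (sh_gen (cy_sq hz) (cy_cen z) hA.g)
  obtain ⟨rA, cA⟩ := Vb_reg hM hind.1 hA.mV
  have hne : A0 ≠ 0 := by
    intro h0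
    have := hA.nn
    rw [h0, H18.CharOrtho.inner_zero_left] at this
    norm_num at this
  have hp : 2 ^ (k + 1) = 4 * 2 ^ (k - 1) := by
    rw [show (4 : ℕ) = 2 ^ 2 by norm_num, ← pow_add]; congr 1; omega
  have h4 : ∀ i j : IrrCharacter G, (c i * c j + (2 ^ (k - 1) : ℕ) * (A i * A j) - c i * c j) % 4 = 0 := by
    intro i j
    have h1 : 2 ^ (k - 1) = 4 * 2 ^ (k - 3) := by
      rw [show (4 : ℕ) = 2 ^ 2 by norm_num, ← pow_add]; congr 1; omega
    rw [add_sub_cancel_left, h1]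
    have h2 : (4 : ℤ) ∣ ((4 * 2 ^ (k - 3) : ℕ) : ℤ) * (A i * A j) := by
      refine Dvd.dvd.mul_right ?_ _
      exact_mod_cast Dvd.intro _ rfl
    omega
  have num := num_of (Mz := fun i j => c i * c j + (2 ^ (k - 1) : ℕ) * (A i * A j)) hM hz hind hd hd' hk pk N
    (mz2 (r := 4) (s := 2 ^ (k - 1)) hM hz hind.1 hk hr pk.cV pk.cn hA.mV (by rw [hA.nn]; norm_num) (by norm_num) hp
      hA.oC N.hc hAc) (fun i j => by
      have := h4 i j
      show (c i * c j + (2 ^ (k - 1) : ℕ) * (A i * A j) - c i * c j) % 2 = 0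
      omega)
  have hAz : ∀ χ, χ ∉ B → A χ = 0 := fun χ hχ =>
    co_zero hM hz hind (ab_of_sh hz cA rA) (sh_spn (cy_sq hz) (cy_cen z) (Vb_spn hM hind.1 hA.mV)) hAc hχ
  have hN := count_two hM hz hind hk pk ho hA.mV hne hA.oC
  have hsum : ∑ χ, A χ * A χ = 4 := sum_f hM hz hind.1 hA.mV hA.mV hAc hAc (by rw [hA.nn]; norm_num)
  refine concl_a hM hB hk num h4 ?_ hN
  intro i hi h0
  have hiS : i ∈ Finset.univ.filter (· ∈ B) := Finset.mem_filter.2 ⟨Finset.mem_univ _, hi⟩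
  have t := N.two
  have key : ∀ Y, Y ∈ B ∧ c Y % 2 = 1 → Y ≠ i ∧ A Y ≠ 0 ∧ A i ≠ 0 := by
    intro Y hY
    have hYS : Y ∈ Finset.univ.filter (· ∈ B) := Finset.mem_filter.2 ⟨Finset.mem_univ _, hY.1⟩
    have h1 := nz_of num hiS hYS ((num.iff hYS).2 hY.2)
    refine ⟨?_, ?_, ?_⟩
    · rintro rfl
      have := hY.2
      rw [h0] at this
      norm_num at this
    · intro h2
      apply h1
      show c i * c Y + (2 ^ (k - 1) : ℕ) * (A i * A Y) = 0
      rw [h0, h2]; ring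
    · intro h2
      apply h1
      show c i * c Y + (2 ^ (k - 1) : ℕ) * (A i * A Y) = 0
      rw [h0, h2]; ring
  obtain ⟨m1, m2, m3⟩ := key Y₁ ((N.O _).2 (Or.inl rfl))
  obtain ⟨m4, m5, m6⟩ := key Y₂ ((N.O _).2 (Or.inr (Or.inl rfl)))
  obtain ⟨m7, m8, m9⟩ := key Y₃ ((N.O _).2 (Or.inr (Or.inr (Or.inl rfl))))
  obtain ⟨m10, m11, m12⟩ := key Y₄ ((N.O _).2 (Or.inr (Or.inr (Or.inr rfl))))
  have hcard : ({i, Y₁, Y₂, Y₃, Y₄} : Finset (IrrCharacter G)).card = 5 := by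
    rw [Finset.card_insert_of_notMem, Finset.card_insert_of_notMem, Finset.card_insert_of_notMem,
      Finset.card_insert_of_notMem, Finset.card_singleton]
    · simp [t.n34]
    · simp [t.n23, t.n24]
    · simp [t.n12, t.n13, t.n14]
    · simp [Ne.symm m1, Ne.symm m4, Ne.symm m7, Ne.symm m10]
  have hsq : ∀ m : ℤ, m ≠ 0 → 1 ≤ m * m := by
    intro m hm
    rcases lt_or_gt_of_ne hm with h | h <;> nlinarith
  have h5 : (5 : ℤ) ≤ ∑ χ, A χ * A χ := by
    calc (5 : ℤ) = ∑ χ ∈ ({i, Y₁, Y₂, Y₃, Y₄} : Finset (IrrCharacter G)), 1 := by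
          rw [Finset.sum_const, hcard]; norm_num
      _ ≤ ∑ χ ∈ ({i, Y₁, Y₂, Y₃, Y₄} : Finset (IrrCharacter G)), A χ * A χ := by
          apply Finset.sum_le_sum
          intro χ hχ
          apply hsq
          simp only [Finset.mem_insert, Finset.mem_singleton] at hχ
          rcases hχ with rfl | rfl | rfl | rfl | rfl <;> assumption
      _ ≤ ∑ χ, A χ * A χ := by
          apply Finset.sum_le_sum_of_subset_of_nonneg (Finset.subset_univ _)
          intro χ _ _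
          exact mul_self_nonneg _
  omega

end H5.TEk
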