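import Cfsg.Agent.Lib.H5.TEy

/-!
# The additional function for blocks of rank one
-/

set_option autoImplicit false
set_option linter.unusedSectionVars false
set_option linter.unusedVariables false

namespace H5.TEl

open Cfsg H20.Loc H20.GA H80.GA H80.GB H80.GD H80.GE H80.GF H80.GJ H80.FS H80.FS3 H84.RG H18.CharBasic H18.CharOrtho H18.CharInd H84.TrR
open H20.Blk H20.Orth H20.Ind H20.Height H20.Defect H80.BR1 H80.BR2 H19.Second H19.Second3 H81.Section H81.Contrib H84.Star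
open H5.DBa H5.DBd H5.TBa H5.TBb H5.TBe H5.TBf H5.TBg H5.TBh H5.TBi H5.TBj H78.BlkCount H5.TCa
open H5.TBc H5.TBd H5.TDa H5.TDb H5.TDe H5.TDf H5.TDg H5.TDi H5.TDj H5.TDk H5.TDl H5.TDm H20.NormQ H5.TEa H5.TEb H5.TEc
open H5.TEd H5.TEg H5.TEx H5.TEf H5.TEh H5.TEi H5.TEj H5.TEk H5.TEy
open scoped ComplexConjugate

universe u

attribute [local instance 2000] Fintype.ofFinite

variable {M : Ideal AlgInt} [M.IsMaximal] {K : Type u} [Group K] [Finite K]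
variable [CharP (ResF M) 2] [Algebra (ZMod 2) (ResF M)] [Algebra.IsAlgebraic (ZMod 2) (ResF M)]
  [IsAlgClosed (ResF M)]

theorem inner_indicator {f g : K → ℂ} {T : Set K} (hf : ∀ c, f c ≠ 0 → c ∈ T) :
    classInner f (T.indicator g) = classInner f g := by
  classical
  unfold classInner
  congr 1
  refine Finset.sum_congr rfl fun c _ => ?_
  by_cases h : f c = 0
  · rw [h, zero_mul, zero_mul]
  · rw [Set.indicator_of_mem (hf c h)]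

section main
variable {Q : Subgroup K} [Q.Normal] {w t : K}
variable {B : Set (IrrCharacter (K ⧸ Q))} {n : ℕ} {z : K ⧸ Q} {b : Set (IrrCharacter (C z))}
    {P : Subgroup (C z)} {e : MonoidAlgebra (ResF M) (C z)} {S : Sylow 2 P} {σ : P}
    {ψ : IrrCharacter (C z)} {ζ : ℂ}
variable {a₁ a₂ : IrrCharacter (K ⧸ Q) → ℤ} {u : Fin (2 ^ (n - 2) - 2) → IrrCharacter (K ⧸ Q) → ℤ}
    {X Y₁ Y₂ Y₃ Y₄ : IrrCharacter (K ⧸ Q)}
    {x : Fin (2 ^ (n - 2) - 2) → IrrCharacter (K ⧸ Q)} {h : Loc M B n z b P e S σ ψ} {hζ : IsPrimitiveRoot ζ (2 ^ (n - 1))}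

theorem Li_reg {f : K ⧸ Q → ℂ} (hf : reg 2 f = 0) : reg 2 (Li Q f) = 0 := by
  funext g
  by_cases hg : 2 ∣ orderOf g
  · rw [reg_not hg]; rfl
  · rw [reg_of hg]
    have h1 := congrFun hf (g : K ⧸ Q)
    rw [reg_of (H20.PC.regular_mk Q hg)] at h1
    exact h1

theorem rank_one_fun (hM : IsPModular 2 M) (hQ : Nat.card Q = 2) (hQc : Q ≤ Subgroup.center K)
    (hQs : ∀ s ∈ Q, s * s = 1) (hQe : ∀ s ∈ Q, s = 1 ∨ s = w) (hw : w ∈ Q) (hw2 : orderOf w = 2)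
    (htt : t * t = w) (hz : z = (t : K ⧸ Q)) {B' : Set (IrrCharacter K)} (hB' : IsPBlock M B')
    {DK : Subgroup K} (hDK : IsDefectGroup 2 M B' DK) (hd' : blockDefect 2 B' = n + 1)
    (hm : ∀ ψ ∈ B, infl Q ψ ∈ B') (D : Data h hζ a₁ a₂ u X Y₁ Y₂ Y₃ Y₄ x) (hdn : blockDefect 2 B = n)
    {c0 : IrrCharacter (K ⧸ Q) → ℤ} (hc : Std a₁ a₂ u X Y₁ Y₂ Y₃ Y₄ x c0) (hr : reg 2 (vec c0) = vec c0)
    (hl : blockRank 2 B = 1) (h1 : reg 2 (EE a₁ Y₁ Y₂) = 0) (h3 : reg 2 (EE a₂ Y₃ Y₄) = 0)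
    {τ : K} (hτ : τ ∈ DK) (hτ2 : orderOf τ = 2) (hτw : τ ≠ w)
    (hall : ∀ d ∈ DK, d ≠ 1 → w ∈ Subgroup.zpowers d ∨ ∃ x ∈ DK, d = x * τ * x⁻¹) :
    ∃ φ : K → ℂ, EvF B' w φ ∧ φ ≠ 0 ∧ classInner (Li Q (Th 2 P e (ψ : C z → ℂ) (va h.ds hζ))) φ = 0 ∧
      classInner (Li Q (Th 2 P e (ψ : C z → ℂ) (vb h.ds hζ))) φ = 0 ∧
      ∀ j, classInner (Li Q (Th 2 P e (ψ : C z → ℂ) (vc h.ds hζ j))) φ = 0 := by
  classical
  have tt := D.str.two
  have hww : w * w = 1 := hQs w hw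
  have hw1 : w ≠ 1 := by
    rintro rfl
    rw [orderOf_one] at hw2; omega
  have hτQ : τ ∉ Q := by
    intro hmem
    rcases hQe τ hmem with h4 | h4
    · rw [h4, orderOf_one] at hτ2; omega
    · exact hτw h4
  have hwc : ∀ g : K, g * w = w * g := fun g => Subgroup.mem_center_iff.1 (hQc hw) g
  obtain ⟨k1, k2, k3, k4⟩ := y_lift hM hQ hQc hw hww hw1 htt hz hB' hd' hm D hdn hc hr hl h1 h3 hτ2 hτQ
  obtain ⟨s1, s3⟩ := EE_spn D
  have hinv : ∀ (f : K ⧸ Q → ℂ) (c : K), Li Q f (w * c) = Li Q f c := by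
    intro f c
    unfold Li
    rw [QuotientGroup.mk_mul, (QuotientGroup.eq_one_iff w).2 hw, one_mul]
  have n13 : classInner (EE a₁ Y₁ Y₂) (EE a₂ Y₃ Y₄) = 0 := EE_EE tt.n13 tt.n14 tt.n23 tt.n24
  obtain ⟨φ, f1, f2, f3, f4, f5⟩ := y_fun hM hB' hDK hτ hτ2 hw2 hwc hτw hall
    (E := Li Q (EE a₁ Y₁ Y₂)) (E' := Li Q (EE a₂ Y₃ Y₄)) (infl_spn hm s1) (infl_spn hm s3)
    (Li_reg h1) (Li_reg h3) (hinv _) (hinv _) (by
      unfold Li
      rw [H79.CentQ.inner_infl]; exact n13) (hm _ (Y1_mem D)) (hm _ (Y3_mem D)) k1 k2 k3 k4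
  have ga : Good z P (va h.ds hζ) := good_diff h _ _
  have gb : Good z P (vb h.ds hζ) := good_diff h _ _
  have gc : ∀ j, Good z P (vc h.ds hζ j) := fun j => good_diff h _ _
  obtain ⟨m1, m2, m3⟩ := fam_mem hM D
  obtain ⟨⟨p1, p2, p3⟩, ⟨p4, p5, p6⟩⟩ := ee_perp D
  have key : ∀ f : P → ℂ, Good z P f → Th 2 P e (ψ : C z → ℂ) f ∈ spn B →
      classInner (EE a₁ Y₁ Y₂) (Th 2 P e (ψ : C z → ℂ) f) = 0 →
      classInner (EE a₂ Y₃ Y₄) (Th 2 P e (ψ : C z → ℂ) f) = 0 →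
      classInner (Li Q (Th 2 P e (ψ : C z → ℂ) f)) φ = 0 := by
    intro f hf hs q1 q3
    have hev := Li_ev hM hQc hQs hw htt hz h hm hf hs
    have hsup : ∀ c, Li Q (Th 2 P e (ψ : C z → ℂ) f) c ≠ 0 → c ∈ {c | w ∈ Subgroup.zpowers c} :=
      fun c hc => (hev.sup c hc).1
    rcases f5 with rfl | rfl
    · rw [inner_indicator hsup]
      unfold Li
      rw [H79.CentQ.inner_infl]
      exact zero_swap' q1
    · rw [inner_indicator hsup]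
      unfold Li
      rw [H79.CentQ.inner_infl]
      exact zero_swap' q3
  exact ⟨φ, ⟨f1, f3, f4⟩, f2, key _ ga m1 p1 p4, key _ gb m2 p2 p5, fun j => key _ (gc j) (m3 j) (p3 j) (p6 j)⟩

end main

end H5.TEl
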