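import Cfsg.Agent.Lib.H5.TEl

/-!
# Block invariants of semidihedral defect groups
-/

set_option autoImplicit false
set_option linter.unusedSectionVars false
set_option linter.unusedVariables false

namespace H5.TEm

open Cfsg H20.Loc H20.GA H80.GA H80.GB H80.GD H80.GE H80.GF H80.GJ H80.FS H80.FS3 H84.RG H18.CharBasic H18.CharOrtho H18.CharInd H84.TrR
open H20.Blk H20.Orth H20.Ind H20.Height H20.Defect H80.BR1 H80.BR2 H19.Second H19.Second3 H81.Section H81.Contrib H84.Star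
open H5.DBa H5.DBd H5.TBa H5.TBb H5.TBe H5.TBf H5.TBg H5.TBh H5.TBi H5.TBj H78.BlkCount H5.TCa
open H5.TBc H5.TBd H5.TDa H5.TDb H5.TDe H5.TDf H5.TDg H5.TDi H5.TDj H5.TDk H5.TDl H5.TDm H20.NormQ H5.TEa H5.TEb H5.TEc
open H5.TEd H5.TEg H5.TEx H5.TEf H5.TEh H5.TEi H5.TEj H5.TEk H5.TEy H5.TEl
open scoped ComplexConjugate

universe u

attribute [local instance 2000] Fintype.ofFinite

variable {M : Ideal AlgInt} [M.IsMaximal] {G : Type u} [Group G] [Finite G]
variable [CharP (ResF M) 2] [Algebra (ZMod 2) (ResF M)] [Algebra.IsAlgebraic (ZMod 2) (ResF M)]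
  [IsAlgClosed (ResF M)]

/-- quasidihedral groups are closed under isomorphisms -/
theorem qd_equiv {D E : Type u} [Group D] [Group E] (f : D ≃* E) (h : IsQuasiDihedral D) : IsQuasiDihedral E := by
  obtain ⟨n, hn, hc, x, y, h1, h2, h3⟩ := h
  refine ⟨n, hn, by rw [← Nat.card_congr f.toEquiv, hc], f x, f y, ?_, ?_, ?_⟩
  · rw [MulEquiv.orderOf_eq, h1]
  · rw [MulEquiv.orderOf_eq, h2]
  · rw [← map_mul, ← map_inv, ← map_mul, h3, map_pow]

theorem main (hM : IsPModular 2 M) {B : Set (IrrCharacter G)} (hB : IsPBlock M B) {D : Subgroup G}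
    (hD : IsDefectGroup 2 M B D) {k : ℕ} (hk : 3 ≤ k) (hcard : Nat.card D = 2 ^ (k + 1)) (hsd : IsQuasiDihedral D) :
    Concl B (k + 1) := by
  classical
  obtain ⟨s, t, z, y, τ, hs, hts, hto, htt, hzo, hzc, hcen, hyt, hτo, hτz, hall, hsq, hdih⟩ :=
    H67.SdData.sd_data hsd (n := k + 1) (by omega) hcard
  have hzo' : orderOf (z : G) = 2 := by rw [Subgroup.orderOf_coe, hzo]
  obtain ⟨b, Q, hQn, t', B', z', b', P, e, S, σ, ψ, hb, hind, hDb, hdb, hdB, hQ, hQc, hQs, hQe, hQw, htD, htt', hz',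
    hm, hrank, hdB', hcB', h⟩ := setup hM hB hD hk hcard (z := (z : G)) z.2 hzo'
      (fun d hd => congrArg Subtype.val (hzc ⟨d, hd⟩))
      (fun d hd h1 h2 h3 => by
        have := hsq ⟨d, hd⟩ (fun h => h1 (congrArg Subtype.val h)) (fun h => h2 (congrArg Subtype.val h)) (fun x => by
          rcases h3 x x.2 with h4 | h4
          · exact Or.inl (Subtype.ext h4)
          · exact Or.inr (Subtype.ext h4))
        exact congrArg Subtype.val this)
      (fun E _ f hf hk' => by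
        have := hdih E f hf (fun d => by
          rw [hk' d]
          constructor
          · rintro (h1 | h1)
            · exact Or.inl (Subtype.ext h1)
            · exact Or.inr (Subtype.ext h1)
          · rintro (h1 | h1)
            · exact Or.inl (congrArg Subtype.val h1)
            · exact Or.inr (congrArg Subtype.val h1))
        exact this)
  haveI := hQn
  have hDC : D ≤ C (z : G) := by
    intro d hd
    rw [Subgroup.mem_centralizer_singleton_iff]
    exact congrArg Subtype.val (hzc ⟨d, hd⟩)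
  have hζ := Complex.isPrimitiveRoot_exp (2 ^ (k - 1)) (by positivity)
  set ζ := Complex.exp (2 * Real.pi * Complex.I / ((2 ^ (k - 1) : ℕ) : ℂ)) with hζd
  obtain ⟨a₁, a₂, u, X, Y₁, Y₂, Y₃, Y₄, x, Dt⟩ := exists_data hM h hζ hcB'
  obtain ⟨c, hc, hr, hcX⟩ := exists_C hM Dt hdB'
  have hmm : ∀ ψ ∈ B', infl Q ψ ∈ b := fun ψ hψ => (hm ψ).2 hψ
  have pk := exists_pk hM hQ hQc hQs hQw htt' hz' hmm Dt hc hr
  have hww : cy (z : G) * cy (z : G) = 1 := hQs _ hQw
  have hyD : (⟨(y : G), hDC y.2⟩ : C (z : G)) ∈ D.subgroupOf (C (z : G)) := y.2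
  have htD' : (⟨(t : G), hDC t.2⟩ : C (z : G)) ∈ D.subgroupOf (C (z : G)) := t.2
  have htt1 : (t : G) * (t : G) = (z : G) := congrArg Subtype.val htt
  have hyt1 : (y : G) * (t : G) * (y : G)⁻¹ = (t : G)⁻¹ := congrArg Subtype.val hyt
  have hpar := par hM hQ hQc hQe hQw hww hb hdb hmm Dt hc hr hcX (fun ξ hξ h0 =>
    H81.OddHt.odd_height hM hb hDb htD' hyD (z := cy (z : G)) (fun g => cy_cen _ g)
      (Subtype.ext htt1) hww (Subtype.ext hyt1) hξ h0)
  have hcard8 : Nat.card D = 8 * 2 ^ (k - 2) := by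
    rw [hcard, show (8 : ℕ) = 2 ^ 3 by norm_num, ← pow_add]; congr 1; omega
  have hso4 : orderOf (s : G) = 4 * 2 ^ (k - 2) := by
    rw [Subgroup.orderOf_coe, hs, show (4 : ℕ) = 2 ^ 2 by norm_num, ← pow_add]; congr 1; omega
  have hq2 : 2 ≤ 2 ^ (k - 2) := by
    calc 2 = 2 ^ 1 := by norm_num
      _ ≤ 2 ^ (k - 2) := Nat.pow_le_pow_right (by norm_num) (by omega)
  obtain ⟨o, o1, o2, o3, o4, o5⟩ := odd_family hM hB hD hq2 hcard8 (s := (s : G)) (t := (t : G)) (z := (z : G))
    (y := (y : G)) s.2 hso4 (by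
      obtain ⟨m, hm⟩ := hts
      exact ⟨m, congrArg Subtype.val hm⟩) (by rw [Subgroup.orderOf_coe, hto]) (congrArg Subtype.val htt)
    (fun d hd => by
      rcases hcen ⟨d, hd⟩ with h1 | h1
      · exact Or.inl (congrArg Subtype.val h1)
      · exact Or.inr (congrArg Subtype.val h1)) y.2 (congrArg Subtype.val hyt)
  have ho : Odd B (z : G) (2 ^ (k - 2)) o := ⟨o1, o2, o3, o4, o5⟩
  have hdd : blockDefect 2 b = blockDefect 2 B := by rw [hdb, hdB]
  rcases kase hM hQ hQc hmm Dt hdB' hc hr hcX with ⟨hl, h1, h3⟩ | ⟨hl, A, hA⟩ | ⟨hl, A, hA⟩ | hl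
  · obtain ⟨φ, f1, f2, f3, f4, f5⟩ := rank_one_fun hM hQ hQc hQs hQe hQw (cy_ord hzo') htt' hz' hb hDb hdb hmm Dt hdB' hc
      hr hl h1 h3 (τ := ⟨(τ : G), hDC τ.2⟩) τ.2 (by
        rw [← Subgroup.orderOf_coe]
        show orderOf ((τ : D) : G) = 2
        rw [Subgroup.orderOf_coe, hτo]) (fun h1 => by
        have h2 : (τ : G) = (z : G) := congrArg (fun g : C (z : G) => (g : G)) h1
        exact hτz (Subtype.ext h2)) (by
        intro d hd hd1
        rcases hall ⟨(d : G), hd⟩ (fun h2 => by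
          have h3 : (d : G) = 1 := congrArg (fun g : D => (g : G)) h2
          exact hd1 (Subtype.ext h3)) with h2 | ⟨x, h2⟩
        · left
          obtain ⟨m, hm⟩ := h2
          have h3 : (d : G) ^ m = (z : G) := congrArg Subtype.val hm
          exact ⟨m, Subtype.ext h3⟩
        · right
          have h3 : (d : G) = (x : G) * (τ : G) * (x : G)⁻¹ := congrArg Subtype.val h2
          exact ⟨⟨(x : G), hDC x.2⟩, x.2, Subtype.ext h3⟩)
    exact case_one hM hB hzo' hind hk hdd hdb (hrank.trans hl) pk hpar ho f1 f2 f3 f4 f5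
  · exact case_two hM hB hzo' hind hk hdd hdb (hrank.trans hl) pk hpar ho hA
  · exact case_three hM hB hzo' hind hk hdd hdb (hrank.trans hl) pk hpar ho hA
  · exfalso
    have h1 := H5.TCb.sd_le_two hM hb hDb (qd_equiv (Subgroup.subgroupOfEquivOfLe hDC).symm hsd) (z := cy (z : G))
      (Subgroup.mem_center_iff.2 fun g => cy_cen _ g) (cy_ord hzo')
    omega

end H5.TEm
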