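import Cfsg.Agent.Lib.H5.TEk

/-!
# Block invariants of quaternion defect groups: the count
-/

set_option autoImplicit false
set_option linter.unusedSectionVars false
set_option linter.unusedVariables false

namespace H5.TEn

open Cfsg H20.Loc H20.GA H80.GA H80.GB H80.GD H80.GE H80.GF H80.GJ H80.FS H80.FS3 H84.RG H18.CharBasic H18.CharOrtho H18.CharInd H84.TrR
open H20.Blk H20.Orth H20.Ind H20.Height H20.Defect H80.BR1 H80.BR2 H19.Second H19.Second3 H81.Section H81.Contrib H84.Star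
open H5.DBa H5.DBd H5.TBa H5.TBb H5.TBe H5.TBf H5.TBg H5.TBh H5.TBi H5.TBj H78.BlkCount H5.TCa
open H5.TBc H5.TBd H5.TDa H5.TDb H5.TDe H5.TDf H5.TDg H5.TDi H5.TDj H5.TDk H5.TDl H5.TDm H20.NormQ H5.TEa H5.TEb H5.TEc
open H5.TEd H5.TEg H5.TEx H5.TEf H5.TEh H5.TEi H5.TEj H5.TEk
open scoped ComplexConjugate

universe u

attribute [local instance 2000] Fintype.ofFinite

/-- the conclusion of the analysis -/
structure AT {G : Type u} [Group G] [Finite G] (B : Set (IrrCharacter G)) (k l : ℕ) : Prop where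
  lo : 2 * 2 ^ (k - 2) + 2 + blockRank 2 B ≤ Nat.card B
  up : Nat.card B ≤ 2 * 2 ^ (k - 2) + 2 + l
  h0 : Nat.card {χ : IrrCharacter G // χ ∈ B ∧ blockHeight 2 B (χ : G → ℂ) = 0} = 4
  h1 : 3 ≤ k → Nat.card {χ : IrrCharacter G // χ ∈ B ∧ blockHeight 2 B (χ : G → ℂ) = 1} = 2 * 2 ^ (k - 2) - 1
  hh : ∀ χ ∈ B, blockHeight 2 B (χ : G → ℂ) = 0 ∨ blockHeight 2 B (χ : G → ℂ) = 1 ∨ blockHeight 2 B (χ : G → ℂ) = k - 1

variable {M : Ideal AlgInt} [M.IsMaximal] {G : Type u} [Group G] [Finite G] {z : G}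
variable [CharP (ResF M) 2] [Algebra (ZMod 2) (ResF M)] [Algebra.IsAlgebraic (ZMod 2) (ResF M)]
  [IsAlgClosed (ResF M)]
variable {B : Set (IrrCharacter G)} {b : Set (IrrCharacter (C z))} {k : ℕ} {C0 Ea Eb : C z → ℂ}
  {Ec : Fin (2 ^ (k - 2) - 2) → C z → ℂ}

/-- additional functions -/
structure Ex (b : Set (IrrCharacter (C z))) (C0 Ea Eb : C z → ℂ) (Ec : Fin (2 ^ (k - 2) - 2) → C z → ℂ)
    (o : Fin (2 ^ (k - 2) - 1) → G → ℂ) (x : C z → ℂ) : Prop where
  ab : Ab z x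
  sp : x ∈ spn b
  ne : x ≠ 0
  xC : classInner (sh (cy z) C0) x = 0
  xa : classInner Ea x = 0
  xb : classInner Eb x = 0
  xc : ∀ j, classInner (Ec j) x = 0
  xo : ∀ i, classInner (o i) (In z x) = 0

theorem ex_ev (hM : IsPModular 2 M) (hz : orderOf z = 2) (hb : IsPBlock M b) (pk : Pk b (cy z) k C0 Ea Eb Ec)
    {o : Fin (2 ^ (k - 2) - 1) → G → ℂ} (ho : Odd B z (2 ^ (k - 2)) o)
    {φ : C z → ℂ} (hφ : EvF b (cy z) φ) (hφ0 : φ ≠ 0) (xa : classInner Ea φ = 0) (xb : classInner Eb φ = 0)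
    (xc : ∀ j, classInner (Ec j) φ = 0) : Ex b C0 Ea Eb Ec o φ := by
  obtain ⟨rC, cC⟩ := Vb_reg hM hb pk.cV
  exact ⟨ab_of_ev hφ, hφ.mem, hφ0, zero_swap' (ev_sh hz hφ rC), xa, xb, xc, odd_ev ho hφ⟩

theorem ex_sh (hM : IsPModular 2 M) (hz : orderOf z = 2) (hb : IsPBlock M b) (pk : Pk b (cy z) k C0 Ea Eb Ec)
    {o : Fin (2 ^ (k - 2) - 1) → G → ℂ} (ho : Odd B z (2 ^ (k - 2)) o)
    {A0 : C z → ℂ} (aV : A0 ∈ Vb 2 b) (hA0 : A0 ≠ 0) (hac : classInner A0 C0 = 0) :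
    Ex b C0 Ea Eb Ec o (sh (cy z) A0) := by
  obtain ⟨rA, cA⟩ := Vb_reg hM hb aV
  refine ⟨ab_of_sh hz cA rA, sh_spn (cy_sq hz) (cy_cen z) (Vb_spn hM hb aV), ?_, ?_,
    ev_sh hz pk.ea rA, ev_sh hz pk.eb rA, fun j => ev_sh hz (pk.ec j) rA, odd_sec ho rA⟩
  · intro h0
    apply hA0
    rw [← sh_sh (cy_sq hz) A0, h0]
    rfl
  · rw [sh_inner2 (cy_sq hz)]
    exact zero_swap' hac

theorem count_fam2 (hM : IsPModular 2 M) (hz : orderOf z = 2) (hind : IsInducedBlock M (C z) b B) (hk : 3 ≤ k)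
    (pk : Pk b (cy z) k C0 Ea Eb Ec) {o : Fin (2 ^ (k - 2) - 1) → G → ℂ} (ho : Odd B z (2 ^ (k - 2)) o)
    {x y : C z → ℂ} (hx : Ex b C0 Ea Eb Ec o x) (hy : Ex b C0 Ea Eb Ec o y) (hxy : classInner x y = 0) :
    2 * 2 ^ (k - 2) + 2 + blockRank 2 B ≤ Nat.card B := by
  have abA := ab_of_ev pk.ea
  have abB := ab_of_ev pk.eb
  have abc := fun j => ab_of_ev (pk.ec j)
  obtain ⟨rC, cC⟩ := Vb_reg hM hind.1 pk.cV
  have abC : Ab z (sh (cy z) C0) := ab_of_sh hz cC rC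
  have cs : sh (cy z) C0 ∈ spn b := sh_spn (cy_sq hz) (cy_cen z) (Vb_spn hM hind.1 pk.cV)
  have h1 := fam_lin hM hz hind.1 pk
  have hfo : ∀ i j, classInner (Fam z C0 Ea Eb Ec i) (o j) = 0 := by
    intro i j
    apply zero_swap'
    match i with
    | none => exact odd_sec ho rC j
    | some none => exact odd_ev ho pk.ea j
    | some (some none) => exact odd_ev ho pk.eb j
    | some (some (some l)) => exact odd_ev ho (pk.ec l) j
  have h2 := indep_sum h1 ho.lin hfo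
  have hne : ∀ {x : C z → ℂ}, Ex b C0 Ea Eb Ec o x → In z x ≠ 0 := by
    intro x hx h0
    have h3 := In_inner hz hx.ab hx.ab
    rw [h0, H18.CharOrtho.inner_zero_left] at h3
    exact hx.ne (inner_self_zero h3.symm)
  have h3 : ∀ {x : C z → ℂ}, Ex b C0 Ea Eb Ec o x → ∀ i, classInner (Sum.elim (Fam z C0 Ea Eb Ec) o i) (In z x) = 0 := by
    rintro x hx (i | i)
    · change classInner (Fam z C0 Ea Eb Ec i) (In z x) = 0
      match i with
      | none => exact (In_inner hz abC hx.ab).trans hx.xC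
      | some none => exact (In_inner hz abA hx.ab).trans hx.xa
      | some (some none) => exact (In_inner hz abB hx.ab).trans hx.xb
      | some (some (some l)) => exact (In_inner hz (abc l) hx.ab).trans (hx.xc l)
    · exact hx.xo i
  have h4 := indep_sum h2 (indep_one (hne hx)) (fun i _ => h3 hx i)
  have h4' := indep_sum h4 (indep_one (hne hy)) (by
    rintro (i | i) _
    · exact h3 hy i
    · exact (In_inner hz hx.ab hy.ab).trans hxy)
  have h5 := rank_add_le (p := 2) (B := B) h4' (by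
    rintro (((i | i) | i) | i)
    · match i with
      | none => exact In_spn hM hz hind abC cs
      | some none => exact In_spn hM hz hind abA pk.ea.mem
      | some (some none) => exact In_spn hM hz hind abB pk.eb.mem
      | some (some (some l)) => exact In_spn hM hz hind (abc l) (pk.ec l).mem
    · exact ho.mem i
    · exact In_spn hM hz hind hx.ab hx.sp
    · exact In_spn hM hz hind hy.ab hy.sp) (by
    rintro (((i | i) | i) | i)
    · match i with
      | none => exact In_reg0 hz abC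
      | some none => exact In_reg0 hz abA
      | some (some none) => exact In_reg0 hz abB
      | some (some (some l)) => exact In_reg0 hz (abc l)
    · exact ho.reg i
    · exact In_reg0 hz hx.ab
    · exact In_reg0 hz hy.ab)
  have h6 : Nat.card (((Option (Option (Option (Fin (2 ^ (k - 2) - 2)))) ⊕ Fin (2 ^ (k - 2) - 1)) ⊕ Unit) ⊕ Unit) =
      ((2 ^ (k - 2) - 2) + 3) + (2 ^ (k - 2) - 1) + 1 + 1 := by
    rw [Nat.card_sum, Nat.card_sum, Nat.card_sum, Finite.card_option, Finite.card_option, Finite.card_option, Nat.card_fin,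
      Nat.card_fin, Nat.card_unique]
  rw [h6] at h5
  have h7 : 2 ≤ 2 ^ (k - 2) := by
    calc 2 = 2 ^ 1 := by norm_num
      _ ≤ 2 ^ (k - 2) := Nat.pow_le_pow_right (by norm_num) (by omega)
  omega

variable {a₁ a₂ c : IrrCharacter G → ℤ} {X Y₁ Y₂ Y₃ Y₄ : IrrCharacter G}

/-- all characters are at most of height one -/
theorem at_a (hM : IsPModular 2 M) (hB : IsPBlock M B) (hk : 3 ≤ k)
    [DecidablePred (· ∈ B)] [DecidableEq (IrrCharacter G)] {Mz : IrrCharacter G → IrrCharacter G → ℤ}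
    (hnum : Num (Finset.univ.filter (· ∈ B)) (fun i : IrrCharacter G => blockHeight 2 B (i : G → ℂ)) (2 ^ (k - 2)) c Mz)
    (h4 : ∀ i j, (Mz i j - c i * c j) % 4 = 0) (h0 : ∀ i ∈ B, c i ≠ 0)
    (hN : 2 * 2 ^ (k - 2) + 2 + blockRank 2 B ≤ Nat.card B) {l : ℕ} (hl : 1 ≤ l) : AT B k l := by
  have hr := H79.KLOne.rank_pos (p := 2) hM hB
  have hN' := hN
  rw [card_B] at hN
  obtain ⟨k1, k2, k3⟩ := conc1 hnum h4 (fun i hi => h0 i (Finset.mem_filter.1 hi).2) (by omega)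
  refine ⟨hN', ?_, ?_, ?_, ?_⟩
  · rw [card_B]; omega
  · rw [card_ht]; exact hnum.card0
  · intro _
    rw [card_ht]; exact k2
  · intro χ hχ
    rcases k3 χ (Finset.mem_filter.2 ⟨Finset.mem_univ _, hχ⟩) with h | h
    · exact Or.inl h
    · exact Or.inr (Or.inl h)

/-- the first case -/
theorem at_one (hM : IsPModular 2 M) (hB : IsPBlock M B) (hz : orderOf z = 2) (hind : IsInducedBlock M (C z) b B)
    (hk : 3 ≤ k) (hd : blockDefect 2 b = blockDefect 2 B) (hd' : blockDefect 2 b = k + 1) (hr : blockRank 2 b = 1)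
    (pk : Pk b (cy z) k C0 Ea Eb Ec)
    (hpar : ∃ W, IsGeneralizedCharacter (C z) W ∧ Ea + Eb + sh (cy z) C0 = (2 : ℂ) • W)
    {o : Fin (2 ^ (k - 2) - 1) → G → ℂ} (ho : Odd B z (2 ^ (k - 2)) o)
    {x y : C z → ℂ} (hx : Ex b C0 Ea Eb Ec o x) (hy : Ex b C0 Ea Eb Ec o y) (hxy : classInner x y = 0) :
    AT B k (blockRank 2 b) := by
  classical
  obtain ⟨a₁, a₂, c, X, Y₁, Y₂, Y₃, Y₄, N⟩ := exists_gn hM hz hind pk hpar
  obtain ⟨rC, cC⟩ := Vb_reg hM hind.1 pk.cV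
  have num := num_of (Mz := fun i j => c i * c j) hM hz hind hd hd' hk pk N
    (mz1 hM hz hind.1 hk hr pk.cV pk.cn N.hc) (fun i j => by simp)
  have hN := count_fam2 hM hz hind hk pk ho hx hy hxy
  refine at_a hM hB hk num (fun i j => by simp) ?_ hN (by omega)
  intro i hi h0
  obtain ⟨j, hj, hj0⟩ := num.ex0
  apply nz_of num (Finset.mem_filter.2 ⟨Finset.mem_univ _, hi⟩) hj hj0
  show c i * c j = 0
  rw [h0, zero_mul]

/-- the second case -/
theorem at_two (hM : IsPModular 2 M) (hB : IsPBlock M B) (hz : orderOf z = 2) (hind : IsInducedBlock M (C z) b B)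
    (hk : 3 ≤ k) (hd : blockDefect 2 b = blockDefect 2 B) (hd' : blockDefect 2 b = k + 1) (hr : blockRank 2 b = 2)
    (pk : Pk b (cy z) k C0 Ea Eb Ec)
    (hpar : ∃ W, IsGeneralizedCharacter (C z) W ∧ Ea + Eb + sh (cy z) C0 = (2 : ℂ) • W)
    {o : Fin (2 ^ (k - 2) - 1) → G → ℂ} (ho : Odd B z (2 ^ (k - 2)) o)
    {A0 : C z → ℂ} (hA : KA b C0 A0) {y : C z → ℂ} (hy : Ex b C0 Ea Eb Ec o y) (hxy : classInner (sh (cy z) A0) y = 0) :
    AT B k (blockRank 2 b) := by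
  classical
  obtain ⟨a₁, a₂, c, X, Y₁, Y₂, Y₃, Y₄, N⟩ := exists_gn hM hz hind pk hpar
  obtain ⟨A, hAc⟩ := exists_co (G := G) (sh_gen (cy_sq hz) (cy_cen z) hA.g)
  obtain ⟨H, hH⟩ := exists_co (G := G) (sh_gen (cy_sq hz) (cy_cen z) hA.half)
  obtain ⟨rA, cA⟩ := Vb_reg hM hind.1 hA.mV
  have hne : A0 ≠ 0 := by
    intro h0
    have := hA.nn
    rw [h0, H18.CharOrtho.inner_zero_left] at this
    norm_num at this
  have hp : 2 ^ (k + 1) = 8 * 2 ^ (k - 2) := by
    rw [show (8 : ℕ) = 2 ^ 3 by norm_num, ← pow_add]; congr 1; omega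
  have num := num_of (Mz := fun i j => c i * c j + (2 ^ (k - 2) : ℕ) * (A i * A j)) hM hz hind hd hd' hk pk N
    (mz2 (r := 8) (s := 2 ^ (k - 2)) hM hz hind.1 hk hr pk.cV pk.cn hA.mV (by rw [hA.nn]; norm_num) (by norm_num) hp
      hA.oC N.hc hAc) (fun i j => by
      have h1 := q_two hk
      have h2 : (((2 ^ (k - 2) : ℕ) : ℤ)) % 2 = 0 := by exact_mod_cast h1
      have h3 := mul_even (b := A i * A j) h2
      rw [add_sub_cancel_left]
      exact h3)
  have hAz : ∀ χ, χ ∉ B → A χ = 0 := fun χ hχ =>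
    co_zero hM hz hind (ab_of_sh hz cA rA) (sh_spn (cy_sq hz) (cy_cen z) (Vb_spn hM hind.1 hA.mV)) hAc hχ
  have hN := count_fam2 hM hz hind hk pk ho (ex_sh hM hz hind.1 pk ho hA.mV hne hA.oC) hy hxy
  have hrB := H79.KLOne.rank_pos (p := 2) hM hB
  have hN' := hN
  rw [card_B] at hN
  have c1 := rel_f hM hz hind pk N pk.cV N.hc
  have A1 := rel_f hM hz hind pk N hA.mV hAc
  obtain ⟨k1, k2, ⟨T, hT, hTh⟩, k3⟩ := conc2 (A := A) (N := k - 2) (by omega) rfl num (fun i j => rfl)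
    (by
      rw [sum_S hAz]
      exact sum_f hM hz hind.1 hA.mV hA.mV hAc hAc (by rw [hA.nn]; norm_num))
    (by
      intro i _
      have h1 : ((c i + A i : ℤ) : ℂ) = ((2 * H i : ℤ) : ℂ) := by
        push_cast
        rw [← N.hc, ← hAc, ← hH, ← H18.CharOrtho.inner_add_left, ← In_add]
        have h2 : sh (cy z) C0 + sh (cy z) A0 = (2 : ℂ) • sh (cy z) ((2 : ℂ)⁻¹ • (C0 + A0)) := by
          funext g
          simp only [sh, Pi.add_apply, Pi.smul_apply, smul_eq_mul]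
          ring
        rw [h2, In_smul, H18.CharOrtho.inner_smul_left]
      have h2 : c i + A i = 2 * H i := by exact_mod_cast h1
      omega)
    (by
      rw [sum_S hAz]
      exact sum_f hM hz hind.1 hA.mV pk.cV hAc N.hc (by rw [hA.oC]; norm_num))
    (by omega) N.two
    (fun i => by
      rw [Finset.mem_filter]
      have := N.O i
      simp only [Finset.mem_univ, true_and]
      exact this) (Finset.mem_filter.2 ⟨Finset.mem_univ _, N.mX⟩) c1.1 c1.2 A1.1 A1.2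
  refine ⟨hN', ?_, ?_, ?_, ?_⟩
  · rw [card_B]; omega
  · rw [card_ht]; exact num.card0
  · intro _
    rw [card_ht]; exact k2
  · intro χ hχ
    rcases k3 χ (Finset.mem_filter.2 ⟨Finset.mem_univ _, hχ⟩) with h | h | h
    · exact Or.inl h
    · exact Or.inr (Or.inl h)
    · exact Or.inr (Or.inr (by rw [h]; omega))

end H5.TEn
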