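import Cfsg.Agent.Lib.H5.TEn

/-!
# Block invariants of quaternion defect groups: the remaining cases
-/

set_option autoImplicit false
set_option linter.unusedSectionVars false
set_option linter.unusedVariables false

namespace H5.TEo

open Cfsg H20.Loc H20.GA H80.GA H80.GB H80.GD H80.GE H80.GF H80.GJ H80.FS H80.FS3 H84.RG H18.CharBasic H18.CharOrtho H18.CharInd H84.TrR
open H20.Blk H20.Orth H20.Ind H20.Height H20.Defect H80.BR1 H80.BR2 H19.Second H19.Second3 H81.Section H81.Contrib H84.Star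
open H5.DBa H5.DBd H5.TBa H5.TBb H5.TBe H5.TBf H5.TBg H5.TBh H5.TBi H5.TBj H78.BlkCount H5.TCa
open H5.TBc H5.TBd H5.TDa H5.TDb H5.TDe H5.TDf H5.TDg H5.TDi H5.TDj H5.TDk H5.TDl H5.TDm H20.NormQ H5.TEa H5.TEb H5.TEc
open H5.TEd H5.TEg H5.TEx H5.TEf H5.TEh H5.TEi H5.TEj H5.TEk H5.TEn
open scoped ComplexConjugate

universe u

attribute [local instance 2000] Fintype.ofFinite

variable {M : Ideal AlgInt} [M.IsMaximal] {G : Type u} [Group G] [Finite G] {z : G}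
variable [CharP (ResF M) 2] [Algebra (ZMod 2) (ResF M)] [Algebra.IsAlgebraic (ZMod 2) (ResF M)]
  [IsAlgClosed (ResF M)]
variable {B : Set (IrrCharacter G)} {b : Set (IrrCharacter (C z))} {k : ℕ} {C0 Ea Eb : C z → ℂ}
  {Ec : Fin (2 ^ (k - 2) - 2) → C z → ℂ}

theorem kb_ne {K : Type u} [Group K] [Finite K] {b : Set (IrrCharacter K)} {C0 A0 : K → ℂ} (hA : KB b C0 A0) : A0 ≠ 0 := by
  intro h0
  have := hA.nn
  rw [h0, H18.CharOrtho.inner_zero_left] at this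
  norm_num at this

/-- the third case -/
theorem at_three (hM : IsPModular 2 M) (hB : IsPBlock M B) (hz : orderOf z = 2) (hind : IsInducedBlock M (C z) b B)
    (hk : 3 ≤ k) (hd : blockDefect 2 b = blockDefect 2 B) (hd' : blockDefect 2 b = k + 1) (hr : blockRank 2 b = 2)
    (pk : Pk b (cy z) k C0 Ea Eb Ec)
    (hpar : ∃ W, IsGeneralizedCharacter (C z) W ∧ Ea + Eb + sh (cy z) C0 = (2 : ℂ) • W)
    {o : Fin (2 ^ (k - 2) - 1) → G → ℂ} (ho : Odd B z (2 ^ (k - 2)) o)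
    {A0 : C z → ℂ} (hA : KB b C0 A0) {y : C z → ℂ} (hy : Ex b C0 Ea Eb Ec o y) (hxy : classInner (sh (cy z) A0) y = 0) :
    AT B k (blockRank 2 b) := by
  classical
  obtain ⟨a₁, a₂, c, X, Y₁, Y₂, Y₃, Y₄, N⟩ := exists_gn hM hz hind pk hpar
  obtain ⟨A, hAc⟩ := exists_co (G := G) (sh_gen (cy_sq hz) (cy_cen z) hA.g)
  obtain ⟨rA, cA⟩ := Vb_reg hM hind.1 hA.mV
  have hne := kb_ne hA
  have hp : 2 ^ (k + 1) = 4 * 2 ^ (k - 1) := by
    rw [show (4 : ℕ) = 2 ^ 2 by norm_num, ← pow_add]; congr 1; omega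
  have h4 : ∀ i j : IrrCharacter G, (c i * c j + (2 ^ (k - 1) : ℕ) * (A i * A j) - c i * c j) % 4 = 0 := by
    intro i j
    have h1 : 2 ^ (k - 1) = 4 * 2 ^ (k - 3) := by
      rw [show (4 : ℕ) = 2 ^ 2 by norm_num, ← pow_add]; congr 1; omega
    rw [add_sub_cancel_left, h1]
    have h2 : (4 : ℤ) ∣ ((4 * 2 ^ (k - 3) : ℕ) : ℤ) * (A i * A j) := by
      refine Dvd.dvd.mul_right ?_ _
      exact_mod_cast Dvd.intro _ rfl
    omega
  have num := num_of (Mz := fun i j => c i * c j + (2 ^ (k - 1) : ℕ) * (A i * A j)) hM hz hind hd hd' hk pk N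
    (mz2 (r := 4) (s := 2 ^ (k - 1)) hM hz hind.1 hk hr pk.cV pk.cn hA.mV (by rw [hA.nn]; norm_num) (by norm_num) hp
      hA.oC N.hc hAc) (fun i j => by
      have := h4 i j
      show (c i * c j + (2 ^ (k - 1) : ℕ) * (A i * A j) - c i * c j) % 2 = 0
      omega)
  have hN := count_fam2 hM hz hind hk pk ho (ex_sh hM hz hind.1 pk ho hA.mV hne hA.oC) hy hxy
  have hsum : ∑ χ, A χ * A χ = 4 := sum_f hM hz hind.1 hA.mV hA.mV hAc hAc (by rw [hA.nn]; norm_num)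
  refine at_a hM hB hk num h4 ?_ hN (by omega)
  intro i hi h0
  have hiS : i ∈ Finset.univ.filter (· ∈ B) := Finset.mem_filter.2 ⟨Finset.mem_univ _, hi⟩
  have t := N.two
  have key : ∀ Y, Y ∈ B ∧ c Y % 2 = 1 → Y ≠ i ∧ A Y ≠ 0 ∧ A i ≠ 0 := by
    intro Y hY
    have hYS : Y ∈ Finset.univ.filter (· ∈ B) := Finset.mem_filter.2 ⟨Finset.mem_univ _, hY.1⟩
    have h1 := nz_of num hiS hYS ((num.iff hYS).2 hY.2)
    refine ⟨?_, ?_, ?_⟩
    · rintro rfl
      have := hY.2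
      rw [h0] at this
      norm_num at this
    · intro h2
      apply h1
      show c i * c Y + (2 ^ (k - 1) : ℕ) * (A i * A Y) = 0
      rw [h0, h2]; ring
    · intro h2
      apply h1
      show c i * c Y + (2 ^ (k - 1) : ℕ) * (A i * A Y) = 0
      rw [h0, h2]; ring
  obtain ⟨m1, m2, m3⟩ := key Y₁ ((N.O _).2 (Or.inl rfl))
  obtain ⟨m4, m5, m6⟩ := key Y₂ ((N.O _).2 (Or.inr (Or.inl rfl)))
  obtain ⟨m7, m8, m9⟩ := key Y₃ ((N.O _).2 (Or.inr (Or.inr (Or.inl rfl))))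
  obtain ⟨m10, m11, m12⟩ := key Y₄ ((N.O _).2 (Or.inr (Or.inr (Or.inr rfl))))
  have hcard : ({i, Y₁, Y₂, Y₃, Y₄} : Finset (IrrCharacter G)).card = 5 := by
    rw [Finset.card_insert_of_notMem, Finset.card_insert_of_notMem, Finset.card_insert_of_notMem,
      Finset.card_insert_of_notMem, Finset.card_singleton]
    · simp [t.n34]
    · simp [t.n23, t.n24]
    · simp [t.n12, t.n13, t.n14]
    · simp [Ne.symm m1, Ne.symm m4, Ne.symm m7, Ne.symm m10]
  have hsq : ∀ m : ℤ, m ≠ 0 → 1 ≤ m * m := by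
    intro m hm
    rcases lt_or_gt_of_ne hm with h | h <;> nlinarith
  have h5 : (5 : ℤ) ≤ ∑ χ, A χ * A χ := by
    calc (5 : ℤ) = ∑ χ ∈ ({i, Y₁, Y₂, Y₃, Y₄} : Finset (IrrCharacter G)), 1 := by
          rw [Finset.sum_const, hcard]; norm_num
      _ ≤ ∑ χ ∈ ({i, Y₁, Y₂, Y₃, Y₄} : Finset (IrrCharacter G)), A χ * A χ := by
          apply Finset.sum_le_sum
          intro χ hχ
          apply hsq
          simp only [Finset.mem_insert, Finset.mem_singleton] at hχ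
          rcases hχ with rfl | rfl | rfl | rfl | rfl <;> assumption
      _ ≤ ∑ χ, A χ * A χ := by
          apply Finset.sum_le_sum_of_subset_of_nonneg (Finset.subset_univ _)
          intro χ _ _
          exact mul_self_nonneg _
  omega

/-- the contributions with three functions -/
theorem mz3 (hM : IsPModular 2 M) (hz : orderOf z = 2) (hb : IsPBlock M b) (hk : 3 ≤ k) (hr : blockRank 2 b = 3)
    (cV : C0 ∈ Vb 2 b) (cn : classInner C0 C0 = 2 * 2 ^ k) {A0 A1 : C z → ℂ} (hA : KB b C0 A0) (hA' : KB b C0 A1)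
    (haa : classInner A0 A1 = 0)
    {c A A' : IrrCharacter G → ℤ}
    (hc : ∀ χ : IrrCharacter G, classInner (In z (sh (cy z) C0)) (χ : G → ℂ) = c χ)
    (hA1 : ∀ χ : IrrCharacter G, classInner (In z (sh (cy z) A0)) (χ : G → ℂ) = A χ)
    (hA2 : ∀ χ : IrrCharacter G, classInner (In z (sh (cy z) A1)) (χ : G → ℂ) = A' χ) (i j : IrrCharacter G) :
    (2 : ℂ) ^ (k + 1) * classInner (comp 2 z b (i : G → ℂ)) (comp 2 z b (j : G → ℂ)) =
      ((c i * c j + 2 * (2 ^ (k - 2) : ℕ) * (A i * A j + A' i * A' j) : ℤ) : ℂ) := by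
  have hne : C0 ≠ 0 := by
    intro h0
    rw [h0, H18.CharOrtho.inner_zero_left] at cn
    exact (mul_ne_zero two_ne_zero (pow_ne_zero k two_ne_zero)) cn.symm
  have hca : classInner C0 A0 = 0 := zero_swap' hA.oC
  have hca' : classInner C0 A1 = 0 := zero_swap' hA'.oC
  have haa' : classInner A1 A0 = 0 := zero_swap' haa
  have h1 := expand (W := Vb 2 b) (v := ![C0, A0, A1])
    (fun ⟨i, hi⟩ => by interval_cases i; exacts [cV, hA.mV, hA'.mV])
    (fun ⟨i, hi⟩ => by interval_cases i; exacts [hne, kb_ne hA, kb_ne hA'])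
    (fun ⟨i, hi⟩ ⟨j, hj⟩ hij => by
      interval_cases i <;> interval_cases j <;>
        first | exact absurd rfl hij | exact hca | exact hca' | exact hA.oC | exact hA'.oC | exact haa | exact haa')
    (by rw [← Nat.card_eq_fintype_card, Nat.card_fin]; exact hr.le) (comp_mem (p := 2) (y := z) (b := b) (i : G → ℂ))
    (comp 2 z b (j : G → ℂ))
  have key : ∀ (f : C z → ℂ) (hf : f ∈ Vb 2 b) (α : IrrCharacter G → ℤ),
      (∀ χ : IrrCharacter G, classInner (In z (sh (cy z) f)) (χ : G → ℂ) = α χ) →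
      classInner (comp 2 z b (i : G → ℂ)) f = α i ∧ classInner f (comp 2 z b (j : G → ℂ)) = α j := by
    intro f hf α hα
    constructor
    · rw [← H18.CharOrtho.inner_conj_symm, ← co_comp hM hz hb hf, hα, map_intCast]
    · rw [← co_comp hM hz hb hf, hα]
  obtain ⟨e1, e2⟩ := key C0 cV c hc
  obtain ⟨e3, e4⟩ := key A0 hA.mV A hA1
  obtain ⟨e5, e6⟩ := key A1 hA'.mV A' hA2
  have h5 : ∑ l, classInner (comp 2 z b (i : G → ℂ)) (![C0, A0, A1] l) * (classInner (![C0, A0, A1] l) (![C0, A0, A1] l))⁻¹ *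
      classInner (![C0, A0, A1] l) (comp 2 z b (j : G → ℂ)) =
      (c i : ℂ) * (2 * 2 ^ k : ℂ)⁻¹ * c j + (A i : ℂ) * (4 : ℂ)⁻¹ * A j + (A' i : ℂ) * (4 : ℂ)⁻¹ * A' j := by
    rw [Fin.sum_univ_three]
    change classInner _ C0 * (classInner C0 C0)⁻¹ * classInner C0 _ + classInner _ A0 * (classInner A0 A0)⁻¹ * classInner A0 _
      + classInner _ A1 * (classInner A1 A1)⁻¹ * classInner A1 _ = _
    rw [e1, e2, e3, e4, e5, e6, cn, hA.nn, hA'.nn]
  rw [h1, h5]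
  have h4 : (2 : ℂ) ^ k ≠ 0 := pow_ne_zero _ two_ne_zero
  have h7 : (2 : ℂ) ^ (k + 1) = 4 * (2 * 2 ^ (k - 2)) := by
    rw [show (4 : ℂ) * (2 * 2 ^ (k - 2)) = 2 ^ 3 * 2 ^ (k - 2) by ring, ← pow_add]; congr 1; omega
  have h8 : ∀ x y : ℂ, (2 : ℂ) ^ (k + 1) * (x * (4 : ℂ)⁻¹ * y) = 2 * 2 ^ (k - 2) * (x * y) := by
    intro x y
    rw [h7]; field_simp
  have h9 : (2 : ℂ) ^ (k + 1) * ((c i : ℂ) * (2 * 2 ^ k : ℂ)⁻¹ * c j) = c i * c j := by
    rw [pow_succ]; field_simp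
  rw [mul_add, mul_add, h8, h8, h9]
  push_cast
  ring

end H5.TEo
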