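import Cfsg.Agent.Lib.H5.TEz
import Cfsg.Agent.Lib.H5.TEl

/-!
# Block invariants of quaternion defect groups: the possibilities
-/

set_option autoImplicit false
set_option linter.unusedSectionVars false
set_option linter.unusedVariables false

namespace H5.TEp

open Cfsg H20.Loc H20.GA H80.GA H80.GB H80.GD H80.GE H80.GF H80.GJ H80.FS H80.FS3 H84.RG H18.CharBasic H18.CharOrtho H18.CharInd H84.TrR
open H20.Blk H20.Orth H20.Ind H20.Height H20.Defect H80.BR1 H80.BR2 H19.Second H19.Second3 H81.Section H81.Contrib H84.Star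
open H5.DBa H5.DBd H5.TBa H5.TBb H5.TBe H5.TBf H5.TBg H5.TBh H5.TBi H5.TBj H78.BlkCount H5.TCa
open H5.TBc H5.TBd H5.TDa H5.TDb H5.TDe H5.TDf H5.TDg H5.TDi H5.TDj H5.TDk H5.TDl H5.TDm H20.NormQ H5.TEa H5.TEb H5.TEc
open H5.TEd H5.TEg H5.TEx H5.TEf H5.TEh H5.TEi H5.TEj H5.TEk H5.TEn H5.TEo H5.TEy H5.TEl H5.TEz
open scoped ComplexConjugate

universe u

attribute [local instance 2000] Fintype.ofFinite

variable {M : Ideal AlgInt} [M.IsMaximal] {K : Type u} [Group K] [Finite K]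
variable [CharP (ResF M) 2] [Algebra (ZMod 2) (ResF M)] [Algebra.IsAlgebraic (ZMod 2) (ResF M)]
  [IsAlgClosed (ResF M)]

/-- functions above the central involution, perpendicular to the family -/
structure EF (b : Set (IrrCharacter K)) (w : K) {m : ℕ} (Ea Eb : K → ℂ) (Ec : Fin m → K → ℂ) (y : K → ℂ) : Prop where
  ev : EvF b w y
  ne : y ≠ 0
  a : classInner Ea y = 0
  b' : classInner Eb y = 0
  c : ∀ j, classInner (Ec j) y = 0

section main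
variable {Q : Subgroup K} [Q.Normal] {w t : K}
variable {B : Set (IrrCharacter (K ⧸ Q))} {n : ℕ} {z : K ⧸ Q} {b : Set (IrrCharacter (C z))}
    {P : Subgroup (C z)} {e : MonoidAlgebra (ResF M) (C z)} {S : Sylow 2 P} {σ : P}
    {ψ : IrrCharacter (C z)} {ζ : ℂ}
variable {a₁ a₂ : IrrCharacter (K ⧸ Q) → ℤ} {u : Fin (2 ^ (n - 2) - 2) → IrrCharacter (K ⧸ Q) → ℤ}
    {X Y₁ Y₂ Y₃ Y₄ : IrrCharacter (K ⧸ Q)}
    {x : Fin (2 ^ (n - 2) - 2) → IrrCharacter (K ⧸ Q)} {h : Loc M B n z b P e S σ ψ} {hζ : IsPrimitiveRoot ζ (2 ^ (n - 1))}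

theorem li_ef (hM : IsPModular 2 M) (hQc : Q ≤ Subgroup.center K) (hw : w ∈ Q)
    {B' : Set (IrrCharacter K)} (hB' : IsPBlock M B') {DK : Subgroup K} (hDK : IsDefectGroup 2 M B' DK)
    (hall : ∀ d ∈ DK, d ≠ 1 → w ∈ Subgroup.zpowers d)
    (hm : ∀ ψ ∈ B, infl Q ψ ∈ B') {E : K ⧸ Q → ℂ} (hE : E ∈ spn B) (hr : reg 2 E = 0)
    {r : ℂ} (hn : classInner E E = r) (hr0 : r ≠ 0)
    (pa : classInner E (Th 2 P e (ψ : C z → ℂ) (va h.ds hζ)) = 0)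
    (pb : classInner E (Th 2 P e (ψ : C z → ℂ) (vb h.ds hζ)) = 0)
    (pc : ∀ j, classInner E (Th 2 P e (ψ : C z → ℂ) (vc h.ds hζ j)) = 0) :
    EF B' w (Li Q (Th 2 P e (ψ : C z → ℂ) (va h.ds hζ))) (Li Q (Th 2 P e (ψ : C z → ℂ) (vb h.ds hζ)))
      (fun j => Li Q (Th 2 P e (ψ : C z → ℂ) (vc h.ds hζ j))) (Li Q E) := by
  have hwc : ∀ g : K, g * w = w * g := fun g => Subgroup.mem_center_iff.1 (hQc hw) g
  have hinv : ∀ c : K, Li Q E (w * c) = Li Q E c := by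
    intro c
    unfold Li
    rw [QuotientGroup.mk_mul, (QuotientGroup.eq_one_iff w).2 hw, one_mul]
  have hsp : Li Q E ∈ spn B' := infl_spn hm hE
  have hin : ∀ f : K ⧸ Q → ℂ, classInner E f = 0 → classInner (Li Q f) (Li Q E) = 0 := by
    intro f hf
    unfold Li
    rw [H79.CentQ.inner_infl]
    exact zero_swap' hf
  refine ⟨⟨hsp, ev_of_reg0 hM hB' hDK hwc hall hsp (Li_reg hr) hinv, hinv⟩, ?_, hin _ pa, hin _ pb, fun j => hin _ (pc j)⟩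
  intro h0
  apply hr0
  rw [← hn, ← H79.CentQ.inner_infl Q E E]
  change classInner (Li Q E) (Li Q E) = 0
  rw [h0, H18.CharOrtho.inner_zero_left]

theorem kaseQ (hM : IsPModular 2 M) (hQ : Nat.card Q = 2) (hQc : Q ≤ Subgroup.center K) (hw : w ∈ Q)
    {B' : Set (IrrCharacter K)} (hB' : IsPBlock M B') {DK : Subgroup K} (hDK : IsDefectGroup 2 M B' DK)
    (hall : ∀ d ∈ DK, d ≠ 1 → w ∈ Subgroup.zpowers d)
    (hm : ∀ ψ ∈ B, infl Q ψ ∈ B') (D : Data h hζ a₁ a₂ u X Y₁ Y₂ Y₃ Y₄ x) (hdn : blockDefect 2 B = n)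
    {c : IrrCharacter (K ⧸ Q) → ℤ} (hc : Std a₁ a₂ u X Y₁ Y₂ Y₃ Y₄ x c) (hr : reg 2 (vec c) = vec c)
    (hcX : vec c = (-(a₁ X : ℂ) * 2 ^ (n - 1)) • reg 2 (X : K ⧸ Q → ℂ))
    {F : (K → ℂ) → Prop} (hF : ∀ y, F y ↔ EF B' w (Li Q (Th 2 P e (ψ : C z → ℂ) (va h.ds hζ)))
      (Li Q (Th 2 P e (ψ : C z → ℂ) (vb h.ds hζ))) (fun j => Li Q (Th 2 P e (ψ : C z → ℂ) (vc h.ds hζ j))) y) :
    (blockRank 2 B = 1 ∧ ∃ y y', F y ∧ F y' ∧ classInner y y' = 0) ∨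
      (blockRank 2 B = 2 ∧ ∃ A y, KA B' (LL Q (vec c)) A ∧ F y) ∨
      (blockRank 2 B = 2 ∧ ∃ A y, KB B' (LL Q (vec c)) A ∧ F y) ∨
      (blockRank 2 B = 3 ∧ ∃ A A', KB B' (LL Q (vec c)) A ∧ KB B' (LL Q (vec c)) A' ∧ classInner A A' = 0 ∧
        IsGeneralizedCharacter K ((2 : ℂ)⁻¹ • (LL Q (vec c) + A + A'))) := by
  classical
  have t := D.str.two
  have hB := h.hind.2.1
  obtain ⟨s1, s3⟩ := EE_spn D
  obtain ⟨o1, o3⟩ := std_EE1 D hc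
  have n11 : classInner (EE a₁ Y₁ Y₂) (EE a₁ Y₁ Y₂) = 2 := EE_self t.n12 t.h1 t.h2
  have n33 : classInner (EE a₂ Y₃ Y₄) (EE a₂ Y₃ Y₄) = 2 := EE_self t.n34 t.h3 t.h4
  have n13 : classInner (EE a₁ Y₁ Y₂) (EE a₂ Y₃ Y₄) = 0 := EE_EE t.n13 t.n14 t.n23 t.n24
  have n31 : classInner (EE a₂ Y₃ Y₄) (EE a₁ Y₁ Y₂) = 0 := zero_swap' n13
  obtain ⟨⟨p1, p2, p3⟩, ⟨p4, p5, p6⟩⟩ := ee_perp D
  have f1 : reg 2 (EE a₁ Y₁ Y₂) = 0 → F (Li Q (EE a₁ Y₁ Y₂)) := fun h1 =>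
    (hF _).2 (li_ef (h := h) (hζ := hζ) hM hQc hw hB' hDK hall hm s1 h1 n11 two_ne_zero p1 p2 p3)
  have f3 : reg 2 (EE a₂ Y₃ Y₄) = 0 → F (Li Q (EE a₂ Y₃ Y₄)) := fun h1 =>
    (hF _).2 (li_ef (h := h) (hζ := hζ) hM hQc hw hB' hDK hall hm s3 h1 n33 two_ne_zero p4 p5 p6)
  have one : ∀ E : K ⧸ Q → ℂ, E ∈ spn B → reg 2 E = E → classInner E E = 2 → classInner E (vec c) = 0 →
      IsGeneralizedCharacter (K ⧸ Q) E → KB B' (LL Q (vec c)) (LL Q E) := by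
    intro E hE hrE hn ho hg
    refine ⟨LL_mem hm ?_, LL_gen hQ hQc hg hrE, ?_, ?_⟩
    · have := reg_mem_Vb hM hB hE
      rwa [hrE] at this
    · rw [LL_inner hQ hQc hrE, hn]; norm_num
    · rw [LL_inner hQ hQc hrE, ho]; norm_num
  rcases rcase' hM D hdn hc hr hcX with ⟨h1, h3, hl⟩ | ⟨h1, h3, hl⟩ | ⟨ε, hε, h1, h3, hl⟩ | ⟨h1, h3, hl⟩ | ⟨h1, h3, hl⟩
  · refine Or.inl ⟨hl, _, _, f1 h1, f3 h3, ?_⟩
    unfold Li
    rw [H79.CentQ.inner_infl]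
    exact n13
  · refine Or.inr (Or.inr (Or.inr ⟨hl, _, _, one _ s1 h1 n11 o1 (EE_gen _ _ _), one _ s3 h3 n33 o3 (EE_gen _ _ _), ?_, ?_⟩))
    · rw [LL_inner hQ hQc h1, n13]; norm_num
    · have hh := half_gen D hc (ε := 1) (Or.inl rfl)
      rw [Int.cast_one, one_smul] at hh
      have e1 : LL Q (vec c) + LL Q (EE a₁ Y₁ Y₂) + LL Q (EE a₂ Y₃ Y₄) =
          LL Q (vec c + (EE a₁ Y₁ Y₂ + EE a₂ Y₃ Y₄)) := by
        rw [LL_add, LL_add, add_assoc]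
      rw [e1, ← LL_smul]
      apply LL_gen hQ hQc hh
      rw [reg_smul, reg_add, reg_add, hr, h1, h3]
  · right; left
    have hεε : (ε : ℂ) * (ε : ℂ) = 1 := by exact_mod_cast sgn_sq hε
    have hns : classInner (EE a₁ Y₁ Y₂ - (ε : ℂ) • EE a₂ Y₃ Y₄) (EE a₁ Y₁ Y₂ - (ε : ℂ) • EE a₂ Y₃ Y₄) = 4 := by
      rw [sub_eq_add_neg, ← neg_smul, H18.CharOrtho.inner_add_left, H18.CharOrtho.inner_add_right, H18.CharOrtho.inner_add_right,
        H18.CharOrtho.inner_smul_left, H18.CharOrtho.inner_smul_left, H18.CharOrtho.inner_smul_right,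
        H18.CharOrtho.inner_smul_right, n11, n13, n31, n33, map_neg, map_intCast]
      linear_combination 2 * hεε
    have hpp : ∀ f : K ⧸ Q → ℂ, classInner (EE a₁ Y₁ Y₂) f = 0 → classInner (EE a₂ Y₃ Y₄) f = 0 →
        classInner (EE a₁ Y₁ Y₂ - (ε : ℂ) • EE a₂ Y₃ Y₄) f = 0 := by
      intro f q1 q3
      rw [sub_eq_add_neg, ← neg_smul, H18.CharOrtho.inner_add_left, H18.CharOrtho.inner_smul_left, q1, q3]; ring
    refine ⟨hl, LL Q (EE a₁ Y₁ Y₂ + (ε : ℂ) • EE a₂ Y₃ Y₄), Li Q (EE a₁ Y₁ Y₂ - (ε : ℂ) • EE a₂ Y₃ Y₄), ?_,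
      (hF _).2 (li_ef (h := h) (hζ := hζ) hM hQc hw hB' hDK hall hm (Submodule.sub_mem _ s1 (Submodule.smul_mem _ _ s3)) h3 hns
        (by norm_num) (hpp _ p1 p4) (hpp _ p2 p5) (fun j => hpp _ (p3 j) (p6 j)))⟩
    set E := EE a₁ Y₁ Y₂ + (ε : ℂ) • EE a₂ Y₃ Y₄ with hE
    have hEs : E ∈ spn B := Submodule.add_mem _ s1 (Submodule.smul_mem _ _ s3)
    have hEg : IsGeneralizedCharacter (K ⧸ Q) E := isGen_add (EE_gen _ _ _) (isGen_intCast_smul _ (EE_gen _ _ _))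
    have hEE : classInner E E = 4 := by
      rw [hE, H18.CharOrtho.inner_add_left, H18.CharOrtho.inner_add_right, H18.CharOrtho.inner_add_right,
        H18.CharOrtho.inner_smul_left, H18.CharOrtho.inner_smul_left, H18.CharOrtho.inner_smul_right,
        H18.CharOrtho.inner_smul_right, n11, n13, n31, n33, map_intCast]
      linear_combination 2 * hεε
    have hEc : classInner E (vec c) = 0 := by
      rw [hE, H18.CharOrtho.inner_add_left, H18.CharOrtho.inner_smul_left, o1, o3]; ring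
    refine ⟨LL_mem hm ?_, LL_gen hQ hQc hEg h1, ?_, ?_, ?_⟩
    · have := reg_mem_Vb hM hB hEs
      rwa [h1] at this
    · rw [LL_inner hQ hQc h1, hEE]; norm_num
    · rw [LL_inner hQ hQc h1, hEc]; norm_num
    · rw [← LL_add, ← LL_smul]
      apply LL_gen hQ hQc (half_gen D hc hε)
      rw [reg_smul, reg_add, hr, ← hE, h1]
  · right; right; left
    exact ⟨hl, _, _, one _ s1 h1 n11 o1 (EE_gen _ _ _), f3 h3⟩
  · right; right; left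
    exact ⟨hl, _, _, one _ s3 h3 n33 o3 (EE_gen _ _ _), f1 h1⟩

end main

end H5.TEp
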