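import Cfsg.Agent.Lib.H5.TEp

/-!
# Block invariants of quaternion defect groups: the analysis
-/

set_option autoImplicit false
set_option linter.unusedSectionVars false
set_option linter.unusedVariables false

namespace H5.TEq

open Cfsg H20.Loc H20.GA H80.GA H80.GB H80.GD H80.GE H80.GF H80.GJ H80.FS H80.FS3 H84.RG H18.CharBasic H18.CharOrtho H18.CharInd H84.TrR
open H20.Blk H20.Orth H20.Ind H20.Height H20.Defect H80.BR1 H80.BR2 H19.Second H19.Second3 H81.Section H81.Contrib H84.Star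
open H5.DBa H5.DBd H5.TBa H5.TBb H5.TBe H5.TBf H5.TBg H5.TBh H5.TBi H5.TBj H78.BlkCount H5.TCa
open H5.TBc H5.TBd H5.TDa H5.TDb H5.TDe H5.TDf H5.TDg H5.TDi H5.TDj H5.TDk H5.TDl H5.TDm H20.NormQ H5.TEa H5.TEb H5.TEc
open H5.TEd H5.TEg H5.TEx H5.TEf H5.TEh H5.TEi H5.TEj H5.TEk H5.TEn H5.TEo H5.TEy H5.TEl H5.TEz H5.TEp
open scoped ComplexConjugate

universe u

attribute [local instance 2000] Fintype.ofFinite

variable {M : Ideal AlgInt} [M.IsMaximal] {G : Type u} [Group G] [Finite G]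
variable [CharP (ResF M) 2] [Algebra (ZMod 2) (ResF M)] [Algebra.IsAlgebraic (ZMod 2) (ResF M)]
  [IsAlgClosed (ResF M)]

section four
variable {B : Set (IrrCharacter G)} {z : G} {b : Set (IrrCharacter (C z))} {k : ℕ} {C0 Ea Eb : C z → ℂ}
  {Ec : Fin (2 ^ (k - 2) - 2) → C z → ℂ}

/-- the fourth case -/
theorem at_four (hM : IsPModular 2 M) (hB : IsPBlock M B) (hz : orderOf z = 2) (hind : IsInducedBlock M (C z) b B)
    (hk : 3 ≤ k) (hd : blockDefect 2 b = blockDefect 2 B) (hd' : blockDefect 2 b = k + 1) (hr : blockRank 2 b = 3)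
    (pk : Pk b (cy z) k C0 Ea Eb Ec)
    (hpar : ∃ W, IsGeneralizedCharacter (C z) W ∧ Ea + Eb + sh (cy z) C0 = (2 : ℂ) • W)
    {o : Fin (2 ^ (k - 2) - 1) → G → ℂ} (ho : Odd B z (2 ^ (k - 2)) o)
    {A0 A1 : C z → ℂ} (hA : KB b C0 A0) (hA' : KB b C0 A1) (haa : classInner A0 A1 = 0)
    (hhalf : IsGeneralizedCharacter (C z) ((2 : ℂ)⁻¹ • (C0 + A0 + A1))) :
    AT B k (blockRank 2 b) := by
  classical
  obtain ⟨a₁, a₂, c, X, Y₁, Y₂, Y₃, Y₄, N⟩ := exists_gn hM hz hind pk hpar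
  obtain ⟨A, hAc⟩ := exists_co (G := G) (sh_gen (cy_sq hz) (cy_cen z) hA.g)
  obtain ⟨A', hAc'⟩ := exists_co (G := G) (sh_gen (cy_sq hz) (cy_cen z) hA'.g)
  obtain ⟨H, hH⟩ := exists_co (G := G) (sh_gen (cy_sq hz) (cy_cen z) hhalf)
  obtain ⟨rA, cA⟩ := Vb_reg hM hind.1 hA.mV
  obtain ⟨rA', cA'⟩ := Vb_reg hM hind.1 hA'.mV
  have num := num_of (Mz := fun i j => c i * c j + 2 * (2 ^ (k - 2) : ℕ) * (A i * A j + A' i * A' j))
    hM hz hind hd hd' hk pk N (mz3 hM hz hind.1 hk hr pk.cV pk.cn hA hA' haa N.hc hAc hAc') (fun i j => by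
      have h3 : (2 * (((2 ^ (k - 2) : ℕ) : ℤ)) * (A i * A j + A' i * A' j)) % 2 = 0 := by
        rw [mul_assoc]
        exact Int.mul_emod_right _ _
      rw [add_sub_cancel_left]
      exact h3)
  have hAz : ∀ χ, χ ∉ B → A χ = 0 := fun χ hχ =>
    co_zero hM hz hind (ab_of_sh hz cA rA) (sh_spn (cy_sq hz) (cy_cen z) (Vb_spn hM hind.1 hA.mV)) hAc hχ
  have hAz' : ∀ χ, χ ∉ B → A' χ = 0 := fun χ hχ =>
    co_zero hM hz hind (ab_of_sh hz cA' rA') (sh_spn (cy_sq hz) (cy_cen z) (Vb_spn hM hind.1 hA'.mV)) hAc' hχ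
  have hN := count_fam2 hM hz hind hk pk ho (ex_sh hM hz hind.1 pk ho hA.mV (kb_ne hA) hA.oC)
    (ex_sh hM hz hind.1 pk ho hA'.mV (kb_ne hA') hA'.oC) (by rw [sh_inner2 (cy_sq hz)]; exact haa)
  have hrB := H79.KLOne.rank_pos (p := 2) hM hB
  have hN' := hN
  rw [card_B] at hN
  have c1 := rel_f hM hz hind pk N pk.cV N.hc
  have r1 := rel_f hM hz hind pk N hA.mV hAc
  have r3 := rel_f hM hz hind pk N hA'.mV hAc'
  obtain ⟨k1, k2, k3⟩ := H5.TEzn.conc3 (A₁ := A) (A₃ := A') (N := k - 2) (by omega) rfl num (fun i j => rfl)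
    (by
      rw [sum_S hAz]
      exact sum_f hM hz hind.1 hA.mV hA.mV hAc hAc (by rw [hA.nn]; norm_num))
    (by
      rw [sum_S hAz']
      exact sum_f hM hz hind.1 hA'.mV hA'.mV hAc' hAc' (by rw [hA'.nn]; norm_num))
    (by
      rw [sum_S hAz]
      exact sum_f hM hz hind.1 hA.mV hA'.mV hAc hAc' (by rw [haa]; norm_num))
    (by
      intro i _
      have h1 : ((c i + A i + A' i : ℤ) : ℂ) = ((2 * H i : ℤ) : ℂ) := by
        push_cast
        rw [← N.hc, ← hAc, ← hAc', ← hH, ← H18.CharOrtho.inner_add_left, ← H18.CharOrtho.inner_add_left, ← In_add, ← In_add]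
        have h2 : sh (cy z) C0 + sh (cy z) A0 + sh (cy z) A1 = (2 : ℂ) • sh (cy z) ((2 : ℂ)⁻¹ • (C0 + A0 + A1)) := by
          funext g
          simp only [sh, Pi.add_apply, Pi.smul_apply, smul_eq_mul]
          ring
        rw [h2, In_smul, H18.CharOrtho.inner_smul_left]
      have h2 : c i + A i + A' i = 2 * H i := by exact_mod_cast h1
      omega)
    (by
      rw [sum_S hAz]
      exact sum_f hM hz hind.1 hA.mV pk.cV hAc N.hc (by rw [hA.oC]; norm_num))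
    (by
      rw [sum_S hAz']
      exact sum_f hM hz hind.1 hA'.mV pk.cV hAc' N.hc (by rw [hA'.oC]; norm_num))
    (by omega) N.two
    (fun i => by
      rw [Finset.mem_filter]
      have := N.O i
      simp only [Finset.mem_univ, true_and]
      exact this) (Finset.mem_filter.2 ⟨Finset.mem_univ _, N.mX⟩) c1.1 c1.2 r1.1 r1.2 r3.1 r3.2
  refine ⟨hN', ?_, ?_, ?_, ?_⟩
  · rw [card_B]; omega
  · rw [card_ht]; exact num.card0
  · intro _
    rw [card_ht]; exact k2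
  · intro χ hχ
    rcases k3 χ (Finset.mem_filter.2 ⟨Finset.mem_univ _, hχ⟩) with h | h | h
    · exact Or.inl h
    · exact Or.inr (Or.inl h)
    · exact Or.inr (Or.inr (by rw [h]; omega))

end four

/-- the result of the analysis -/
def An (M : Ideal AlgInt) (B : Set (IrrCharacter G)) (D : Subgroup G) (k : ℕ) : Prop :=
  ∃ (z : G) (b : Set (IrrCharacter (C z))), z ∈ D ∧ orderOf z = 2 ∧ (∀ d ∈ D, d * z = z * d) ∧
    (∀ d ∈ D, d ≠ 1 → z ∈ Subgroup.zpowers d) ∧ IsPBlock M b ∧ IsInducedBlock M (C z) b B ∧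
    IsDefectGroup 2 M b (D.subgroupOf (C z)) ∧ blockRank 2 b ≤ 3 ∧ AT B k (blockRank 2 b)

theorem analysis4 (hM : IsPModular 2 M) {B : Set (IrrCharacter G)} (hB : IsPBlock M B) {D : Subgroup G}
    (hD : IsDefectGroup 2 M B D) {k : ℕ} (hk : 3 ≤ k) (φ : D ≃* QuaternionGroup (2 ^ (k + 1 - 2))) :
    An M B D k := by
  classical
  obtain ⟨hcard, s, t, z, y, hs, hts, hto, htt, hzo, hzc, hcen, hyt, hall, hsq, hdih⟩ :=
    H5.TEzq.q_data (n := k + 1) (by omega) φ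
  have hzo' : orderOf (z : G) = 2 := by rw [Subgroup.orderOf_coe, hzo]
  obtain ⟨b, Q, hQn, t', B', z', b', P, e, S, σ, ψ, hb, hind, hDb, hdb, hdB, hQ, hQc, hQs, hQe, hQw, htD, htt', hz',
    hm, hrank, hdB', hcB', h⟩ := setup hM hB hD hk hcard (z := (z : G)) z.2 hzo'
      (fun d hd => congrArg Subtype.val (hzc ⟨d, hd⟩))
      (fun d hd h1 h2 h3 => by
        have := hsq ⟨d, hd⟩ (fun h => h1 (congrArg Subtype.val h)) (fun h => h2 (congrArg Subtype.val h)) (fun x => by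
          rcases h3 x x.2 with h4 | h4
          · exact Or.inl (Subtype.ext h4)
          · exact Or.inr (Subtype.ext h4))
        exact congrArg Subtype.val this)
      (fun E _ f hf hk' => by
        have := hdih E f hf (fun d => by
          rw [hk' d]
          constructor
          · rintro (h1 | h1)
            · exact Or.inl (Subtype.ext h1)
            · exact Or.inr (Subtype.ext h1)
          · rintro (h1 | h1)
            · exact Or.inl (congrArg Subtype.val h1)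
            · exact Or.inr (congrArg Subtype.val h1))
        exact this)
  haveI := hQn
  have hDC : D ≤ C (z : G) := by
    intro d hd
    rw [Subgroup.mem_centralizer_singleton_iff]
    exact congrArg Subtype.val (hzc ⟨d, hd⟩)
  have hζ := Complex.isPrimitiveRoot_exp (2 ^ (k - 1)) (by positivity)
  set ζ := Complex.exp (2 * Real.pi * Complex.I / ((2 ^ (k - 1) : ℕ) : ℂ)) with hζd
  obtain ⟨a₁, a₂, u, X, Y₁, Y₂, Y₃, Y₄, x, Dt⟩ := exists_data hM h hζ hcB'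
  obtain ⟨c, hc, hr, hcX⟩ := exists_C hM Dt hdB'
  have hmm : ∀ ψ ∈ B', infl Q ψ ∈ b := fun ψ hψ => (hm ψ).2 hψ
  have pk := exists_pk hM hQ hQc hQs hQw htt' hz' hmm Dt hc hr
  have hww : cy (z : G) * cy (z : G) = 1 := hQs _ hQw
  have hyD : (⟨(y : G), hDC y.2⟩ : C (z : G)) ∈ D.subgroupOf (C (z : G)) := y.2
  have htD' : (⟨(t : G), hDC t.2⟩ : C (z : G)) ∈ D.subgroupOf (C (z : G)) := t.2
  have htt1 : (t : G) * (t : G) = (z : G) := congrArg Subtype.val htt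
  have hyt1 : (y : G) * (t : G) * (y : G)⁻¹ = (t : G)⁻¹ := congrArg Subtype.val hyt
  have hpar := par hM hQ hQc hQe hQw hww hb hdb hmm Dt hc hr hcX (fun ξ hξ h0 =>
    H81.OddHt.odd_height hM hb hDb htD' hyD (z := cy (z : G)) (fun g => cy_cen _ g)
      (Subtype.ext htt1) hww (Subtype.ext hyt1) hξ h0)
  have hcard8 : Nat.card D = 8 * 2 ^ (k - 2) := by
    rw [hcard, show (8 : ℕ) = 2 ^ 3 by norm_num, ← pow_add]; congr 1; omega
  have hso4 : orderOf (s : G) = 4 * 2 ^ (k - 2) := by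
    rw [Subgroup.orderOf_coe, hs, show (4 : ℕ) = 2 ^ 2 by norm_num, ← pow_add]; congr 1; omega
  have hq2 : 2 ≤ 2 ^ (k - 2) := by
    calc 2 = 2 ^ 1 := by norm_num
      _ ≤ 2 ^ (k - 2) := Nat.pow_le_pow_right (by norm_num) (by omega)
  obtain ⟨o, o1, o2, o3, o4, o5⟩ := odd_family hM hB hD hq2 hcard8 (s := (s : G)) (t := (t : G)) (z := (z : G))
    (y := (y : G)) s.2 hso4 (by
      obtain ⟨m, hm⟩ := hts
      exact ⟨m, congrArg Subtype.val hm⟩) (by rw [Subgroup.orderOf_coe, hto]) (congrArg Subtype.val htt)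
    (fun d hd => by
      rcases hcen ⟨d, hd⟩ with h1 | h1
      · exact Or.inl (congrArg Subtype.val h1)
      · exact Or.inr (congrArg Subtype.val h1)) y.2 (congrArg Subtype.val hyt)
  have ho : Odd B (z : G) (2 ^ (k - 2)) o := ⟨o1, o2, o3, o4, o5⟩
  have hdd : blockDefect 2 b = blockDefect 2 B := by rw [hdb, hdB]
  have hallG : ∀ d ∈ D, d ≠ 1 → (z : G) ∈ Subgroup.zpowers d := by
    intro d hd hd1
    obtain ⟨m, hm⟩ := hall ⟨d, hd⟩ (fun h => hd1 (congrArg Subtype.val h))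
    exact ⟨m, congrArg Subtype.val hm⟩
  have hallK : ∀ d ∈ D.subgroupOf (C (z : G)), d ≠ 1 → cy (z : G) ∈ Subgroup.zpowers d := by
    intro d hd hd1
    obtain ⟨m, hm⟩ := hallG (d : G) hd (fun h => hd1 (Subtype.ext h))
    exact ⟨m, Subtype.ext hm⟩
  refine ⟨z, b, z.2, hzo', fun d hd => congrArg Subtype.val (hzc ⟨d, hd⟩), hallG, hb, hind, hDb, ?_⟩
  rcases kaseQ hM hQ hQc hQw hb hDb hallK hmm Dt hdB' hc hr hcX (fun y => Iff.rfl) with
    ⟨hl, y1, y2, f1, f2, f3⟩ | ⟨hl, A, y1, hA, f1⟩ | ⟨hl, A, y1, hA, f1⟩ | ⟨hl, A, A', hA, hA', haa, hh⟩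
  · refine ⟨by omega, ?_⟩
    exact at_one hM hB hzo' hind hk hdd hdb (hrank.trans hl) pk hpar ho
      (ex_ev hM hzo' hb pk ho f1.ev f1.ne f1.a f1.b' f1.c) (ex_ev hM hzo' hb pk ho f2.ev f2.ne f2.a f2.b' f2.c) f3
  · refine ⟨by omega, ?_⟩
    exact at_two hM hB hzo' hind hk hdd hdb (hrank.trans hl) pk hpar ho hA
      (ex_ev hM hzo' hb pk ho f1.ev f1.ne f1.a f1.b' f1.c) (zero_swap' (ev_sh hzo' f1.ev (Vb_reg hM hb hA.mV).1))
  · refine ⟨by omega, ?_⟩
    exact at_three hM hB hzo' hind hk hdd hdb (hrank.trans hl) pk hpar ho hA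
      (ex_ev hM hzo' hb pk ho f1.ev f1.ne f1.a f1.b' f1.c) (zero_swap' (ev_sh hzo' f1.ev (Vb_reg hM hb hA.mV).1))
  · refine ⟨by omega, ?_⟩
    exact at_four hM hB hzo' hind hk hdd hdb (hrank.trans hl) pk hpar ho hA hA' haa hh

end H5.TEq
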