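import Cfsg.Agent.Lib.H5.TEq
import Cfsg.Agent.Lib.H83.Q8At

/-!
# Block invariants of quaternion defect groups: the end
-/

set_option autoImplicit false
set_option linter.unusedSectionVars false
set_option linter.unusedVariables false

namespace H5.TEr

open Cfsg H20.Loc H20.GA H80.GA H80.GB H80.GD H80.GE H80.GF H80.GJ H80.FS H80.FS3 H84.RG H18.CharBasic H18.CharOrtho H18.CharInd H84.TrR
open H20.Blk H20.Orth H20.Ind H20.Height H20.Defect H80.BR1 H80.BR2 H19.Second H19.Second3 H81.Section H81.Contrib H84.Star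
open H5.DBa H5.DBd H5.TBa H5.TBb H5.TBe H5.TBf H5.TBg H5.TBh H5.TBi H5.TBj H78.BlkCount H5.TCa
open H5.TBc H5.TBd H5.TDa H5.TDb H5.TDe H5.TDf H5.TDg H5.TDi H5.TDj H5.TDk H5.TDl H5.TDm H20.NormQ H5.TEa H5.TEb H5.TEc
open H5.TEd H5.TEg H5.TEx H5.TEf H5.TEh H5.TEi H5.TEj H5.TEk H5.TEn H5.TEo H5.TEy H5.TEl H5.TEz H5.TEp H5.TEq
open scoped ComplexConjugate

universe u

attribute [local instance 2000] Fintype.ofFinite

variable {M : Ideal AlgInt} [M.IsMaximal] {G : Type u} [Group G] [Finite G]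
variable [CharP (ResF M) 2] [Algebra (ZMod 2) (ResF M)] [Algebra.IsAlgebraic (ZMod 2) (ResF M)]
  [IsAlgClosed (ResF M)]

theorem at_q8 {B : Set (IrrCharacter G)} {z : G} {b : Set (IrrCharacter (C z))}
    (hM : IsPModular 2 M) (hB : IsPBlock M B) (hz : orderOf z = 2) (hind : IsInducedBlock M (C z) b B)
    (hdb : blockDefect 2 b = 3) (hdB : blockDefect 2 B = 3)
    (pack : (blockRank 2 b = 1 ∧ ∃ C0 F₁ F₂ F₃ W : C z → ℂ, C0 ∈ Vb 2 b ∧ IsGeneralizedCharacter (C z) C0 ∧ classInner C0 C0 = 8 ∧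
      EvF b (cy z) F₁ ∧ EvF b (cy z) F₂ ∧ EvF b (cy z) F₃ ∧ IsGeneralizedCharacter (C z) F₁ ∧ IsGeneralizedCharacter (C z) F₂ ∧
      classInner F₁ F₁ = 2 ∧ classInner F₂ F₂ = 2 ∧ classInner F₃ F₃ = 2 ∧ classInner F₁ F₂ = 0 ∧
      classInner F₁ F₃ = -1 ∧ classInner F₂ F₃ = -1 ∧ IsGeneralizedCharacter (C z) W ∧ F₁ + F₂ + sh (cy z) C0 = (2 : ℂ) • W) ∨
    (blockRank 2 b = 3 ∧ ∃ (Cm : Fin 3 → C z → ℂ) (F : C z → ℂ) (W : Fin 3 → C z → ℂ),
      (∀ m, Cm m ∈ Vb 2 b ∧ IsGeneralizedCharacter (C z) (Cm m)) ∧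
      (∀ m m', classInner (Cm m) (Cm m') = if m = m' then 8 else 0) ∧ EvF b (cy z) F ∧ IsGeneralizedCharacter (C z) F ∧
      classInner F F = 4 ∧ ∀ m, IsGeneralizedCharacter (C z) (W m) ∧ F + sh (cy z) (Cm m) = (2 : ℂ) • W m)) :
    AT B 2 (blockRank 2 b) :=
  H83.Q8At.at_q8 hM hB hz hind hdb hdB pack

theorem analysis3 (hM : IsPModular 2 M) {B : Set (IrrCharacter G)} (hB : IsPBlock M B) {D : Subgroup G}
    (hD : IsDefectGroup 2 M B D) (φ : D ≃* QuaternionGroup (2 ^ (2 + 1 - 2))) :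
    An M B D 2 := by
  classical
  obtain ⟨hcard, s, t, z, y, hs, hts, hto, htt, hzo, hzc, hcen, hyt, hall, hsq, hdih⟩ :=
    H5.TEzq.q_data (n := 2 + 1) (by omega) φ
  have hzo' : orderOf (z : G) = 2 := by rw [Subgroup.orderOf_coe, hzo]
  have hord : ∀ d : D, orderOf d ∣ 8 := fun d => by
    have := orderOf_dvd_natCard d
    rwa [hcard] at this
  -- every element of order 4 has square `z`
  have hsq4 : ∀ d : D, d ≠ 1 → d ≠ z → d * d = z := by
    intro d hd1 hdz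
    refine hsq d hd1 hdz ?_
    intro x
    have hcl : Nat.card (D ⧸ Subgroup.zpowers z) = 4 := by
      have h1 := Subgroup.card_eq_card_quotient_mul_card_subgroup (Subgroup.zpowers z)
      rw [hcard, Nat.card_zpowers, hzo] at h1
      omega
    haveI hn : (Subgroup.zpowers z).Normal := by
      constructor
      intro a ha g
      obtain ⟨m, hm⟩ := ha
      have hm' : z ^ m = a := hm
      refine ⟨m, ?_⟩
      change z ^ m = g * a * g⁻¹
      rw [← hm']
      have hcz : Commute g z := hzc g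
      have hc : Commute g (z ^ m) := hcz.zpow_right m
      rw [hc.eq, mul_assoc, mul_inv_cancel, mul_one]
    have hab : ∀ a c : D ⧸ Subgroup.zpowers z, a * c = c * a := by
      haveI : Fact (Nat.Prime 2) := ⟨Nat.prime_two⟩
      letI := IsPGroup.commGroupOfCardEqPrimeSq (p := 2) (G := D ⧸ Subgroup.zpowers z) (by rw [hcl]; norm_num)
      intro a c
      exact mul_comm a c
    have h2 : ((x * d * x⁻¹ : D) : D ⧸ Subgroup.zpowers z) = (d : D ⧸ Subgroup.zpowers z) := by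
      rw [QuotientGroup.mk_mul, QuotientGroup.mk_mul, hab _ (d : D ⧸ Subgroup.zpowers z), mul_assoc, ← QuotientGroup.mk_mul,
        mul_inv_cancel, QuotientGroup.mk_one, mul_one]
    have h3 : d⁻¹ * (x * d * x⁻¹) ∈ Subgroup.zpowers z := QuotientGroup.eq.1 h2.symm
    have h4 : ∀ a ∈ Subgroup.zpowers z, a = 1 ∨ a = z := by
      rintro a ⟨m, hm⟩
      have hm' : z ^ m = a := hm
      have hz2 : z ^ (2 : ℤ) = 1 := by
        have := pow_orderOf_eq_one z
        rw [hzo] at this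
        exact_mod_cast this
      rcases Int.even_or_odd' m with ⟨j, hj | hj⟩
      · left
        rw [← hm', hj, zpow_mul, hz2, one_zpow]
      · right
        rw [← hm', hj, zpow_add, zpow_mul, hz2, one_zpow, one_mul, zpow_one]
    rcases h4 _ h3 with h5 | h5
    · left
      have := inv_mul_eq_one.1 h5
      exact this.symm
    · right
      rw [← h5]; group
  obtain ⟨b, Q, hQn, B', D', hb, hind, hDb, hdb, hdB, hQ, hQc, hQs, hQe, hQw, hB', hD', hcD', hsD', hm, hrank, hdB'⟩ :=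
    setup3 hM hB hD hcard (z := (z : G)) z.2 hzo' (fun d hd => congrArg Subtype.val (hzc ⟨d, hd⟩))
      (fun d hd h1 h2 => by
        have := hsq4 ⟨d, hd⟩ (fun h => h1 (congrArg Subtype.val h)) (fun h => h2 (congrArg Subtype.val h))
        exact congrArg Subtype.val this)
  haveI := hQn
  have hDC : D ≤ C (z : G) := by
    intro d hd
    rw [Subgroup.mem_centralizer_singleton_iff]
    exact congrArg Subtype.val (hzc ⟨d, hd⟩)
  have hww : cy (z : G) * cy (z : G) = 1 := hQs _ hQw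
  have hyD : (⟨(y : G), hDC y.2⟩ : C (z : G)) ∈ D.subgroupOf (C (z : G)) := y.2
  have htD' : (⟨(t : G), hDC t.2⟩ : C (z : G)) ∈ D.subgroupOf (C (z : G)) := t.2
  have htt1 : (t : G) * (t : G) = (z : G) := congrArg Subtype.val htt
  have hyt1 : (y : G) * (t : G) * (y : G)⁻¹ = (t : G)⁻¹ := congrArg Subtype.val hyt
  have hallG : ∀ d ∈ D, d ≠ 1 → (z : G) ∈ Subgroup.zpowers d := by
    intro d hd hd1
    obtain ⟨m, hm⟩ := hall ⟨d, hd⟩ (fun h => hd1 (congrArg Subtype.val h))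
    exact ⟨m, congrArg Subtype.val hm⟩
  have hallK : ∀ d ∈ D.subgroupOf (C (z : G)), d ≠ 1 → cy (z : G) ∈ Subgroup.zpowers d := by
    intro d hd hd1
    obtain ⟨m, hm⟩ := hallG (d : G) hd (fun h => hd1 (Subtype.ext h))
    exact ⟨m, Subtype.ext hm⟩
  obtain ⟨-, Y, δ, hY, hYB, hδ, h0, hcase⟩ := klein_data hM hB' hD' hcD' hsD'
  have pack := q8_pack hM hQ hQc hQs hQe hQw (cy_ord hzo') hb hDb hallK hdb hm hrank hB' hdB'
    (fun ξ hξ h0 => H81.OddHt.odd_height hM hb hDb htD' hyD (z := cy (z : G)) (fun g => cy_cen _ g)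
      (Subtype.ext htt1) hww (Subtype.ext hyt1) hξ h0) hY hYB hδ h0 hcase
  refine ⟨z, b, z.2, hzo', fun d hd => congrArg Subtype.val (hzc ⟨d, hd⟩), hallG, hb, hind, hDb, ?_, ?_⟩
  · rcases pack with ⟨h1, -⟩ | ⟨h1, -⟩ <;> omega
  · exact at_q8 hM hB hzo' hind hdb hdB pack

theorem analysis (hM : IsPModular 2 M) {B : Set (IrrCharacter G)} (hB : IsPBlock M B) {D : Subgroup G}
    (hD : IsDefectGroup 2 M B D) {k : ℕ} (hk : 2 ≤ k) (φ : D ≃* QuaternionGroup (2 ^ (k + 1 - 2))) :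
    An M B D k := by
  rcases Nat.lt_or_ge k 3 with h | h
  · obtain rfl : k = 2 := by omega
    exact analysis3 hM hB hD φ
  · exact analysis4 hM hB hD h φ

theorem main (hM : IsPModular 2 M) {B : Set (IrrCharacter G)} (hB : IsPBlock M B) {D : Subgroup G}
    (hD : IsDefectGroup 2 M B D) {k : ℕ} (hk : 2 ≤ k) (φ : D ≃* QuaternionGroup (2 ^ (k + 1 - 2))) :
    1 ≤ blockRank 2 B ∧ blockRank 2 B ≤ 3 ∧ Nat.card B = blockRank 2 B + 2 ^ (k + 1 - 2) + 2 ∧
      Nat.card {χ : IrrCharacter G // χ ∈ B ∧ blockHeight 2 B (χ : G → ℂ) = 0} = 4 ∧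
      (∀ χ ∈ B, blockHeight 2 B (χ : G → ℂ) = 0 ∨ blockHeight 2 B (χ : G → ℂ) = 1 ∨
        blockHeight 2 B (χ : G → ℂ) = k + 1 - 2) ∧
      (4 ≤ k + 1 → Nat.card {χ : IrrCharacter G // χ ∈ B ∧ blockHeight 2 B (χ : G → ℂ) = 1} = 2 ^ (k + 1 - 2) - 1) := by
  obtain ⟨z, b, hzD, hzo, hzc, hall, hb, hind, hDb, hl3, at1⟩ := analysis hM hB hD hk φ
  have hDC : D ≤ C z := by
    intro d hd
    rw [Subgroup.mem_centralizer_singleton_iff]
    exact hzc d hd
  obtain ⟨w, b2, hwD, hwo, hwc, hwall, hb2, hind2, hDb2, hl32, at2⟩ :=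
    analysis hM hb hDb hk ((Subgroup.subgroupOfEquivOfLe hDC).trans φ)
  have hwz : w = cy z := by
    have h1 : w ∈ Subgroup.zpowers (cy z) := hwall (cy z) hzD (by
      intro h
      have := cy_ord hzo
      rw [h, orderOf_one] at this; omega)
    obtain ⟨m, hm⟩ := h1
    have hm' : cy z ^ m = w := hm
    have hz2 : cy z ^ (2 : ℤ) = 1 := by
      have := pow_orderOf_eq_one (cy z)
      rw [cy_ord hzo] at this
      exact_mod_cast this
    rcases Int.even_or_odd' m with ⟨j, hj | hj⟩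
    · exfalso
      rw [hj, zpow_mul, hz2, one_zpow] at hm'
      rw [← hm', orderOf_one] at hwo; omega
    · rw [← hm', hj, zpow_add, zpow_mul, hz2, one_zpow, one_mul, zpow_one]
  have hrt := (rank_top hM (w := w) (fun g => by rw [hwz]; exact cy_cen z g) hind2).1
  have hdiff := rank_diff_le hM hB hD hzD hzo hall hind
  have hpos := H79.KLOne.rank_pos (p := 2) hM hB
  have e : 2 * 2 ^ (k - 2) = 2 ^ (k + 1 - 2) := by
    rw [← pow_succ']; congr 1; omega
  have lo := at1.lo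
  have up := at2.up
  have up1 := at1.up
  rw [hrt] at up
  refine ⟨hpos, by omega, by omega, at1.h0, ?_, ?_⟩
  · intro χ hχ
    rcases at1.hh χ hχ with h | h | h
    · exact Or.inl h
    · exact Or.inr (Or.inl h)
    · exact Or.inr (Or.inr (by rw [h]; omega))
  · intro h4
    rw [at1.h1 (by omega), e]

end H5.TEr
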