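import Cfsg.Agent.Lib.H5.TEd

/-!
# Values of characters of height zero on the sections of the noncentral involutions
-/

set_option autoImplicit false
set_option linter.unusedSectionVars false
set_option linter.unusedVariables false

namespace H5.TEs

open Cfsg H20.Loc H20.GA H80.GA H80.GB H80.GD H80.GE H80.GF H80.GJ H80.FS H80.FS3 H84.RG H18.CharBasic H18.CharOrtho H18.CharInd H84.TrR
open H20.Blk H20.Orth H20.Ind H20.Height H20.Defect H80.BR1 H80.BR2 H19.Second H19.Second3 H81.Section H81.Contrib H84.Star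
open H5.DBa H5.DBd H5.TBa H5.TBb H5.TBe H5.TBf H5.TBg H5.TBh H5.TBi H5.TBj H78.BlkCount H5.TCa
open H5.TBc H5.TBd H5.TDa H5.TDb H5.TDe H5.TDf H5.TDg H5.TDi H5.TDj H5.TDk H5.TDl H5.TDm H20.NormQ H5.TEa H5.TEb H5.TEc
open H5.TEd
open scoped ComplexConjugate

universe u

attribute [local instance 2000] Fintype.ofFinite

variable {M : Ideal AlgInt} [M.IsMaximal] {K : Type u} [Group K] [Finite K]
variable [CharP (ResF M) 2] [Algebra (ZMod 2) (ResF M)] [Algebra.IsAlgebraic (ZMod 2) (ResF M)]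
  [IsAlgClosed (ResF M)]
variable {Q : Subgroup K} [Q.Normal] {w t : K}
variable {B : Set (IrrCharacter (K ⧸ Q))} {n : ℕ} {z : K ⧸ Q} {b : Set (IrrCharacter (C z))}
    {P : Subgroup (C z)} {e : MonoidAlgebra (ResF M) (C z)} {S : Sylow 2 P} {σ : P}
    {ψ : IrrCharacter (C z)} {ζ : ℂ}
variable {a₁ a₂ : IrrCharacter (K ⧸ Q) → ℤ} {u : Fin (2 ^ (n - 2) - 2) → IrrCharacter (K ⧸ Q) → ℤ}
    {X Y₁ Y₂ Y₃ Y₄ : IrrCharacter (K ⧸ Q)}
    {x : Fin (2 ^ (n - 2) - 2) → IrrCharacter (K ⧸ Q)} {h : Loc M B n z b P e S σ ψ} {hζ : IsPrimitiveRoot ζ (2 ^ (n - 1))}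

theorem ee_inner {a : IrrCharacter (K ⧸ Q) → ℤ} {Y Y' : IrrCharacter (K ⧸ Q)} {F : K ⧸ Q → ℂ} {m m' : ℤ}
    (h1 : classInner F (Y : K ⧸ Q → ℂ) = m) (h2 : classInner F (Y' : K ⧸ Q → ℂ) = m') (h : a Y * m - a Y' * m' = 0) :
    classInner (EE a Y Y') F = 0 := by
  have e : ∀ (Z : IrrCharacter (K ⧸ Q)) (k : ℤ), classInner F (Z : K ⧸ Q → ℂ) = k → classInner (Z : K ⧸ Q → ℂ) F = k := by
    intro Z k hk
    rw [← H18.CharOrtho.inner_conj_symm, hk, map_intCast]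
  unfold EE
  rw [H18.CharOrtho.inner_sub_left, H18.CharOrtho.inner_smul_left, H18.CharOrtho.inner_smul_left, e _ _ h1, e _ _ h2]
  exact_mod_cast h

theorem ee_perp (D : Data h hζ a₁ a₂ u X Y₁ Y₂ Y₃ Y₄ x) :
    (classInner (EE a₁ Y₁ Y₂) (Th 2 P e (ψ : C z → ℂ) (va h.ds hζ)) = 0 ∧
      classInner (EE a₁ Y₁ Y₂) (Th 2 P e (ψ : C z → ℂ) (vb h.ds hζ)) = 0 ∧
      ∀ j, classInner (EE a₁ Y₁ Y₂) (Th 2 P e (ψ : C z → ℂ) (vc h.ds hζ j)) = 0) ∧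
    (classInner (EE a₂ Y₃ Y₄) (Th 2 P e (ψ : C z → ℂ) (va h.ds hζ)) = 0 ∧
      classInner (EE a₂ Y₃ Y₄) (Th 2 P e (ψ : C z → ℂ) (vb h.ds hζ)) = 0 ∧
      ∀ j, classInner (EE a₂ Y₃ Y₄) (Th 2 P e (ψ : C z → ℂ) (vc h.ds hζ j)) = 0) := by
  have t := D.str.two
  refine ⟨⟨ee_inner (D.ha _) (D.ha _) ?_, ee_inner (D.hb _) (D.hb _) ?_, fun j => ee_inner (D.hu j _) (D.hu j _) ?_⟩,
    ⟨ee_inner (D.ha _) (D.ha _) ?_, ee_inner (D.hb _) (D.hb _) ?_, fun j => ee_inner (D.hu j _) (D.hu j _) ?_⟩⟩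
  · rw [sgn_sq t.h1, sgn_sq t.h2, sub_self]
  · rw [t.z2 _ t.n1 t.n13 t.n14, t.z2 _ t.n2 t.n23 t.n24]; ring
  · obtain ⟨k1, k2, k3, k4, k5, k6, k7, k8⟩ := D.str.ta j
    rw [k8 _ t.n1 k2.symm, k8 _ t.n2 k3.symm]; ring
  · rw [t.z1 _ t.n3 t.n13.symm t.n23.symm, t.z1 _ t.n4 t.n14.symm t.n24.symm]; ring
  · rw [sgn_sq t.h3, sgn_sq t.h4, sub_self]
  · obtain ⟨k1, k2, k3, k4, k5, k6, k7, k8⟩ := D.str.ta j
    rw [k8 _ t.n3 k4.symm, k8 _ t.n4 k5.symm]; ring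

theorem th_val (hM : IsPModular 2 M) (h : Loc M B n z b P e S σ ψ) {f : P → ℂ} (hf : Good z P f)
    {a : IrrCharacter (K ⧸ Q) → ℤ}
    (ha : ∀ χ : IrrCharacter (K ⧸ Q), classInner (Th 2 P e (ψ : C z → ℂ) f) (χ : K ⧸ Q → ℂ) = a χ) {g : K ⧸ Q}
    (h0 : Th 2 P e (ψ : C z → ℂ) f g = 0) : ∑ χ : IrrCharacter (K ⧸ Q), (a χ : ℂ) * (χ : K ⧸ Q → ℂ) g = 0 := by
  have h1 := congrFun (mem_classFun_expand (Th_cl hM h hf)) g
  rw [h0, Finset.sum_apply] at h1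
  rw [h1]
  refine Finset.sum_congr rfl fun χ _ => ?_
  rw [Pi.smul_apply, smul_eq_mul, ha]

theorem sec_eq (hM : IsPModular 2 M) (D : Data h hζ a₁ a₂ u X Y₁ Y₂ Y₃ Y₄ x)
    {c : IrrCharacter (K ⧸ Q) → ℤ} (hc : Std a₁ a₂ u X Y₁ Y₂ Y₃ Y₄ x c) (hr : reg 2 (vec c) = vec c)
    {g : K ⧸ Q} (hg2 : 2 ∣ orderOf g) (hgz : ∀ x : K ⧸ Q, x * z * x⁻¹ ∉ Subgroup.zpowers g) :
    (Y₁ : K ⧸ Q → ℂ) g = ((a₁ Y₁ : ℂ) / 2) * EE a₁ Y₁ Y₂ g ∧ (Y₃ : K ⧸ Q → ℂ) g = ((a₂ Y₃ : ℂ) / 2) * EE a₂ Y₃ Y₄ g := by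
  classical
  have t := D.str.two
  have hv : ∀ f : P → ℂ, Good z P f → Th 2 P e (ψ : C z → ℂ) f g = 0 := by
    intro f hf
    by_contra hne
    obtain ⟨y, hy⟩ := Th_sup (b := b) hM hf.sup hne
    exact hgz y hy
  have ga : Good z P (va h.ds hζ) := good_diff h _ _
  have gb : Good z P (vb h.ds hζ) := good_diff h _ _
  have gc : ∀ j, Good z P (vc h.ds hζ j) := fun j => good_diff h _ _
  set f : IrrCharacter (K ⧸ Q) → ℂ := fun χ => (χ : K ⧸ Q → ℂ) g with hf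
  have r1 : ∑ χ : IrrCharacter (K ⧸ Q), (a₁ χ : ℂ) * f χ = 0 := th_val hM h ga D.ha (hv _ ga)
  have r2 : ∑ χ : IrrCharacter (K ⧸ Q), (a₂ χ : ℂ) * f χ = 0 := th_val hM h gb D.hb (hv _ gb)
  have ru : ∀ j, ∑ χ : IrrCharacter (K ⧸ Q), (u j χ : ℂ) * f χ = 0 := fun j => th_val hM h (gc j) (D.hu j) (hv _ (gc j))
  rw [H5.TBd.sum_three _ t.n1.symm t.n2.symm t.n12 (fun i i1 i2 i3 => by rw [t.z1 i i1 i2 i3]; simp)] at r1
  rw [H5.TBd.sum_three _ t.n3.symm t.n4.symm t.n34 (fun i i1 i2 i3 => by rw [t.z2 i i1 i2 i3]; simp), t.hX'] at r2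
  have ru' : ∀ j, (a₁ X : ℂ) * f X + (u j (x j) : ℂ) * f (x j) = 0 := by
    intro j
    have h1 := ru j
    obtain ⟨k1, -, -, -, -, k6, -, k8⟩ := D.str.ta j
    rw [H5.TBd.sum_two _ k1.symm (fun i i1 i2 => by rw [k8 i i1 i2]; simp), k6] at h1
    exact h1
  have h0 : ∑ χ : IrrCharacter (K ⧸ Q), (c χ : ℂ) * f χ = 0 := by
    have h1 : vec c g = 0 := by rw [← hr, reg_not hg2]
    unfold vec at h1
    rw [Finset.sum_apply] at h1
    rw [← h1]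
    refine Finset.sum_congr rfl fun χ _ => ?_
    rw [Pi.smul_apply, smul_eq_mul]
  rw [sum_lst D.str _ (fun i hi => by rw [hc.cz i hi]; simp)] at h0
  have hx : ∀ j, (c (x j) : ℂ) * f (x j) = -2 * ((a₁ X : ℂ) * f X) := by
    intro j
    rw [hc.cx j]
    push_cast
    linear_combination 2 * ru' j
  rw [Finset.sum_congr rfl fun j _ => hx j, Finset.sum_const, Finset.card_univ, Fintype.card_fin, nsmul_eq_mul,
    hc.cX, hc.c1, hc.c2, hc.c3, hc.c4] at h0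
  push_cast at h0
  have e0 : (a₁ X : ℂ) * (a₁ X : ℂ) = 1 := by exact_mod_cast sgn_sq t.hX
  have e1 : (a₁ Y₁ : ℂ) * (a₁ Y₁ : ℂ) = 1 := by exact_mod_cast sgn_sq t.h1
  have e3 : (a₂ Y₃ : ℂ) * (a₂ Y₃ : ℂ) = 1 := by exact_mod_cast sgn_sq t.h3
  have hX0 : (a₁ X : ℂ) * f X = 0 := by
    have h5 : ((4 + 2 * (2 ^ (n - 2) - 2 : ℕ) : ℕ) : ℂ) * ((a₁ X : ℂ) * f X) = 0 := by
      push_cast
      push_cast at h0 r1 r2
      linear_combination -h0 + r1 + r2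
    rcases mul_eq_zero.1 h5 with h6 | h6
    · exfalso
      have : 4 + 2 * (2 ^ (n - 2) - 2) = 0 := by exact_mod_cast h6
      omega
    · exact h6
  have r1' : (a₁ Y₁ : ℂ) * f Y₁ + (a₁ Y₂ : ℂ) * f Y₂ = 0 := by linear_combination r1 - hX0
  have r2' : (a₂ Y₃ : ℂ) * f Y₃ + (a₂ Y₄ : ℂ) * f Y₄ = 0 := by linear_combination r2 - hX0
  constructor
  · show f Y₁ = ((a₁ Y₁ : ℂ) / 2) * ((a₁ Y₁ : ℂ) * f Y₁ - (a₁ Y₂ : ℂ) * f Y₂)
    linear_combination -f Y₁ * e1 + ((a₁ Y₁ : ℂ) / 2) * r1'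
  · show f Y₃ = ((a₂ Y₃ : ℂ) / 2) * ((a₂ Y₃ : ℂ) * f Y₃ - (a₂ Y₄ : ℂ) * f Y₄)
    linear_combination -f Y₃ * e3 + ((a₂ Y₃ : ℂ) / 2) * r2'

/-- heights of inflated characters -/
theorem height_infl (hn : 1 ≤ n) (hQ : Nat.card Q = 2) {B' : Set (IrrCharacter K)} (hd' : blockDefect 2 B' = n + 1)
    (hdn : blockDefect 2 B = n) {Y : IrrCharacter (K ⧸ Q)} (h0 : blockHeight 2 B (Y : K ⧸ Q → ℂ) = 0)
    (hY : infl Q Y ∈ B') : blockHeight 2 B' (infl Q Y : K → ℂ) = 0 := by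
  have h1 : charDegree (infl Q Y : K → ℂ) = charDegree (Y : K ⧸ Q → ℂ) := by
    unfold charDegree
    rw [infl_apply, QuotientGroup.mk_one]
  have h2 : (Nat.card K).factorization 2 = (Nat.card (K ⧸ Q)).factorization 2 + 1 := by
    rw [Subgroup.card_eq_card_quotient_mul_card_subgroup Q, hQ, Nat.factorization_mul (Nat.card_pos.ne') (by norm_num),
      Finsupp.add_apply, Nat.Prime.factorization_self Nat.prime_two]
  unfold blockHeight at h0 ⊢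
  unfold blockDefect at hd' hdn
  rw [h1]
  omega

theorem y_lift (hM : IsPModular 2 M) (hQ : Nat.card Q = 2) (hQc : Q ≤ Subgroup.center K) (hw : w ∈ Q)
    (hww : w * w = 1) (hw1 : w ≠ 1)
    (htt : t * t = w) (hz : z = (t : K ⧸ Q)) {B' : Set (IrrCharacter K)} (hB' : IsPBlock M B')
    (hd' : blockDefect 2 B' = n + 1)
    (hm : ∀ ψ ∈ B, infl Q ψ ∈ B') (D : Data h hζ a₁ a₂ u X Y₁ Y₂ Y₃ Y₄ x) (hdn : blockDefect 2 B = n)
    {c0 : IrrCharacter (K ⧸ Q) → ℤ} (hc : Std a₁ a₂ u X Y₁ Y₂ Y₃ Y₄ x c0) (hr : reg 2 (vec c0) = vec c0)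
    {τ : K} (hτ2 : orderOf τ = 2) (hτQ : τ ∉ Q) :
    blockHeight 2 B' (infl Q Y₁ : K → ℂ) = 0 ∧ blockHeight 2 B' (infl Q Y₃ : K → ℂ) = 0 ∧
    (∀ c, IsPPart 2 c τ → (infl Q Y₁ : K → ℂ) c = ((a₁ Y₁ : ℂ) / 2) * Li Q (EE a₁ Y₁ Y₂) c) ∧
    (∀ c, IsPPart 2 c τ → (infl Q Y₃ : K → ℂ) c = ((a₂ Y₃ : ℂ) / 2) * Li Q (EE a₂ Y₃ Y₄) c) := by
  have hττ : τ * τ = 1 := by rw [← pow_two, ← hτ2, pow_orderOf_eq_one]
  have hQs : ∀ s ∈ Q, s * s = 1 := by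
    intro s hs
    have h1 : orderOf (⟨s, hs⟩ : Q) ∣ 2 := by rw [← hQ]; exact orderOf_dvd_natCard _
    have h2 := orderOf_dvd_iff_pow_eq_one.1 h1
    rw [pow_two] at h2
    exact congrArg Subtype.val h2
  have key : ∀ c, IsPPart 2 c τ → 2 ∣ orderOf (c : K ⧸ Q) ∧ ∀ x : K ⧸ Q, x * z * x⁻¹ ∉ Subgroup.zpowers (c : K ⧸ Q) := by
    intro c hcp
    obtain ⟨y, h1, h2, h3, h4⟩ := hcp
    have hτc : τ ∈ Subgroup.zpowers c := H20.First.isPPart_mem_zpowers ⟨y, h1, h2, h3, h4⟩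
    have hτ1 : ((τ : K) : K ⧸ Q) ≠ 1 := fun h => hτQ ((QuotientGroup.eq_one_iff τ).1 h)
    have ho : orderOf (τ : K ⧸ Q) = 2 := by
      apply orderOf_eq_prime
      · rw [pow_two, ← QuotientGroup.mk_mul, hττ, QuotientGroup.mk_one]
      · exact hτ1
    constructor
    · rw [← ho]
      apply orderOf_dvd_of_mem_zpowers
      obtain ⟨m, hm⟩ := hτc
      exact ⟨m, congrArg (fun k : K => (k : K ⧸ Q)) hm⟩
    · intro x hx
      -- odd power of `c`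
      set r := orderOf y with hrr
      have hr1 : r % 2 = 1 := by omega
      have hcr : c ^ r = τ := by
        rw [← h1, h2.mul_pow, hrr, pow_orderOf_eq_one, mul_one, ← hrr]
        have h8 : r = 2 * (r / 2) + 1 := by omega
        rw [h8, pow_succ, pow_mul, pow_two, hττ, one_pow, one_mul]
      obtain ⟨y', rfl⟩ := QuotientGroup.mk_surjective x
      obtain ⟨m, hm⟩ := hx
      have hm' : ((c ^ m : K) : K ⧸ Q) = ((y' * t * y'⁻¹ : K) : K ⧸ Q) := by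
        have hm2 : (c : K ⧸ Q) ^ m = (y' : K ⧸ Q) * z * (y' : K ⧸ Q)⁻¹ := hm
        rw [hz] at hm2
        exact hm2
      -- the `r`-th power
      have h5 : ((τ ^ m : K) : K ⧸ Q) = (((y' * t * y'⁻¹) ^ r : K) : K ⧸ Q) := by
        rw [← hcr, ← zpow_natCast c r, ← zpow_mul, mul_comm, zpow_mul, zpow_natCast, QuotientGroup.mk_pow,
          QuotientGroup.mk_pow, hm']
      have h6 : (τ ^ m)⁻¹ * (y' * t * y'⁻¹) ^ r ∈ Q := QuotientGroup.eq.1 h5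
      set s := (τ ^ m)⁻¹ * (y' * t * y'⁻¹) ^ r with hs
      have hsc : ∀ g : K, g * s = s * g := fun g => Subgroup.mem_center_iff.1 (hQc h6) g
      have h7 : (y' * t * y'⁻¹) ^ r = τ ^ m * s := by rw [hs]; group
      have h8 : ((y' * t * y'⁻¹) ^ r) * ((y' * t * y'⁻¹) ^ r) = 1 := by
        rw [h7]
        calc τ ^ m * s * (τ ^ m * s) = τ ^ m * (s * τ ^ m) * s := by group
          _ = τ ^ m * (τ ^ m * s) * s := by rw [← hsc]
          _ = (τ ^ m * τ ^ m) * (s * s) := by group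
          _ = 1 := by
            rw [hQs s h6, mul_one, ← zpow_add, ← two_mul, zpow_mul]
            have : τ ^ (2 : ℤ) = 1 := by
              rw [show (2 : ℤ) = ((2 : ℕ) : ℤ) by norm_num, zpow_natCast, pow_two, hττ]
            rw [this, one_zpow]
      have hwc : ∀ g : K, g * w = w * g := fun g => Subgroup.mem_center_iff.1 (hQc hw) g
      have h9 : (y' * t * y'⁻¹) * (y' * t * y'⁻¹) = w := by
        calc (y' * t * y'⁻¹) * (y' * t * y'⁻¹) = y' * (t * t) * y'⁻¹ := by group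
          _ = w := by rw [htt, hwc, mul_assoc, mul_inv_cancel, mul_one]
      have h10 : w ^ r = 1 := by
        rw [← h8, ← pow_add, ← two_mul, pow_mul, pow_two, h9]
      apply hw1
      have h11 : r = 2 * (r / 2) + 1 := by omega
      rw [h11, pow_succ, pow_mul, pow_two, hww, one_pow, one_mul] at h10
      exact h10
  refine ⟨height_infl (by have := h.ds.hn; omega) hQ hd' hdn D.h1 (hm _ (Y1_mem D)), height_infl (by have := h.ds.hn; omega) hQ hd' hdn D.h3 (hm _ (Y3_mem D)), ?_, ?_⟩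
  · intro c hcp
    obtain ⟨k1, k2⟩ := key c hcp
    exact (sec_eq hM D hc hr k1 k2).1
  · intro c hcp
    obtain ⟨k1, k2⟩ := key c hcp
    exact (sec_eq hM D hc hr k1 k2).2

end H5.TEs
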