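import Cfsg.Agent.Lib.H5.TEk
import Cfsg.Agent.Lib.H5.TEs
import Cfsg.Agent.Lib.H67.SdData
import Cfsg.Agent.Lib.H83.SdSet
import Cfsg.Agent.Lib.H81.YFun

/-!
# Collected lemmas, part two
-/

set_option autoImplicit false
set_option linter.unusedSectionVars false
set_option linter.unusedVariables false

namespace H5.TEy

open Cfsg H20.Loc H20.GA H80.GA H80.GB H80.GD H80.GE H80.GF H80.GJ H80.FS H80.FS3 H84.RG H18.CharBasic H18.CharOrtho H18.CharInd H84.TrR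
open H20.Blk H20.Orth H20.Ind H20.Height H20.Defect H80.BR1 H80.BR2 H19.Second H19.Second3 H81.Section H81.Contrib H84.Star
open H5.DBa H5.DBd H5.TBa H5.TBb H5.TBe H5.TBf H5.TBg H5.TBh H5.TBi H5.TBj H78.BlkCount H5.TCa
open H5.TBc H5.TBd H5.TDa H5.TDb H5.TDe H5.TDf H5.TDg H5.TDi H5.TDj H5.TDk H5.TDl H5.TDm H20.NormQ H5.TEa H5.TEb H5.TEc
open H5.TEd H5.TEg H5.TEx H5.TEf H5.TEh H5.TEi H5.TEj H5.TEk
open scoped ComplexConjugate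

universe u

attribute [local instance 2000] Fintype.ofFinite

variable {M : Ideal AlgInt} [M.IsMaximal] {G : Type u} [Group G] [Finite G]
variable [CharP (ResF M) 2] [Algebra (ZMod 2) (ResF M)] [Algebra.IsAlgebraic (ZMod 2) (ResF M)]
  [IsAlgClosed (ResF M)]

theorem setup (hM : IsPModular 2 M) {B : Set (IrrCharacter G)} (hB : IsPBlock M B) {D : Subgroup G}
    (hD : IsDefectGroup 2 M B D) {k : ℕ} (hk : 3 ≤ k) (hcard : Nat.card D = 2 ^ (k + 1)) {z : G} (hzD : z ∈ D)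
    (hzo : orderOf z = 2) (hzc : ∀ d ∈ D, d * z = z * d)
    (hsq : ∀ d ∈ D, d ≠ 1 → d ≠ z → (∀ x ∈ D, x * d * x⁻¹ = d ∨ x * d * x⁻¹ = d * z) → d * d = z)
    (hdih : ∀ (E : Type u) [Group E] (f : D →* E), Function.Surjective f →
      (∀ d : D, f d = 1 ↔ (d : G) = 1 ∨ (d : G) = z) → Nonempty (E ≃* DihedralGroup (2 ^ (k - 1)))) :
    ∃ (b : Set (IrrCharacter (C z))) (Q : Subgroup (C z)) (_ : Q.Normal) (t : C z)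
      (B' : Set (IrrCharacter (C z ⧸ Q))) (z' : C z ⧸ Q) (b' : Set (IrrCharacter (C z'))) (P : Subgroup (C z'))
      (e : MonoidAlgebra (ResF M) (C z')) (S : Sylow 2 P) (σ : P) (ψ : IrrCharacter (C z')),
      IsPBlock M b ∧ IsInducedBlock M (C z) b B ∧ IsDefectGroup 2 M b (D.subgroupOf (C z)) ∧
      blockDefect 2 b = k + 1 ∧ blockDefect 2 B = k + 1 ∧
      Nat.card Q = 2 ∧ Q ≤ Subgroup.center (C z) ∧ (∀ s ∈ Q, s * s = 1) ∧ (∀ s ∈ Q, s = 1 ∨ s = cy z) ∧ cy z ∈ Q ∧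
      t ∈ D.subgroupOf (C z) ∧ t * t = cy z ∧ z' = (t : C z ⧸ Q) ∧
      (∀ χ : IrrCharacter (C z ⧸ Q), H20.NormQ.infl Q χ ∈ b ↔ χ ∈ B') ∧ blockRank 2 b = blockRank 2 B' ∧
      blockDefect 2 B' = k ∧ Nat.card B' = 2 ^ (k - 2) + 3 ∧ H5.TBj.Loc M B' k z' b' P e S σ ψ :=
  H83.SdSet.setup hM hB hD hk hcard hzD hzo hzc hsq hdih

theorem y_fun (hM : IsPModular 2 M) {b : Set (IrrCharacter G)} (hb : IsPBlock M b) {D : Subgroup G}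
    (hD : IsDefectGroup 2 M b D) {w τ : G} (hτ : τ ∈ D) (hτ2 : orderOf τ = 2) (hw2 : orderOf w = 2)
    (hwc : ∀ g : G, g * w = w * g) (hτw : τ ≠ w)
    (hall : ∀ d ∈ D, d ≠ 1 → w ∈ Subgroup.zpowers d ∨ ∃ x ∈ D, d = x * τ * x⁻¹)
    {E E' : G → ℂ} (hE : E ∈ spn b) (hE' : E' ∈ spn b) (hr : reg 2 E = 0) (hr' : reg 2 E' = 0)
    (hi : ∀ c, E (w * c) = E c) (hi' : ∀ c, E' (w * c) = E' c) (ho : classInner E E' = 0)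
    {Y Y' : IrrCharacter G} (hY : Y ∈ b) (hY' : Y' ∈ b) (h0 : blockHeight 2 b (Y : G → ℂ) = 0)
    (h0' : blockHeight 2 b (Y' : G → ℂ) = 0) {a a' : ℂ} (ha : ∀ c, IsPPart 2 c τ → (Y : G → ℂ) c = a * E c)
    (ha' : ∀ c, IsPPart 2 c τ → (Y' : G → ℂ) c = a' * E' c) :
    ∃ φ : G → ℂ, φ ∈ spn b ∧ φ ≠ 0 ∧ (∀ c, φ c ≠ 0 → w ∈ Subgroup.zpowers c ∧ 2 ∣ orderOf (w * c)) ∧
      (∀ c, φ (w * c) = φ c) ∧
      (φ = {c | w ∈ Subgroup.zpowers c}.indicator E ∨ φ = {c | w ∈ Subgroup.zpowers c}.indicator E') :=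
  H81.YFun.y_fun hM hb hD hτ hτ2 hw2 hwc hτw hall hE hE' hr hr' hi hi' ho hY hY' h0 h0' ha ha'

section main
variable {K : Type u} [Group K] [Finite K]
variable {Q : Subgroup K} [Q.Normal] {w t : K}
variable {B : Set (IrrCharacter (K ⧸ Q))} {n : ℕ} {z : K ⧸ Q} {b : Set (IrrCharacter (C z))}
    {P : Subgroup (C z)} {e : MonoidAlgebra (ResF M) (C z)} {S : Sylow 2 P} {σ : P}
    {ψ : IrrCharacter (C z)} {ζ : ℂ}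
variable {a₁ a₂ : IrrCharacter (K ⧸ Q) → ℤ} {u : Fin (2 ^ (n - 2) - 2) → IrrCharacter (K ⧸ Q) → ℤ}
    {X Y₁ Y₂ Y₃ Y₄ : IrrCharacter (K ⧸ Q)}
    {x : Fin (2 ^ (n - 2) - 2) → IrrCharacter (K ⧸ Q)} {h : Loc M B n z b P e S σ ψ} {hζ : IsPrimitiveRoot ζ (2 ^ (n - 1))}

theorem ee_perp (D : Data h hζ a₁ a₂ u X Y₁ Y₂ Y₃ Y₄ x) :
    (classInner (EE a₁ Y₁ Y₂) (Th 2 P e (ψ : C z → ℂ) (va h.ds hζ)) = 0 ∧
      classInner (EE a₁ Y₁ Y₂) (Th 2 P e (ψ : C z → ℂ) (vb h.ds hζ)) = 0 ∧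
      ∀ j, classInner (EE a₁ Y₁ Y₂) (Th 2 P e (ψ : C z → ℂ) (vc h.ds hζ j)) = 0) ∧
    (classInner (EE a₂ Y₃ Y₄) (Th 2 P e (ψ : C z → ℂ) (va h.ds hζ)) = 0 ∧
      classInner (EE a₂ Y₃ Y₄) (Th 2 P e (ψ : C z → ℂ) (vb h.ds hζ)) = 0 ∧
      ∀ j, classInner (EE a₂ Y₃ Y₄) (Th 2 P e (ψ : C z → ℂ) (vc h.ds hζ j)) = 0) :=
  H5.TEs.ee_perp D

theorem y_lift (hM : IsPModular 2 M) (hQ : Nat.card Q = 2) (hQc : Q ≤ Subgroup.center K) (hw : w ∈ Q)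
    (hww : w * w = 1) (hw1 : w ≠ 1)
    (htt : t * t = w) (hz : z = (t : K ⧸ Q)) {B' : Set (IrrCharacter K)} (hB' : IsPBlock M B')
    (hd' : blockDefect 2 B' = n + 1)
    (hm : ∀ ψ ∈ B, infl Q ψ ∈ B') (D : Data h hζ a₁ a₂ u X Y₁ Y₂ Y₃ Y₄ x) (hdn : blockDefect 2 B = n)
    {c0 : IrrCharacter (K ⧸ Q) → ℤ} (hc : Std a₁ a₂ u X Y₁ Y₂ Y₃ Y₄ x c0) (hr : reg 2 (vec c0) = vec c0)
    (hl : blockRank 2 B = 1) (h1 : reg 2 (EE a₁ Y₁ Y₂) = 0) (h3 : reg 2 (EE a₂ Y₃ Y₄) = 0)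
    {τ : K} (hτ2 : orderOf τ = 2) (hτQ : τ ∉ Q) :
    blockHeight 2 B' (infl Q Y₁ : K → ℂ) = 0 ∧ blockHeight 2 B' (infl Q Y₃ : K → ℂ) = 0 ∧
    (∀ c, IsPPart 2 c τ → (infl Q Y₁ : K → ℂ) c = ((a₁ Y₁ : ℂ) / 2) * Li Q (EE a₁ Y₁ Y₂) c) ∧
    (∀ c, IsPPart 2 c τ → (infl Q Y₃ : K → ℂ) c = ((a₂ Y₃ : ℂ) / 2) * Li Q (EE a₂ Y₃ Y₄) c) :=
  H5.TEs.y_lift hM hQ hQc hw hww hw1 htt hz hB' hd' hm D hdn hc hr hτ2 hτQ

end main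

end H5.TEy
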