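import Cfsg.Agent.Lib.H5.TEo
import Cfsg.Agent.Lib.H5.TEy
import Cfsg.Agent.Lib.H81.QTop
import Cfsg.Agent.Lib.H77.QNum
import Cfsg.Agent.Lib.H83.QDiff
import Cfsg.Agent.Lib.H83.SdSet3
import Cfsg.Agent.Lib.H7.QData
import Cfsg.Agent.Lib.H7.QNum8
import Cfsg.Agent.Lib.H81.Q8Pack
import Cfsg.Agent.Lib.H84.Klein

/-!
# Block invariants of quaternion defect groups: collected lemmas
-/

set_option autoImplicit false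
set_option linter.unusedSectionVars false
set_option linter.unusedVariables false


namespace H5.TEzn
open H5.TEg H5.TBc

variable {I : Type*} [DecidableEq I] {S : Finset I} {ht : I → ℕ} {q : ℕ} {c : I → ℤ} {Mz : I → I → ℤ}

theorem conc3 [Fintype I] {A₁ A₃ : I → ℤ} {N : ℕ} (hN1 : 1 ≤ N) (hqN : q = 2 ^ N) (h : Num S ht q c Mz)
    (hMz : ∀ i j, Mz i j = c i * c j + 2 * q * (A₁ i * A₁ j + A₃ i * A₃ j))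
    (h11 : ∑ i ∈ S, A₁ i * A₁ i = 4) (h33 : ∑ i ∈ S, A₃ i * A₃ i = 4) (h13 : ∑ i ∈ S, A₁ i * A₃ i = 0)
    (hAc : ∀ i ∈ S, (A₁ i + A₃ i + c i) % 2 = 0) (o1 : ∑ i ∈ S, A₁ i * c i = 0) (o3 : ∑ i ∈ S, A₃ i * c i = 0)
    (hN : 2 * q + 3 ≤ S.card) {a₁ a₂ : I → ℤ} {X Y₁ Y₂ Y₃ Y₄ : I} (t : Two a₁ a₂ X Y₁ Y₂ Y₃ Y₄)
    (hO : ∀ i, (i ∈ S ∧ c i % 2 = 1) ↔ i = Y₁ ∨ i = Y₂ ∨ i = Y₃ ∨ i = Y₄) (hX : X ∈ S)
    (c1 : a₁ X * c X + a₁ Y₁ * c Y₁ + a₁ Y₂ * c Y₂ = 0) (c2 : a₁ X * c X + a₂ Y₃ * c Y₃ + a₂ Y₄ * c Y₄ = 0)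
    (r1 : a₁ X * A₁ X + a₁ Y₁ * A₁ Y₁ + a₁ Y₂ * A₁ Y₂ = 0) (r2 : a₁ X * A₁ X + a₂ Y₃ * A₁ Y₃ + a₂ Y₄ * A₁ Y₄ = 0)
    (r3 : a₁ X * A₃ X + a₁ Y₁ * A₃ Y₁ + a₁ Y₂ * A₃ Y₂ = 0) (r4 : a₁ X * A₃ X + a₂ Y₃ * A₃ Y₃ + a₂ Y₄ * A₃ Y₄ = 0) :
    S.card ≤ 2 * q + 5 ∧ (S.filter (fun i => ht i = 1)).card = 2 * q - 1 ∧
      ∀ i ∈ S, ht i = 0 ∨ ht i = 1 ∨ ht i = N + 1 :=
  H77.QNum.conc3 hN1 hqN h hMz h11 h33 h13 hAc o1 o3 hN t hO hX c1 c2 r1 r2 r3 r4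

theorem q8_one {c f₁ f₂ : I → ℤ} (hMz : ∀ i j, Mz i j = c i * c j) (hc : ∑ i ∈ S, c i * c i = 8)
    (h11 : ∑ i ∈ S, f₁ i * f₁ i = 2) (h22 : ∑ i ∈ S, f₂ i * f₂ i = 2) (h12 : ∑ i ∈ S, f₁ i * f₂ i = 0)
    (hodd : ∃ i ∈ S, (f₁ i + f₂ i) % 2 = 1) (par : ∀ i ∈ S, (f₁ i + f₂ i + c i) % 2 = 0)
    (val : ∀ i ∈ S, ∀ j ∈ S, ht j = 0 → (2 : ℤ) ^ ht i ∣ Mz i j ∧ ¬ (2 : ℤ) ^ (ht i + 1) ∣ Mz i j)
    (ex0 : ∃ j ∈ S, ht j = 0) :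
    S.card = 5 ∧ (S.filter (fun i => ht i = 0)).card = 4 ∧ ∀ i ∈ S, ht i = 0 ∨ ht i = 1 :=
  H7.QNum8.q8_one hMz hc h11 h22 h12 hodd par val ex0

theorem q8_three {c : Fin 3 → I → ℤ} {f : I → ℤ} (hMz : ∀ i j, Mz i j = ∑ m, c m i * c m j)
    (hcc : ∀ m m', ∑ i ∈ S, c m i * c m' i = if m = m' then 8 else 0) (hff : ∑ i ∈ S, f i * f i = 4)
    (hf : ∀ i ∈ S, f i = 0 ∨ f i = 1 ∨ f i = -1) (hfc : ∀ m, ∑ i ∈ S, f i * c m i = 0)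
    (par : ∀ m, ∀ i ∈ S, (f i + c m i) % 2 = 0)
    (val : ∀ i ∈ S, ∀ j ∈ S, ht j = 0 → (2 : ℤ) ^ ht i ∣ Mz i j ∧ ¬ (2 : ℤ) ^ (ht i + 1) ∣ Mz i j)
    (ex0 : ∃ j ∈ S, ht j = 0) :
    S.card = 7 ∧ (S.filter (fun i => ht i = 0)).card = 4 ∧ ∀ i ∈ S, ht i = 0 ∨ ht i = 1 :=
  H7.QNum8.q8_three hMz hcc hff hf hfc par val ex0

end H5.TEzn

namespace H5.TEz

open Cfsg H20.Loc H20.GA H80.GA H80.GB H80.GD H80.GE H80.GF H80.GJ H80.FS H80.FS3 H84.RG H18.CharBasic H18.CharOrtho H18.CharInd H84.TrR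
open H20.Blk H20.Orth H20.Ind H20.Height H20.Defect H80.BR1 H80.BR2 H19.Second H19.Second3 H81.Section H81.Contrib H84.Star
open H5.DBa H5.DBd H5.TBa H5.TBb H5.TBe H5.TBf H5.TBg H5.TBh H5.TBi H5.TBj H78.BlkCount H5.TCa
open H5.TBc H5.TBd H5.TDa H5.TDb H5.TDe H5.TDf H5.TDg H5.TDi H5.TDj H5.TDk H5.TDl H5.TDm H20.NormQ H5.TEa H5.TEb H5.TEc
open H5.TEd H5.TEg H5.TEx H5.TEf H5.TEh H5.TEi H5.TEj H5.TEk H5.TEn H5.TEo H5.TEy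
open scoped ComplexConjugate

universe u

attribute [local instance 2000] Fintype.ofFinite

variable {M : Ideal AlgInt} [M.IsMaximal] {G : Type u} [Group G] [Finite G]
variable [CharP (ResF M) 2] [Algebra (ZMod 2) (ResF M)] [Algebra.IsAlgebraic (ZMod 2) (ResF M)]
  [IsAlgClosed (ResF M)]

theorem rank_diff_le (hM : IsPModular 2 M) {B : Set (IrrCharacter G)} (hB : IsPBlock M B) {D : Subgroup G}
    (hD : IsDefectGroup 2 M B D) {z : G} (hzD : z ∈ D) (hz : orderOf z = 2)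
    (hall : ∀ d ∈ D, d ≠ 1 → z ∈ Subgroup.zpowers d) {b : Set (IrrCharacter (C z))}
    (hind : IsInducedBlock M (C z) b B) : Nat.card B + blockRank 2 b ≤ Nat.card b + blockRank 2 B :=
  H83.QDiff.rank_diff_le hM hB hD hzD hz hall hind

theorem rank_top (hM : IsPModular 2 M) {w : G} (hw : ∀ g, g * w = w * g) {b' : Set (IrrCharacter (C w))}
    {b : Set (IrrCharacter G)} (hind : IsInducedBlock M (C w) b' b) :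
    blockRank 2 b' = blockRank 2 b ∧ Nat.card b' = Nat.card b := H81.QTop.rank_top hM hw hind

theorem ev_of_reg0 (hM : IsPModular 2 M) {b : Set (IrrCharacter G)} (hb : IsPBlock M b) {D : Subgroup G}
    (hD : IsDefectGroup 2 M b D) {w : G} (hwc : ∀ g : G, g * w = w * g)
    (hall : ∀ d ∈ D, d ≠ 1 → w ∈ Subgroup.zpowers d) {E : G → ℂ} (hE : E ∈ spn b) (hr : reg 2 E = 0)
    (hi : ∀ c, E (w * c) = E c) : ∀ c, E c ≠ 0 → w ∈ Subgroup.zpowers c ∧ 2 ∣ orderOf (w * c) :=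
  H81.QTop.ev_of_reg0 hM hb hD hwc hall hE hr hi

theorem klein_data (hM : IsPModular 2 M) {B : Set (IrrCharacter G)} (hB : IsPBlock M B) {D : Subgroup G}
    (hD : IsDefectGroup 2 M B D) (hc : Nat.card D = 4) (hsq : ∀ d ∈ D, d * d = 1) :
    blockDefect 2 B = 2 ∧ ∃ (Y : Fin 4 → IrrCharacter G) (δ : Fin 4 → ℤ), Function.Injective Y ∧ (∀ χ, χ ∈ B ↔ ∃ i, χ = Y i) ∧
      (∀ i, δ i = 1 ∨ δ i = -1) ∧ (∀ i, blockHeight 2 B (Y i : G → ℂ) = 0) ∧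
      ((blockRank 2 B = 1 ∧ ∀ i j, reg 2 ((δ i : ℂ) • (Y i : G → ℂ)) = reg 2 ((δ j : ℂ) • (Y j : G → ℂ))) ∨
        (blockRank 2 B = 3 ∧ reg 2 (∑ i, (δ i : ℂ) • (Y i : G → ℂ)) = 0)) :=
  H84.KL.klein_data hM hB hD hc hsq

theorem setup3 (hM : IsPModular 2 M) {B : Set (IrrCharacter G)} (hB : IsPBlock M B) {D : Subgroup G}
    (hD : IsDefectGroup 2 M B D) (hcard : Nat.card D = 8) {z : G} (hzD : z ∈ D)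
    (hzo : orderOf z = 2) (hzc : ∀ d ∈ D, d * z = z * d) (hsq : ∀ d ∈ D, d ≠ 1 → d ≠ z → d * d = z) :
    ∃ (b : Set (IrrCharacter (C z))) (Q : Subgroup (C z)) (_ : Q.Normal)
      (B' : Set (IrrCharacter (C z ⧸ Q))) (D' : Subgroup (C z ⧸ Q)),
      IsPBlock M b ∧ IsInducedBlock M (C z) b B ∧ IsDefectGroup 2 M b (D.subgroupOf (C z)) ∧
      blockDefect 2 b = 3 ∧ blockDefect 2 B = 3 ∧
      Nat.card Q = 2 ∧ Q ≤ Subgroup.center (C z) ∧ (∀ s ∈ Q, s * s = 1) ∧ (∀ s ∈ Q, s = 1 ∨ s = cy z) ∧ cy z ∈ Q ∧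
      IsPBlock M B' ∧ IsDefectGroup 2 M B' D' ∧ Nat.card D' = 4 ∧ (∀ d ∈ D', d * d = 1) ∧
      (∀ χ : IrrCharacter (C z ⧸ Q), H20.NormQ.infl Q χ ∈ b ↔ χ ∈ B') ∧ blockRank 2 b = blockRank 2 B' ∧
      blockDefect 2 B' = 2 :=
  H83.SdSet3.setup3 hM hB hD hcard hzD hzo hzc hsq

theorem q8_pack (hM : IsPModular 2 M) {K : Type u} [Group K] [Finite K] {Q : Subgroup K} [Q.Normal] {w : K}
    (hQ : Nat.card Q = 2) (hQc : Q ≤ Subgroup.center K) (hQs : ∀ s ∈ Q, s * s = 1) (hQe : ∀ s ∈ Q, s = 1 ∨ s = w)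
    (hw : w ∈ Q) (hw2 : orderOf w = 2) {b : Set (IrrCharacter K)} (hb : IsPBlock M b) {D : Subgroup K}
    (hD : IsDefectGroup 2 M b D) (hall : ∀ d ∈ D, d ≠ 1 → w ∈ Subgroup.zpowers d) (hdb : blockDefect 2 b = 3)
    {B : Set (IrrCharacter (K ⧸ Q))} (hm : ∀ χ, infl Q χ ∈ b ↔ χ ∈ B) (hrk : blockRank 2 b = blockRank 2 B)
    (hB : IsPBlock M B) (hdB : blockDefect 2 B = 2)
    (hodd : ∀ ξ ∈ b, blockHeight 2 b (ξ : K → ℂ) = 0 → (ξ : K → ℂ) w = (ξ : K → ℂ) 1)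
    {Y : Fin 4 → IrrCharacter (K ⧸ Q)} {δ : Fin 4 → ℤ} (hY : Function.Injective Y) (hYB : ∀ χ, χ ∈ B ↔ ∃ i, χ = Y i)
    (hδ : ∀ i, δ i = 1 ∨ δ i = -1) (h0 : ∀ i, blockHeight 2 B (Y i : K ⧸ Q → ℂ) = 0)
    (hcase : (blockRank 2 B = 1 ∧ ∀ i j, reg 2 ((δ i : ℂ) • (Y i : K ⧸ Q → ℂ)) = reg 2 ((δ j : ℂ) • (Y j : K ⧸ Q → ℂ))) ∨
        (blockRank 2 B = 3 ∧ reg 2 (∑ i, (δ i : ℂ) • (Y i : K ⧸ Q → ℂ)) = 0)) :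
    (blockRank 2 b = 1 ∧ ∃ C0 F₁ F₂ F₃ W : K → ℂ, C0 ∈ Vb 2 b ∧ IsGeneralizedCharacter K C0 ∧ classInner C0 C0 = 8 ∧
      EvF b w F₁ ∧ EvF b w F₂ ∧ EvF b w F₃ ∧ IsGeneralizedCharacter K F₁ ∧ IsGeneralizedCharacter K F₂ ∧
      classInner F₁ F₁ = 2 ∧ classInner F₂ F₂ = 2 ∧ classInner F₃ F₃ = 2 ∧ classInner F₁ F₂ = 0 ∧
      classInner F₁ F₃ = -1 ∧ classInner F₂ F₃ = -1 ∧ IsGeneralizedCharacter K W ∧ F₁ + F₂ + sh w C0 = (2 : ℂ) • W) ∨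
    (blockRank 2 b = 3 ∧ ∃ (Cm : Fin 3 → K → ℂ) (F : K → ℂ) (W : Fin 3 → K → ℂ),
      (∀ m, Cm m ∈ Vb 2 b ∧ IsGeneralizedCharacter K (Cm m)) ∧
      (∀ m m', classInner (Cm m) (Cm m') = if m = m' then 8 else 0) ∧ EvF b w F ∧ IsGeneralizedCharacter K F ∧
      classInner F F = 4 ∧ ∀ m, IsGeneralizedCharacter K (W m) ∧ F + sh w (Cm m) = (2 : ℂ) • W m) :=
  H81.Q8Pack.q8_pack hM hQ hQc hQs hQe hw hw2 hb hD hall hdb hm hrk hB hdB hodd hY hYB hδ h0 hcase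

end H5.TEz

namespace H5.TEzq
universe u
open Cfsg
theorem q_data {D : Type u} [Group D] [Finite D] {n : ℕ} (hn : 3 ≤ n) (φ : D ≃* QuaternionGroup (2 ^ (n - 2))) :
    Nat.card D = 2 ^ n ∧ ∃ s t z y : D, orderOf s = 2 ^ (n - 1) ∧ t ∈ Subgroup.zpowers s ∧ orderOf t = 4 ∧
      t * t = z ∧ orderOf z = 2 ∧ (∀ d, d * z = z * d) ∧ (∀ d, d * t * d⁻¹ = t ∨ d * t * d⁻¹ = t⁻¹) ∧
      y * t * y⁻¹ = t⁻¹ ∧ (∀ d, d ≠ 1 → z ∈ Subgroup.zpowers d) ∧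
      (∀ d, d ≠ 1 → d ≠ z → (∀ x, x * d * x⁻¹ = d ∨ x * d * x⁻¹ = d * z) → d * d = z) ∧
      ∀ (E : Type u) [Group E] (f : D →* E), Function.Surjective f → (∀ d, f d = 1 ↔ d = 1 ∨ d = z) →
        Nonempty (E ≃* DihedralGroup (2 ^ (n - 2))) :=
  H7.QData.q_data hn φ
end H5.TEzq
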